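import Mathlib
import Cfsg.Prelude.Def_FusionSystem
import Cfsg.Agent.Lib.Fusion.Basic
import Cfsg.Agent.Lib.Fusion.Saturation
import Cfsg.Agent.Lib.Fusion.Normal
import Cfsg.Agent.Lib.Fusion.Alperin
import Cfsg.Agent.Lib.Fusion.NormalCriteria
import Cfsg.Agent.Lib.Fusion.InnerSubsystem

/-!
With nilpotency class at most `n (p - 1) + 1` the `p ^ n`-th powers of the centre form a normal
subgroup.
-/

set_option autoImplicit false

open scoped Classical commutatorElement IsMulCommutative

namespace Cfsg.Lib.Fusion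

open Cfsg Cfsg.FusionSystem

universe u

/-- An endomorphism fixing `w` after `p` steps and unipotent of degree `n (p - 1) + 1` fixes
`p ^ n` times `w`. -/
theorem pow_nsmul_eq_zero {E : Type*} [AddCommGroup E] {p n c : ℕ} (hp : p.Prime)
    (hc : c ≤ 1 + n * (p - 1)) (d : AddMonoid.End E) (hd : d ^ c = 0) {w : E}
    (hw : ((1 + d) ^ p) w = w) : d ((p ^ n) • w) = 0 := by
  obtain ⟨r, hr⟩ := exists_add_pow_prime_eq (R := Polynomial ℤ) hp Polynomial.X 1
  obtain ⟨t, ht⟩ : Polynomial.X ∣ r - 1 := by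
    rw [Polynomial.X_dvd_iff]
    have h1 := congrArg (fun f => Polynomial.coeff f 1) hr
    simp only [one_pow, mul_one, Polynomial.coeff_X_add_one_pow, Nat.choose_one_right,
      Polynomial.coeff_add, Polynomial.coeff_X_pow, Polynomial.coeff_one] at h1
    rw [if_neg (Ne.symm hp.ne_one), if_neg (by norm_num), zero_add, zero_add,
      mul_right_comm, Polynomial.coeff_mul_X (n := 0), Polynomial.coeff_natCast_mul] at h1
    rw [Polynomial.coeff_sub, Polynomial.coeff_one_zero, sub_eq_zero]
    have hp0 : (p : ℤ) ≠ 0 := by exact_mod_cast hp.ne_zero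
    exact (mul_left_cancel₀ hp0 (by rw [mul_one]; exact_mod_cast h1)).symm
  set rel : Polynomial ℤ := Polynomial.X ^ p + (p : Polynomial ℤ) * Polynomial.X +
    (p : Polynomial ℤ) * Polynomial.X ^ 2 * t with hreldef
  have hrel : Polynomial.aeval d rel w = 0 := by
    have h : rel = (Polynomial.X + 1) ^ p - 1 := by
      rw [hreldef, hr, show r = 1 + Polynomial.X * t by rw [← ht]; ring]; ring
    rw [h, map_sub, map_pow, map_add, Polynomial.aeval_X, map_one, add_comm d]
    show ((1 + d) ^ p) w - w = 0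
    rw [hw, sub_self]
  have hmul : ∀ g : Polynomial ℤ, Polynomial.aeval d (g * rel) w = 0 := fun g => by
    rw [map_mul]
    show Polynomial.aeval d g (Polynomial.aeval d rel w) = 0
    rw [hrel, map_zero]
  have hbig : ∀ (m : ℕ) (f : Polynomial ℤ), c ≤ m →
      Polynomial.aeval d (f * Polynomial.X ^ m) = 0 := fun m f hm => by
    rw [map_mul, map_pow, Polynomial.aeval_X, show m = c + (m - c) by omega, pow_add, hd, zero_mul,
      mul_zero]
  have key : ∀ i m : ℕ, 1 ≤ m → c ≤ m + i * (p - 1) → ∀ f : Polynomial ℤ,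
      Polynomial.aeval d ((p : Polynomial ℤ) ^ i * f * Polynomial.X ^ m) w = 0 := by
    intro i
    induction i with
    | zero =>
      intro m _ hm f
      rw [hbig m _ (by omega)]
      rfl
    | succ i ih =>
      intro m
      induction' hk : c - m using Nat.strong_induction_on with k ihk generalizing m
      intro hm1 hm f
      by_cases hcm : c ≤ m
      · rw [hbig m _ hcm]; rfl
      obtain ⟨m, rfl⟩ : ∃ m', m = m' + 1 := ⟨m - 1, by omega⟩
      have h1 := ih (m + p) (by have := hp.one_lt; omega) (by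
        have := hp.one_lt
        rw [Nat.succ_mul] at hm
        omega) f
      have h2 := ihk _ (show c - (m + 2) < k by omega) (m + 2) rfl (by omega) (by omega) (t * f)
      have h3 := hmul ((p : Polynomial ℤ) ^ i * f * Polynomial.X ^ m)
      rw [show (p : Polynomial ℤ) ^ i * f * Polynomial.X ^ m * rel =
          (p : Polynomial ℤ) ^ i * f * Polynomial.X ^ (m + p) +
          (p : Polynomial ℤ) ^ (i + 1) * f * Polynomial.X ^ (m + 1) +
          (p : Polynomial ℤ) ^ (i + 1) * (t * f) * Polynomial.X ^ (m + 2) by rw [hreldef]; ring,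
        map_add, map_add] at h3
      change _ + _ + _ = (0 : E) at h3
      erw [h1, h2] at h3
      exact ((zero_add _).symm.trans ((add_zero _).symm.trans h3))
  have h := key n 1 le_rfl (by omega) 1
  rw [mul_one, pow_one, map_mul, map_pow, map_natCast, Polynomial.aeval_X, ← Nat.cast_pow] at h
  rw [map_nsmul, ← AddMonoid.End.natCast_apply]
  exact h

/-- The same for a multiplicative abelian group. -/
theorem pow_fixed_of_unipotent {M : Type*} [CommGroup M] {p n c : ℕ} (hp : p.Prime)
    (hc : c ≤ 1 + n * (p - 1)) (A : MulAut M)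
    (hd : ∀ v, (fun x => A x * x⁻¹)^[c] v = 1) {w : M} (hw : (A ^ p) w = w) :
    A (w ^ p ^ n) = w ^ p ^ n := by
  let α : AddMonoid.End (Additive M) := MonoidHom.toAdditive A.toMonoidHom
  have hα : ∀ x : M, α (Additive.ofMul x) = Additive.ofMul (A x) := fun x => rfl
  set d : AddMonoid.End (Additive M) := α - 1 with hddef
  have hd' : ∀ x : M, d (Additive.ofMul x) = Additive.ofMul (A x * x⁻¹) := fun x => by
    show α (Additive.ofMul x) - Additive.ofMul x = _
    rw [hα, ofMul_mul, ofMul_inv, sub_eq_add_neg]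
  have hdi : ∀ (i : ℕ) (x : M),
      (d ^ i) (Additive.ofMul x) = Additive.ofMul ((fun x => A x * x⁻¹)^[i] x) := by
    intro i
    induction i with
    | zero => intro x; rfl
    | succ i ih =>
      intro x
      rw [pow_succ', Function.iterate_succ_apply']
      show d ((d ^ i) (Additive.ofMul x)) = _
      rw [ih, hd']
  have hαi : ∀ (i : ℕ) (x : M), (α ^ i) (Additive.ofMul x) = Additive.ofMul ((A ^ i) x) := by
    intro i
    induction i with
    | zero => intro x; rfl
    | succ i ih =>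
      intro x
      rw [pow_succ', pow_succ']
      show α ((α ^ i) (Additive.ofMul x)) = _
      rw [ih, hα]
      rfl
  have h := pow_nsmul_eq_zero (n := n) hp hc d (AddMonoidHom.ext fun x => by
    obtain ⟨x, rfl⟩ := Additive.ofMul.surjective x
    refine (hdi c x).trans ?_
    rw [hd]
    rfl) (w := Additive.ofMul w) (by
    rw [hddef, add_sub_cancel, hαi, hw])
  rw [← ofMul_pow, hd'] at h
  exact mul_inv_eq_one.1 (Additive.ofMul.injective (h.trans ofMul_one.symm))

/-- A finite group acting on an abelian group preserves the powers of the fixed points of a Sylow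
subgroup acting unipotently of small degree. -/
theorem preserved_of_unipotent {A : Type*} [Group A] [Finite A] {p n c : ℕ} [hp : Fact p.Prime]
    {M : Type*} [CommGroup M] (ψ : A →* MulAut M) (hc : c ≤ 1 + n * (p - 1)) (T : Sylow p A)
    (hd : ∀ a ∈ (T : Subgroup A), ∀ v, (fun x => ψ a x * x⁻¹)^[c] v = 1) (K : Set M)
    (hK : ∀ k ∈ K, ∃ z, (∀ a ∈ (T : Subgroup A), ψ a z = z) ∧ k = z ^ p ^ n)
    (hN : ∀ g ∈ Subgroup.normalizer ((T : Subgroup A) : Set A), ∀ k ∈ K, ψ g k ∈ K) :
    ∀ g : A, ∀ k ∈ K, ψ g k ∈ K := by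
  intro g
  induction' hm : Nat.card (T : Subgroup A) -
      Nat.card ↥((T : Subgroup A) ⊓ (T : Subgroup A).map (MulAut.conj g).toMonoidHom) using
    Nat.strong_induction_on with m ih generalizing g
  intro k hk
  set D := (T : Subgroup A) ⊓ (T : Subgroup A).map (MulAut.conj g).toMonoidHom with hD
  by_cases hDT : D = (T : Subgroup A)
  · have hle : (T : Subgroup A) ≤ (T : Subgroup A).map (MulAut.conj g).toMonoidHom :=
      inf_eq_left.1 hDT
    have he := Subgroup.eq_of_le_of_card_ge hle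
      (Subgroup.card_map_of_injective (MulAut.conj g).injective).le
    refine hN g (Subgroup.mem_normalizer_iff.2 fun x => ⟨fun hx => he ▸ ⟨x, hx, rfl⟩, fun hx => ?_⟩) k hk
    rw [he] at hx
    obtain ⟨y, hy, hye⟩ := hx
    exact (MulAut.conj g).injective hye ▸ hy
  -- an element normalizing `D`, of order `p` modulo it
  obtain ⟨b, hbT, hbN, hbD⟩ : ∃ b ∈ (T : Subgroup A), b ∈ Subgroup.normalizer (D : Set A) ∧ b ∉ D := by
    have hlt : D.subgroupOf T < ⊤ := lt_top_iff_ne_top.2 fun h =>
      hDT (le_antisymm inf_le_left (Subgroup.subgroupOf_eq_top.1 h))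
    have := T.isPGroup'.isNilpotent
    obtain ⟨⟨b, hbT⟩, hbn, hbD⟩ :=
      SetLike.exists_of_lt (Group.normalizerCondition_of_isNilpotent _ hlt)
    refine ⟨b, hbT, Subgroup.mem_normalizer_iff.2 fun x => ?_, hbD⟩
    have h := Subgroup.mem_normalizer_iff.1 hbn
    refine ⟨fun hx => (h ⟨x, (inf_le_left : D ≤ _) hx⟩).1 hx, fun hx => ?_⟩
    have hxT : x ∈ (T : Subgroup A) := by
      have h1 := mul_mem (mul_mem (inv_mem hbT) ((inf_le_left : D ≤ _) hx)) hbT
      simpa [mul_assoc] using h1
    exact (h ⟨x, hxT⟩).2 hx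
  obtain ⟨a, haT, haN, haD, hap⟩ : ∃ a ∈ (T : Subgroup A),
      a ∈ Subgroup.normalizer (D : Set A) ∧ a ∉ D ∧ a ^ p ∈ D := by
    have hex : ∃ j, b ^ p ^ j ∈ D := by
      obtain ⟨j, hj⟩ := T.isPGroup' ⟨b, hbT⟩
      exact ⟨j, by rw [show b ^ p ^ j = 1 from congrArg Subtype.val hj]; exact one_mem _⟩
    have hj := Nat.find_spec hex
    obtain ⟨i, hi⟩ : ∃ i, Nat.find hex = i + 1 := by
      refine ⟨Nat.find hex - 1, ?_⟩
      have : Nat.find hex ≠ 0 := fun h0 => hbD (by simpa [h0] using hj)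
      omega
    refine ⟨b ^ p ^ i, pow_mem hbT _, pow_mem hbN _, Nat.find_min hex (by omega), ?_⟩
    rwa [← pow_mul, ← pow_succ, ← hi]
  obtain ⟨z, hz, rfl⟩ := hK k hk
  -- `a` fixes the moved points
  have hafix : ∀ k' ∈ K, ψ a (ψ g k') = ψ g k' := by
    intro k' hk'
    obtain ⟨z', hz', rfl⟩ := hK k' hk'
    rw [map_pow]
    refine pow_fixed_of_unipotent hp.out hc (ψ a) (hd a haT) ?_
    obtain ⟨t, ht, hte⟩ := hap.2
    rw [← map_pow, ← hte]
    show ψ (g * t * g⁻¹) (ψ g z') = ψ g z'
    rw [← MulAut.mul_apply, ← map_mul, inv_mul_cancel_right, map_mul, MulAut.mul_apply, hz' t ht]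
  let C : Subgroup A :=
    { carrier := {x | ∀ k' ∈ K, ψ x k' = k'}
      one_mem' := fun k' _ => by rw [map_one, MulAut.one_apply]
      mul_mem' := fun hx hy k' hk' => by rw [map_mul, MulAut.mul_apply, hy k' hk', hx k' hk']
      inv_mem' := fun {x} hx k' hk' => by
        conv_lhs => rw [← hx k' hk', ← MulAut.mul_apply, ← map_mul, inv_mul_cancel, map_one]
        rfl }
  have hTC : (T : Subgroup A) ≤ C := fun x hx k' hk' => by
    obtain ⟨z', hz', rfl⟩ := hK k' hk'
    rw [map_pow, hz' x hx]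
  set U := D ⊔ Subgroup.zpowers a with hU
  have hUT : U ≤ (T : Subgroup A) := sup_le inf_le_left (Subgroup.zpowers_le.2 haT)
  set V := U.map (MulAut.conj g⁻¹).toMonoidHom with hV
  have hVC : V ≤ C := by
    rw [hV, hU, Subgroup.map_sup, MonoidHom.map_zpowers]
    refine sup_le ?_ (Subgroup.zpowers_le.2 fun k' hk' => ?_)
    · rintro _ ⟨x, ⟨-, t, ht, rfl⟩, rfl⟩
      refine hTC ?_
      show g⁻¹ * (g * t * g⁻¹) * g⁻¹⁻¹ ∈ (T : Subgroup A)
      rw [show g⁻¹ * (g * t * g⁻¹) * g⁻¹⁻¹ = t by group]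
      exact ht
    · show ψ (g⁻¹ * a * g⁻¹⁻¹) k' = k'
      rw [inv_inv, map_mul, map_mul, MulAut.mul_apply, MulAut.mul_apply, hafix k' hk',
        ← MulAut.mul_apply, ← map_mul, inv_mul_cancel, map_one]
      rfl
  obtain ⟨R, hR⟩ := (((T.isPGroup'.to_le hUT).map (MulAut.conj g⁻¹).toMonoidHom).comap_of_injective
    C.subtype C.subtype_injective).exists_le_sylow
  obtain ⟨x, hx⟩ := MulAction.exists_smul_eq C R (T.subtype hTC)
  set g' := g * (x : A)⁻¹ with hg'
  have hUle : U ≤ (T : Subgroup A) ⊓ (T : Subgroup A).map (MulAut.conj g').toMonoidHom := by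
    refine le_inf hUT fun y hy => ?_
    have hyV : g⁻¹ * y * g ∈ V := ⟨y, hy, by simp⟩
    have h1 : (x * ⟨_, hVC hyV⟩ * x⁻¹ : C) ∈ ((x • R : Sylow p C) : Subgroup C) :=
      ⟨⟨_, hVC hyV⟩, hR (show (⟨_, hVC hyV⟩ : C) ∈ V.comap C.subtype from hyV), rfl⟩
    rw [hx] at h1
    refine ⟨(x : A) * (g⁻¹ * y * g) * (x : A)⁻¹, h1, ?_⟩
    show g' * ((x : A) * (g⁻¹ * y * g) * (x : A)⁻¹) * g'⁻¹ = y
    rw [hg']; group
  have hlt : Nat.card D < Nat.card U := by
    rcases lt_or_eq_of_le (Subgroup.card_le_of_le (le_sup_left : D ≤ U)) with h | h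
    · exact h
    · exact absurd ((Subgroup.eq_of_le_of_card_ge le_sup_left h.ge).ge
        (Subgroup.mem_sup_right (Subgroup.mem_zpowers a))) haD
  have h1 := Subgroup.card_le_of_le hUle
  have h2 := Subgroup.card_le_of_le hUT
  have h3 := ih _ (by omega) g' rfl (z ^ p ^ n) hk
  have h4 : ψ g (z ^ p ^ n) = ψ g' (ψ (x : A) (z ^ p ^ n)) := by
    rw [← MulAut.mul_apply, ← map_mul, hg', inv_mul_cancel_right]
  rwa [h4, x.2 _ hk]

variable {Ω : Type u} [Group Ω] {S : Subgroup Ω} {p n : ℕ} {F : FusionSystem S}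

theorem mem_powerClosure_center {x : Ω}
    (hx : x ∈ powerClosure p n (S ⊓ Subgroup.centralizer (S : Set Ω))) :
    ∃ z ∈ S ⊓ Subgroup.centralizer (S : Set Ω), x = z ^ p ^ n := by
  rw [powerClosure] at hx
  induction hx using Subgroup.closure_induction with
  | mem y hy => exact hy
  | one => exact ⟨1, one_mem _, (one_pow _).symm⟩
  | mul a b _ _ ha hb =>
    obtain ⟨u, hu, rfl⟩ := ha
    obtain ⟨v, hv, rfl⟩ := hb
    exact ⟨u * v, mul_mem hu hv,
      ((show Commute u v from Subgroup.mem_centralizer_iff.1 hv.2 u hu.1).mul_pow _).symm⟩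
  | inv a _ ha =>
    obtain ⟨u, hu, rfl⟩ := ha
    exact ⟨u⁻¹, inv_mem hu, (inv_pow _ _).symm⟩

/-- Automorphisms of a subgroup, on its centre. -/
def centerHom (G : Type*) [Group G] : MulAut G →* MulAut (Subgroup.center G) where
  toFun α :=
    { toFun := fun x => ⟨α x, Subgroup.mem_center_iff.2 fun g => α.symm.injective (by
        rw [map_mul, map_mul, α.symm_apply_apply, Subgroup.mem_center_iff.1 x.2])⟩
      invFun := fun x => ⟨α.symm x, Subgroup.mem_center_iff.2 fun g => α.injective (by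
        rw [map_mul, map_mul, α.apply_symm_apply, Subgroup.mem_center_iff.1 x.2])⟩
      left_inv := fun x => Subtype.ext (α.symm_apply_apply _)
      right_inv := fun x => Subtype.ext (α.apply_symm_apply _)
      map_mul' := fun x y => Subtype.ext (map_mul α _ _) }
  map_one' := MulEquiv.ext fun x => rfl
  map_mul' α β := MulEquiv.ext fun x => rfl

theorem centerHom_apply {G : Type*} [Group G] (α : MulAut G) (x : Subgroup.center G) :
    ((centerHom G α x : Subgroup.center G) : G) = α x := rfl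

theorem isNormal_powerClosure_center [Finite S] [Fact p.Prime] (hS : IsPGroup p S)
    (hF : F.IsSaturated p) (hcl : S.lowerCentralSeries (n * (p - 1) + 1) = ⊥) :
    F.IsNormal (powerClosure p n (S ⊓ Subgroup.centralizer (S : Set Ω))) := by
  set c := n * (p - 1) + 1 with hcdef
  set Z := S ⊓ Subgroup.centralizer (S : Set Ω) with hZdef
  set K := powerClosure p n Z with hKdef
  have hKZ : K ≤ Z := fun x hx => by
    obtain ⟨z, hz, rfl⟩ := mem_powerClosure_center hx
    exact pow_mem hz _
  have hpowK : ∀ z ∈ Z, z ^ p ^ n ∈ K := fun z hz => Subgroup.subset_closure ⟨z, hz, rfl⟩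
  have hKS : K ≤ S := hKZ.trans inf_le_left
  have hSK : S ≤ normalizerIn S K := fun s hs => mem_normalizerIn_of_conj hKS hs fun x hx => by
    rwa [Subgroup.mem_centralizer_iff.1 (hKZ hx).2 s hs, mul_inv_cancel_right]
  refine isNormal_of_extends hKS hSK (mor_le_of_centric_radical_ih hS hF
    fun R hR hRc _ ihR α hα => ?_)
  have := finite_of_le hR.1
  have hαm : Mor F R (autFun α) := (mem_autGroup_iff hR.1).1 hα
  have hZR : Z ≤ R := fun z hz => hRc.2 R (isConj_refl hR.1) (mem_centralizerIn_iff.2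
    ⟨hz.1, fun y hy => by rw [← Subgroup.mem_centralizer_iff.1 hz.2 y (hR.1 hy), mul_inv_cancel_right]⟩)
  have hKR : K ≤ R := hKZ.trans hZR
  suffices hpres : ∀ β ∈ F.autGroup R, ∀ k ∈ K, autFun β k ∈ K by
    refine mor_normalizerExt_iff.2 ⟨hR.1, fun y hy => hαm.mem hy, autFun α,
      hαm.source_congr (sup_eq_left.2 hKR).symm, fun _ _ => rfl, ?_⟩
    exact (hαm.restrict hKR).img_eq_of_card_le hKS (fun y hy => hpres α hα y hy) le_rfl
  have hcen : ∀ z ∈ Z, ∀ h : z ∈ R, (⟨z, h⟩ : R) ∈ Subgroup.center R := fun z hz h =>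
    Subgroup.mem_center_iff.2 fun r =>
      Subtype.ext (Subgroup.mem_centralizer_iff.1 hz.2 r (hR.1 r.2))
  obtain ⟨-, AT, hAT⟩ := (fullyNormalized_axiom hS hF hR).2
  have := finite_mulAut_of_le hR.1
  have hATmem : ∀ a ∈ (AT : Subgroup (F.autGroup R)), ∃ s : normalizerIn S R,
      (a : MulAut R) = conjAut S R s := fun a ha => by
    rw [hAT, Subgroup.mem_subgroupOf, ← range_conjAut] at ha
    obtain ⟨s, hs⟩ := ha
    exact ⟨s, hs.symm⟩
  set Kset : Set (Subgroup.center R) := {w | ((w : R) : Ω) ∈ K} with hKset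
  have hmain := preserved_of_unipotent (n := n) ((centerHom R).comp (F.autGroup R).subtype)
    (c := c) (by omega) AT ?_ Kset ?_ ?_
  · intro β hβ k hk
    have h := hmain ⟨β, hβ⟩ ⟨⟨k, hKR hk⟩, hcen k (hKZ hk) _⟩ hk
    rw [autFun_apply β (hKR hk)]
    exact h
  · intro a ha v
    obtain ⟨⟨s, hs⟩, hae⟩ := hATmem a ha
    have key : ∀ (j : ℕ) (v : Subgroup.center R), ((((fun x =>
        ((centerHom R).comp (F.autGroup R).subtype) a x * x⁻¹)^[j] v : Subgroup.center R) : R) : Ω) ∈
        S.lowerCentralSeries j := by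
      intro j
      induction j with
      | zero => intro v; exact hR.1 (v : R).2
      | succ j ih =>
        intro v
        rw [Function.iterate_succ_apply', Subgroup.lowerCentralSeries_succ, Subgroup.commutator_comm]
        set y := (fun x => ((centerHom R).comp (F.autGroup R).subtype) a x * x⁻¹)^[j] v
        show ((((a : MulAut R) (y : R)) * (y : R)⁻¹ : R) : Ω) ∈ _
        rw [Subgroup.coe_mul, InvMemClass.coe_inv, ← autFun_coe, hae, autFun_conjAut _ (y : R).2]
        exact Subgroup.commutator_mem_commutator (normalizerIn_le hs) (ih v)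
    have h := key c v
    rw [hcl, Subgroup.mem_bot] at h
    exact Subtype.ext (Subtype.ext h)
  · intro w hw
    obtain ⟨z, hz, hze⟩ := mem_powerClosure_center (show ((w : R) : Ω) ∈ K from hw)
    refine ⟨⟨⟨z, hZR hz⟩, hcen z hz _⟩, fun a ha => ?_, Subtype.ext (Subtype.ext ?_)⟩
    · obtain ⟨⟨s, hs⟩, hae⟩ := hATmem a ha
      refine Subtype.ext (Subtype.ext ?_)
      show (((a : MulAut R) ⟨z, hZR hz⟩ : R) : Ω) = z
      rw [← autFun_apply (a : MulAut R) (hZR hz), hae, autFun_conjAut _ (hZR hz),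
        Subgroup.mem_centralizer_iff.1 hz.2 s (normalizerIn_le hs), mul_inv_cancel_right]
    · rw [SubmonoidClass.coe_pow, SubmonoidClass.coe_pow]
      exact hze
  · rintro ⟨β, hβ⟩ hβN w hw
    show (((β (w : R)) : R) : Ω) ∈ K
    rw [← autFun_apply β (w : R).2]
    have hβm : Mor F R (autFun β) := (mem_autGroup_iff hR.1).1 hβ
    obtain ⟨γ, hγ, hγe⟩ :=
      (isReceptive_iff.1 (receptive_of_fullyNormalized hS hF hR)).2 R _ hβm (img_autFun β)
    have hND : normalizerIn S R ≤ extN S R (autFun β) := by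
      intro s hs
      have ha : (⟨conjAut S R ⟨s, hs⟩, autInducedBy_le_autGroup hR.1
          (range_conjAut S R ▸ ⟨_, rfl⟩)⟩ : F.autGroup R) ∈ (AT : Subgroup (F.autGroup R)) := by
        rw [hAT]
        exact Subgroup.mem_subgroupOf.2 ((range_conjAut S R).le ⟨⟨s, hs⟩, rfl⟩)
      have h1 := (Subgroup.mem_normalizer_iff.1 hβN _).1 ha
      obtain ⟨⟨s', hs'⟩, hse⟩ := hATmem _ h1
      refine ⟨hs, s', normalizerIn_le hs', fun x hx => ?_⟩
      have h2 : (β * conjAut S R ⟨s, hs⟩ * β⁻¹ : MulAut R) = conjAut S R ⟨s', hs'⟩ := hse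
      have h3 := congrArg (fun e : MulAut R => autFun e (autFun β x)) h2
      rw [autFun_mul _ _ (autFun_mem β hx), autFun_mul _ _ (autFun_mem β⁻¹ (autFun_mem β hx)),
        ← autFun_mul β⁻¹ β hx, inv_mul_cancel, autFun_apply (1 : MulAut R) hx, MulAut.one_apply,
        autFun_conjAut _ hx, autFun_conjAut _ (autFun_mem β hx)] at h3
      exact h3
    have hγN : Mor F (normalizerIn S R) γ := hγ.restrict hND
    rw [← hγe _ (w : R).2]
    by_cases hlt : Nat.card R < Nat.card (normalizerIn S R)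
    · have h1 := ihR _ γ hlt hγN
      obtain ⟨-, -, k, hk, hke, hki⟩ := mor_normalizerExt_iff.1 h1
      rw [← hke _ (le_normalizerIn hR.1 (w : R).2)]
      exact hki ▸ mem_img_of_mem hw
    · have hRS : R = S := by
        by_contra hne
        exact hlt (card_lt_of_lt normalizerIn_le
          (normalizer_growth hS le_rfl (lt_of_le_of_ne hR.1 hne)))
      obtain ⟨z, hz, hze⟩ := mem_powerClosure_center (show ((w : R) : Ω) ∈ K from hw)
      have hzR : z ∈ R := hZR hz
      rw [hze, hγe _ (pow_mem hzR _), autFun_apply β (pow_mem hzR _),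
        show (⟨z ^ p ^ n, pow_mem hzR _⟩ : R) = (⟨z, hzR⟩ : R) ^ p ^ n from rfl, map_pow,
        SubmonoidClass.coe_pow]
      refine hpowK _ ⟨hR.1 (β _).2, Subgroup.mem_centralizer_iff.2 fun y hy => ?_⟩
      have hyR : y ∈ R := hRS ▸ hy
      have h := Subgroup.mem_center_iff.1 (centerHom R β ⟨⟨z, hzR⟩, hcen z hz _⟩).2 ⟨y, hyR⟩
      exact congrArg Subtype.val h

theorem pow_mem_upperCentralSeries {G : Type*} [Group G] {m : ℕ}
    (h : ∀ x ∈ Subgroup.center G, x ^ m = 1) :
    ∀ (i : ℕ) (x : G), x ∈ Subgroup.upperCentralSeries G (i + 1) →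
      x ^ m ∈ Subgroup.upperCentralSeries G i := by
  intro i
  induction i with
  | zero =>
    intro x hx
    rw [Subgroup.upperCentralSeries_zero, Subgroup.mem_bot]
    rw [Subgroup.upperCentralSeries_one] at hx
    exact h x hx
  | succ i ih =>
    intro x hx
    rw [Subgroup.mem_upperCentralSeries_succ_iff] at hx ⊢
    intro g
    set N := Subgroup.upperCentralSeries G i with hN
    set q := QuotientGroup.mk' N
    have hcen : ∀ y : G, q ⁅x, g⁆ * q y = q y * q ⁅x, g⁆ := fun y => by
      have h1 := Subgroup.mem_upperCentralSeries_succ_iff.1 (hx g) y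
      rw [← commutatorElement_eq_one_iff_mul_comm, ← map_commutatorElement]
      exact (QuotientGroup.eq_one_iff _).2 h1
    have hit : ∀ j : ℕ, q ⁅x ^ j, g⁆ = q ⁅x, g⁆ ^ j := by
      intro j
      induction j with
      | zero => simp
      | succ j ihj =>
        have e : ⁅x ^ (j + 1), g⁆ = x ^ j * ⁅x, g⁆ * (x ^ j)⁻¹ * ⁅x ^ j, g⁆ := by
          simp only [commutatorElement_def]; rw [pow_succ]; group
        rw [e, map_mul, map_mul, map_mul, ← hcen (x ^ j), mul_assoc (q ⁅x, g⁆), ← map_mul,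
          mul_inv_cancel, map_one, mul_one, ihj, ← pow_succ']
    have h2 : q ⁅x ^ m, g⁆ = 1 := by
      rw [hit, ← map_pow]
      exact (QuotientGroup.eq_one_iff _).2 (ih _ (hx g))
    exact (QuotientGroup.eq_one_iff _).1 h2

theorem exponent_dvd_of_center [Finite S] {m c : ℕ} (hcl : S.lowerCentralSeries c = ⊥)
    (h : ∀ x ∈ S ⊓ Subgroup.centralizer (S : Set Ω), x ^ m = 1) :
    Monoid.exponent S ∣ m ^ c := by
  have hlow : ∀ i j : ℕ, c ≤ i + j → ∀ x : S, (x : Ω) ∈ S.lowerCentralSeries j →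
      x ∈ Subgroup.upperCentralSeries S i := by
    intro i
    induction i with
    | zero =>
      intro j hj x hx
      rw [Subgroup.upperCentralSeries_zero, Subgroup.mem_bot]
      have : (x : Ω) ∈ S.lowerCentralSeries c := by
        exact Subgroup.lowerCentralSeries_antitone S (show c ≤ j by omega) hx
      rw [hcl, Subgroup.mem_bot] at this
      exact Subtype.ext this
    | succ i ih =>
      intro j hj x hx
      rw [Subgroup.mem_upperCentralSeries_succ_iff]
      intro g
      refine ih (j + 1) (by omega) _ ?_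
      rw [Subgroup.lowerCentralSeries_succ]
      exact Subgroup.commutator_mem_commutator hx g.2
  have hcen : ∀ x ∈ Subgroup.center S, x ^ m = 1 := fun x hx => Subtype.ext (by
    rw [SubmonoidClass.coe_pow]
    exact h x ⟨x.2, Subgroup.mem_centralizer_iff.2 fun y hy =>
      congrArg Subtype.val (Subgroup.mem_center_iff.1 hx ⟨y, hy⟩)⟩)
  have hall : ∀ i, ∀ x ∈ Subgroup.upperCentralSeries S i, x ^ m ^ i = 1 := by
    intro i
    induction i with
    | zero =>
      intro x hx
      rw [Subgroup.upperCentralSeries_zero, Subgroup.mem_bot] at hx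
      rw [hx, one_pow]
    | succ i ih =>
      intro x hx
      rw [pow_succ', pow_mul]
      exact ih _ (pow_mem_upperCentralSeries hcen i x hx)
  exact Monoid.exponent_dvd_of_forall_pow_eq_one fun x => hall c x (hlow c 0 (by omega) x x.2)

end Cfsg.Lib.Fusion
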