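import Mathlib
import Cfsg.Agent.Lib.Fusion.GlaubermanCenter

/-!
The centre of a system and of the normalizer of `J`.
-/

set_option autoImplicit false

open scoped Classical

namespace Cfsg.Lib.Fusion

open Cfsg Cfsg.FusionSystem

universe u

variable {Ω : Type u} [Group Ω] {S : Subgroup Ω} {p : ℕ} {F : FusionSystem S} {x : Ω}

theorem mem_center_of_fixAll [Finite S] [Fact p.Prime] (hS : IsPGroup p S) (hF : F.IsSaturated p)
    (hxS : x ∈ S) (hxc : ∀ y ∈ S, y * x = x * y) (h : FixAll F x) : x ∈ F.center := by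
  have hQS : Subgroup.zpowers x ≤ S := Subgroup.zpowers_le.2 hxS
  have hTC : S ≤ centralizerIn S (Subgroup.zpowers x) :=
    le_inf le_rfl fun t ht => Subgroup.mem_centralizer_iff.2 fun y hy => by
      obtain ⟨i, rfl⟩ := Subgroup.mem_zpowers_iff.1 hy
      exact ((show Commute x t from (hxc t ht).symm).zpow_left i).eq
  have hall : ∀ P f, Mor F P f → Mor (centralizerExt F (Subgroup.zpowers x) S hQS hTC) P f := by
    refine mor_le_of_centric_radical_ih hS hF fun R hR hRc _ _ α hα => ?_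
    have hαm : Mor F R (autFun α) := (mem_autGroup_iff hR.1).1 hα
    have hxR : x ∈ R := hRc.2 R (isConj_refl hR.1) (mem_centralizerIn_iff.2
      ⟨hxS, fun y hy => by rw [← hxc y (hR.1 hy), mul_inv_cancel_right]⟩)
    obtain ⟨φ, -, he⟩ := hαm.exists_hom
    refine ⟨φ, ⟨hR.1, fun y => he y ▸ hαm.mem y.2, autFun α,
      hαm.source_congr (sup_eq_left.2 (Subgroup.zpowers_le.2 hxR)).symm, he, fun y hy => ?_⟩, he⟩
    obtain ⟨i, rfl⟩ := Subgroup.mem_zpowers_iff.1 hy
    rw [autFun_apply α (zpow_mem hxR i)]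
    have h0 : α ⟨x, hxR⟩ = ⟨x, hxR⟩ :=
      Subtype.ext ((autFun_apply α hxR).symm.trans (h R _ hαm hxR))
    rw [show (⟨x ^ i, zpow_mem hxR i⟩ : R) = (⟨x, hxR⟩ : R) ^ i from rfl, map_zpow, h0]
    rfl
  have hc : F.IsCentral (Subgroup.zpowers x) := by
    refine isCentral_iff.2 ⟨hQS, fun P f hf => ?_⟩
    obtain ⟨φ, ⟨-, -, k, hk, hke, hkx⟩, he⟩ := hall P f hf
    exact ⟨k, hk, fun y hy => (hke ⟨y, hy⟩).symm.trans (he ⟨y, hy⟩), hkx⟩
  exact (le_sSup (s := {Q : Subgroup Ω | F.IsCentral Q}) hc) (Subgroup.mem_zpowers x)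

theorem commute_of_mem_center [Finite S] (hx : x ∈ F.center) : ∀ y ∈ S, y * x = x * y := by
  intro y hy
  obtain ⟨hZS, hext⟩ := isCentral_iff.1 (isCentral_center F)
  obtain ⟨k, hk, hke, hkZ⟩ := hext S _ (mor_conj (P := S) le_rfl hy)
  have h1 := hke x (hZS hx)
  rw [hkZ x hx] at h1
  exact mul_inv_eq_iff_eq_mul.1 h1.symm

theorem fixAll_of_mem_center [Finite S] (hx : x ∈ F.center) : FixAll F x := by
  intro R f hf hxR
  obtain ⟨-, hext⟩ := isCentral_iff.1 (isCentral_center F)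
  obtain ⟨k, -, hke, hkZ⟩ := hext R f hf
  rw [← hke x hxR, hkZ x hx]

variable [Finite S] [Fact p.Prime] {W : Subgroup Ω} {N : FusionSystem (normalizerIn S W)}

omit [Fact p.Prime] in
theorem center_le_center_normalizer (hWS : W ≤ S) (hN : F.IsNormalizerSystem W N)
    (hW : normalizerIn S W = S) : F.center ≤ N.center := by
  have := finite_of_le (normalizerIn_le : normalizerIn S W ≤ S)
  obtain ⟨hZS, hext⟩ := isCentral_iff.1 (isCentral_center F)
  refine le_sSup (s := {Q : Subgroup Ω | N.IsCentral Q}) (isCentral_iff.2 ⟨hW.symm ▸ hZS, fun P f hf => ?_⟩)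
  obtain ⟨hP, hfT, k, hk, hke, hkW⟩ := (mor_of_isNormalizerSystem hN hWS P f).1 hf
  obtain ⟨l, hl, hle, hlZ⟩ := hext _ k hk
  refine ⟨l, (mor_of_isNormalizerSystem hN hWS _ l).2 ⟨sup_le hP (hW.symm ▸ hZS),
    fun y hy => hW.symm ▸ hl.mem ((sup_le_sup_right le_sup_left F.center : P ⊔ F.center ≤ P ⊔ W ⊔ F.center) hy), l,
    hl.source_congr (sup_right_comm P F.center W).symm, fun y _ => rfl, ?_⟩,
    fun y hy => (hle y (Subgroup.mem_sup_left hy)).trans (hke y hy), hlZ⟩
  rw [img_congr fun y hy => hle y (Subgroup.mem_sup_right hy), hkW]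

omit [Fact p.Prime] in
theorem fixAt_of_mem_center_normalizer (hWS : W ≤ S) (hN : F.IsNormalizerSystem W N)
    (hx : x ∈ N.center) : FixAt F W x := by
  have := finite_of_le (normalizerIn_le : normalizerIn S W ≤ S)
  intro R f hWR hR hf hfW hxR
  refine fixAll_of_mem_center hx R f ?_ hxR
  refine (mor_of_isNormalizerSystem hN hWS R f).2 ⟨hR, fun y hy => ?_, f,
    hf.source_congr (sup_eq_left.2 hWR).symm, fun _ _ => rfl, hfW⟩
  have h1 := hf.mem_normalizerIn hWR hy (hR hy)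
  rwa [hfW] at h1

end Cfsg.Lib.Fusion
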