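import Mathlib
import Cfsg.Prelude.Def_FusionSystem
import Cfsg.Prelude.Def_PLocal
import Cfsg.Agent.Lib.Fusion.NormalCriteria
import Cfsg.Agent.Lib.Transfer.Critical

/-!
Chains stabilized by a normalizing element of a centric radical subgroup; criteria built on them.
-/

set_option autoImplicit false

open scoped Classical

namespace Cfsg.Lib.Fusion

open Cfsg Cfsg.FusionSystem

variable {Ω : Type*} [Group Ω] {S : Subgroup Ω} {F : FusionSystem S} {P Q : Subgroup Ω}
  [Finite S] {p : ℕ} [Fact p.Prime]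

/-- An element inducing a member of a normal `p`-subgroup of the automizer lies in `P`. -/
theorem mem_of_conjAut_mem (hc : F.IsCentric P) (hr : F.IsRadical p P) {c : Ω}
    (hcN : c ∈ normalizerIn S P) {K : Subgroup (MulAut P)} (hKle : K ≤ F.autGroup P)
    (hKn : ∀ δ ∈ F.autGroup P, ∀ γ ∈ K, δ * γ * δ⁻¹ ∈ K) (hKp : IsPGroup p K)
    (hcK : conjAut S P ⟨c, hcN⟩ ∈ K) : c ∈ P := by
  have hKI : K ≤ Inn P := by
    rw [← hr.2]
    intro a ha
    refine ⟨⟨a, hKle ha⟩, ?_, rfl⟩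
    have h1 : K.subgroupOf (F.autGroup P) ≤ pCore p (F.autGroup P) :=
      le_sSup ⟨⟨fun x hx y => hKn y y.2 x hx⟩,
        hKp.of_equiv (Subgroup.subgroupOfEquivOfLe hKle).symm⟩
    exact h1 ha
  have h2 := hKI hcK
  rw [inn_eq_autInducedBy, mem_autInducedBy_iff] at h2
  obtain ⟨u, hu, hue⟩ := h2
  have hz : u⁻¹ * c ∈ centralizerIn S P := by
    refine mem_centralizerIn_iff.2
      ⟨S.mul_mem (S.inv_mem (hc.1 hu)) (normalizerIn_le hcN), fun x hx => ?_⟩
    have h3 : c * x * c⁻¹ = u * x * u⁻¹ := (autFun_conjAut ⟨c, hcN⟩ hx).symm.trans (hue x hx)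
    calc u⁻¹ * c * x * (u⁻¹ * c)⁻¹ = u⁻¹ * (c * x * c⁻¹) * u := by group
      _ = x := by rw [h3]; group
  have h4 := P.mul_mem hu (hc.2 P (isConj_refl hc.1) hz)
  rwa [mul_inv_cancel_left] at h4

/-- An element stabilizing an invariant chain of `P` lies in `P`. -/
theorem mem_of_chain (hS : IsPGroup p S) (hc : F.IsCentric P) (hr : F.IsRadical p P)
    (V : ℕ → Subgroup Ω) (n : ℕ) (hV0 : V 0 = ⊥) (hVn : ∀ x ∈ P, x ∈ V (n + 1))
    (hst : ∀ γ ∈ F.autGroup P, ∀ i, ∀ x ∈ P, x ∈ V i → autFun γ x ∈ V i)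
    {c : Ω} (hcN : c ∈ normalizerIn S P)
    (hstab : ∀ i ≤ n, ∀ x ∈ P, x ∈ V (i + 1) → x⁻¹ * (c * x * c⁻¹) ∈ V i) : c ∈ P := by
  have hsplit : ∀ (γ δ : MulAut P) (x : Ω), x ∈ P →
      x⁻¹ * autFun (γ * δ) x =
        (x⁻¹ * autFun δ x) * ((autFun δ x)⁻¹ * autFun γ (autFun δ x)) := fun γ δ x hx => by
    rw [autFun_mul γ δ hx]
    group
  let K : Subgroup (MulAut P) :=
    { carrier := {γ | γ ∈ F.autGroup P ∧
        ∀ i, i ≤ n → ∀ x ∈ P, x ∈ V (i + 1) → x⁻¹ * autFun γ x ∈ V i}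
      one_mem' := ⟨Subgroup.one_mem _, fun i _ x hx _ => by
        simp [autFun_apply _ hx]⟩
      mul_mem' := by
        rintro γ δ ⟨hγ, hγ'⟩ ⟨hδ, hδ'⟩
        refine ⟨mul_mem hγ hδ, fun i hi x hx hxV => ?_⟩
        rw [hsplit γ δ x hx]
        exact mul_mem (hδ' i hi x hx hxV)
          (hγ' i hi _ (autFun_mem δ hx) (hst δ hδ _ x hx hxV))
      inv_mem' := by
        rintro γ ⟨hγ, hγ'⟩
        refine ⟨inv_mem hγ, fun i hi x hx hxV => ?_⟩
        have h1 := inv_mem (hγ' i hi _ (autFun_mem γ⁻¹ hx) (hst γ⁻¹ (inv_mem hγ) _ x hx hxV))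
        rw [← autFun_mul γ γ⁻¹ hx, mul_inv_cancel, autFun_apply (1 : MulAut P) hx] at h1
        simpa using h1 }
  have hKn : ∀ δ ∈ F.autGroup P, ∀ γ ∈ K, δ * γ * δ⁻¹ ∈ K := by
    rintro δ hδ γ ⟨hγ, hγ'⟩
    refine ⟨mul_mem (mul_mem hδ hγ) (inv_mem hδ), fun i hi x hx hxV => ?_⟩
    have hy := autFun_mem δ⁻¹ hx
    have h1 := hst δ hδ i _ (P.mul_mem (P.inv_mem hy) (autFun_mem γ hy))
      (hγ' i hi _ hy (hst δ⁻¹ (inv_mem hδ) _ x hx hxV))
    have hmor := (mem_autGroup_iff hc.1).1 hδ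
    rw [hmor.map_mul (P.inv_mem hy) (autFun_mem γ hy), hmor.map_inv hy,
      ← autFun_mul δ δ⁻¹ hx, mul_inv_cancel, autFun_apply (1 : MulAut P) hx] at h1
    rw [autFun_mul _ _ hx, autFun_mul _ _ hy]
    exact h1
  have hKle : K ≤ F.autGroup P := fun γ hγ => hγ.1
  have hKle : K ≤ F.autGroup P := fun γ hγ => hγ.1
  refine mem_of_conjAut_mem hc hr hcN hKle hKn
    (isPGroup_of_stabilizes hS hc.1 V (n + 1) hV0 hVn
      fun γ hγ i hi x hx hxV => hγ.2 i (by omega) x hx hxV) ?_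
  refine ⟨autInducedBy_le_autGroup hc.1 (range_conjAut S P ▸ ⟨_, rfl⟩), fun i hi x hx hxV => ?_⟩
  rw [autFun_conjAut _ hx]
  exact hstab i hi x hx hxV

/-- Normal Sylow subgroups in all radical automizers force the whole group to be normal. -/
theorem isNormal_top_of_closed (hS : IsPGroup p S) (hF : F.IsSaturated p)
    (hcl : ∀ P, F.IsFullyNormalized P → F.IsCentric P → F.IsRadical p P →
      ∃ R : Sylow p (F.autGroup P), (R : Subgroup (F.autGroup P)).Normal) : F.IsNormal S := by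
  refine isNormal_of_le_centricRadical hS hF
    (stronglyClosed_iff.2 ⟨le_rfl, fun R f hf x hx _ => hf.mem hx⟩) fun P hn hc hr => ?_
  refine le_of_normalizing_le hS le_rfl hc.1 Subgroup.le_normalizer fun c _ hcN => ?_
  obtain ⟨R, hR⟩ := hcl P hn hc hr
  have := finite_mulAut_of_le hc.1
  refine mem_of_conjAut_mem hc hr hcN (K := (R : Subgroup (F.autGroup P)).map (F.autGroup P).subtype)
    (Subgroup.map_subtype_le _) ?_ (R.2.map _) ?_
  · rintro δ hδ _ ⟨γ, hγ, rfl⟩
    exact ⟨⟨δ, hδ⟩ * γ * ⟨δ, hδ⟩⁻¹, hR.conj_mem γ hγ _, rfl⟩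
  have hmem : conjAut S P ⟨c, hcN⟩ ∈ F.autGroup P := autInducedBy_le_autGroup hc.1 (range_conjAut S P ▸ ⟨_, rfl⟩)
  have hpg : IsPGroup p (Subgroup.zpowers (⟨_, hmem⟩ : F.autGroup P)) := by
    obtain ⟨k, hk⟩ := (isPGroup_of_le hS (normalizerIn_le (S := S) (P := P))) ⟨c, hcN⟩
    intro y
    obtain ⟨i, hi⟩ := y.2
    refine ⟨k, Subtype.ext ?_⟩
    show (y : F.autGroup P) ^ p ^ k = 1
    rw [← hi]
    show ((⟨_, hmem⟩ : F.autGroup P) ^ i) ^ p ^ k = 1
    rw [← zpow_natCast, ← zpow_mul, mul_comm, zpow_mul, zpow_natCast]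
    have : (⟨_, hmem⟩ : F.autGroup P) ^ p ^ k = 1 := Subtype.ext (by
      show conjAut S P ⟨c, hcN⟩ ^ p ^ k = 1
      rw [← map_pow, hk, map_one])
    rw [this, one_zpow]
  obtain ⟨R', hR'⟩ := hpg.exists_le_sylow
  haveI := hR
  haveI := Sylow.unique_of_normal R hR
  rw [Subsingleton.elim R' R] at hR'
  exact ⟨_, hR' (Subgroup.mem_zpowers _), rfl⟩

/-- A strongly closed subgroup with a central series of weakly closed subgroups is normal. -/
theorem isNormal_of_weak_series (hS : IsPGroup p S) (hF : F.IsSaturated p) (hQ : F.StronglyClosed Q)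
    (C : ℕ → Subgroup Ω) (n : ℕ) (hC0 : C 0 = ⊥) (hCn : C n = Q) (hCle : ∀ i ≤ n, C i ≤ Q)
    (hmono : ∀ i j, i ≤ j → j ≤ n → C i ≤ C j)
    (hW : ∀ i < n, F.WeaklyClosed (C i)) (hcomm : ∀ i < n, ∀ a ∈ Q, ∀ x ∈ C (i + 1), x⁻¹ * (a * x * a⁻¹) ∈ C i) :
    F.IsNormal Q := by
  refine isNormal_of_le_centricRadical hS hF hQ fun P _ hc hr => ?_
  suffices key : ∀ i, i ≤ n → C i ≤ P from (hCn ▸ key n le_rfl)
  intro i
  induction i with
  | zero => intro _; rw [hC0]; exact bot_le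
  | succ i ih =>
    intro hi
    have hiP := ih (by omega)
    have hCS : C (i + 1) ≤ S := (hCle _ hi).trans hQ.1
    refine le_of_normalizing_le hS hCS hc.1 ?_ fun c hcC hcN => ?_
    · intro s hs
      have hmor : Mor F (C (i + 1)) (fun x => s * x * s⁻¹) := mor_conj hCS hs
      rcases Nat.lt_or_ge (i + 1) n with hlt | hge
      · obtain ⟨φ, hφ, he⟩ := hmor.exists_hom
        have hr' := (hW _ hlt).2 φ hφ
        haveI := finite_of_le hCS
        refine Subgroup.mem_normalizer_fintype fun x hx => ?_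
        rw [← show (φ ⟨x, hx⟩ : Ω) = s * x * s⁻¹ from he ⟨x, hx⟩]
        exact hr'.le ⟨⟨x, hx⟩, rfl⟩
      · obtain rfl : i + 1 = n := le_antisymm hi hge
        rw [hCn]
        exact StronglyClosed.le_normalizer hQ hs
    -- the chain `C 0 ≤ ⋯ ≤ C i ≤ Q ⊓ P ≤ S`
    let V : ℕ → Subgroup Ω := fun j => if j ≤ i then C j else if j = i + 1 then Q ⊓ P else S
    refine mem_of_chain hS hc hr V (i + 1) (by simp [V, hC0]) (fun x hx => ?_) ?_ hcN ?_
    · simp only [V, show ¬ i + 1 + 1 ≤ i by omega, show i + 1 + 1 ≠ i + 1 by omega, if_false]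
      exact hc.1 hx
    · intro γ hγ j x hx hxV
      have hm := (mem_autGroup_iff hc.1).1 hγ
      simp only [V] at hxV ⊢
      split_ifs at hxV ⊢ with h1 h2
      · obtain ⟨φ, hφ, he⟩ := (hm.restrict ((hmono j i h1 (by omega)).trans hiP)).exists_hom
        have hr' := (hW j (by omega)).2 φ hφ
        rw [← show (φ ⟨x, hxV⟩ : Ω) = autFun γ x from he ⟨x, hxV⟩]
        exact hr'.le ⟨⟨x, hxV⟩, rfl⟩
      · exact ⟨StronglyClosed.mem hQ hm hx hxV.1, autFun_mem γ hx⟩
      · exact hm.mem hx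
    · intro j hj x hx hxV
      have hQP : x⁻¹ * (c * x * c⁻¹) ∈ Q ⊓ P := by
        refine ⟨?_, P.mul_mem (P.inv_mem hx) (conj_mem_of_mem_normalizerIn hcN hx)⟩
        have h1 : x⁻¹ * c * x ∈ Q := by
          have := StronglyClosed.conj_mem hQ (S.inv_mem (hc.1 hx)) (hCle _ hi hcC)
          simpa using this
        have h2 := Q.mul_mem h1 (Q.inv_mem (hCle _ hi hcC))
        simpa [mul_assoc] using h2
      rcases Nat.lt_trichotomy j i with hlt | heq | hgt
      · simp only [V, show j + 1 ≤ i by omega, show j ≤ i by omega, if_true] at hxV ⊢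
        exact hcomm j (by omega) c (hCle _ hi hcC) x hxV
      · -- `x ∈ Q ⊓ P`, `c ∈ C (i+1)`
        subst heq
        simp only [V, le_refl, Nat.not_succ_le_self, if_true, if_false] at hxV ⊢
        have h4 := hcomm j (by omega) x hxV.1 c hcC
        have h5 : c * (c⁻¹ * (x * c * x⁻¹))⁻¹ * c⁻¹ ∈ C j := by
          have hn : c ∈ Subgroup.normalizer (C j : Set Ω) := by
            obtain ⟨φ, hφ, he⟩ := (mor_conj (F := F) ((hCle j (by omega)).trans hQ.1) (hCS hcC)).exists_hom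
            have hr' := (hW j (by omega)).2 φ hφ
            haveI := finite_of_le ((hCle j (by omega)).trans hQ.1)
            refine Subgroup.mem_normalizer_fintype fun y hy => ?_
            rw [← show (φ ⟨y, hy⟩ : Ω) = c * y * c⁻¹ from he ⟨y, hy⟩]
            exact hr'.le ⟨⟨y, hy⟩, rfl⟩
          exact (Subgroup.mem_normalizer_iff.1 hn _).1 ((C j).inv_mem h4)
        have h6 : x⁻¹ * (c * x * c⁻¹) = x⁻¹ * (c * (c⁻¹ * (x * c * x⁻¹))⁻¹ * c⁻¹) * x := by group
        rw [h6]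
        have hnx : x ∈ Subgroup.normalizer (C j : Set Ω) := by
          obtain ⟨φ, hφ, he⟩ := (mor_conj (F := F) ((hCle j (by omega)).trans hQ.1) (hc.1 hx)).exists_hom
          have hr' := (hW j (by omega)).2 φ hφ
          haveI := finite_of_le ((hCle j (by omega)).trans hQ.1)
          refine Subgroup.mem_normalizer_fintype fun y hy => ?_
          rw [← show (φ ⟨y, hy⟩ : Ω) = x * y * x⁻¹ from he ⟨y, hy⟩]
          exact hr'.le ⟨⟨y, hy⟩, rfl⟩
        exact (Subgroup.mem_normalizer_iff''.1 hnx _).1 h5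
      · simp only [V, show ¬ j ≤ i by omega, show j = i + 1 by omega, if_true, if_false,
          show ¬ i + 1 ≤ i by omega]
        exact hQP

/-- A coprime automorphism fixing the difference it makes on `x` fixes `x`. -/
theorem eq_of_fixed_diff (hS : IsPGroup p S) (hP : P ≤ S) {δ : MulAut P} (hord : (orderOf δ).Coprime p)
    {x : Ω} (hx : x ∈ P) (huP : x⁻¹ * autFun δ x ∈ P) (hu : autFun δ (x⁻¹ * autFun δ x) = x⁻¹ * autFun δ x) :
    autFun δ x = x := by
  set u : P := ⟨_, huP⟩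
  set y : P := ⟨x, hx⟩
  have hu' : δ u = u := Subtype.ext ((autFun_apply δ huP).symm.trans hu)
  have hy : δ y = y * u := Subtype.ext (by
    show (δ y : Ω) = x * (x⁻¹ * autFun δ x)
    rw [mul_inv_cancel_left, autFun_apply δ hx])
  have hpow : ∀ m : ℕ, (δ ^ m) y = y * u ^ m := by
    intro m
    induction m with
    | zero => simp
    | succ m ih => rw [pow_succ', MulAut.mul_apply, ih, map_mul, map_pow, hy, hu', pow_succ', mul_assoc]
  have h1 : u ^ orderOf δ = 1 := by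
    have := hpow (orderOf δ)
    rw [pow_orderOf_eq_one] at this
    exact mul_eq_left.1 this.symm
  obtain ⟨a, ha⟩ := (isPGroup_of_le hS hP) u
  have h2 : orderOf u = 1 := Nat.eq_one_of_dvd_coprimes (Nat.Coprime.pow_right a hord)
    (orderOf_dvd_of_pow_eq_one h1) (orderOf_dvd_of_pow_eq_one ha)
  rw [orderOf_eq_one_iff] at h2
  rw [autFun_apply δ hx]
  show ((δ y : P) : Ω) = x
  rw [hy, h2, mul_one]

/-- The automorphisms of `P` stabilizing a family of invariant sections of `P`. -/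
theorem mem_of_pairs (hc : F.IsCentric P) (hr : F.IsRadical p P) {ι : Type*} (A B : ι → Subgroup Ω)
    (hA : ∀ γ ∈ F.autGroup P, ∀ i, ∀ x ∈ P, x ∈ A i → autFun γ x ∈ A i)
    (hB : ∀ γ ∈ F.autGroup P, ∀ i, ∀ x ∈ P, x ∈ B i → autFun γ x ∈ B i)
    (hKp : ∀ L : Subgroup (MulAut P), L ≤ F.autGroup P →
      (∀ γ ∈ L, ∀ i, ∀ x ∈ P, x ∈ B i → x⁻¹ * autFun γ x ∈ A i) → IsPGroup p L)
    {c : Ω} (hcN : c ∈ normalizerIn S P)
    (hstab : ∀ i, ∀ x ∈ P, x ∈ B i → x⁻¹ * (c * x * c⁻¹) ∈ A i) : c ∈ P := by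
  have hsplit : ∀ (γ δ : MulAut P) (x : Ω), x ∈ P →
      x⁻¹ * autFun (γ * δ) x =
        (x⁻¹ * autFun δ x) * ((autFun δ x)⁻¹ * autFun γ (autFun δ x)) := fun γ δ x hx => by
    rw [autFun_mul γ δ hx]
    group
  let K : Subgroup (MulAut P) :=
    { carrier := {γ | γ ∈ F.autGroup P ∧ ∀ i, ∀ x ∈ P, x ∈ B i → x⁻¹ * autFun γ x ∈ A i}
      one_mem' := ⟨Subgroup.one_mem _, fun i x hx _ => by
        simp [autFun_apply _ hx]⟩
      mul_mem' := by
        rintro γ δ ⟨hγ, hγ'⟩ ⟨hδ, hδ'⟩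
        refine ⟨mul_mem hγ hδ, fun i x hx hxV => ?_⟩
        rw [hsplit γ δ x hx]
        exact mul_mem (hδ' i x hx hxV) (hγ' i _ (autFun_mem δ hx) (hB δ hδ _ x hx hxV))
      inv_mem' := by
        rintro γ ⟨hγ, hγ'⟩
        refine ⟨inv_mem hγ, fun i x hx hxV => ?_⟩
        have h1 := inv_mem (hγ' i _ (autFun_mem γ⁻¹ hx) (hB γ⁻¹ (inv_mem hγ) _ x hx hxV))
        rw [← autFun_mul γ γ⁻¹ hx, mul_inv_cancel, autFun_apply (1 : MulAut P) hx] at h1
        simpa using h1 }
  refine mem_of_conjAut_mem hc hr hcN (K := K) (fun γ hγ => hγ.1) ?_ (hKp K (fun γ hγ => hγ.1) fun γ hγ => hγ.2) ?_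
  · rintro δ hδ γ ⟨hγ, hγ'⟩
    refine ⟨mul_mem (mul_mem hδ hγ) (inv_mem hδ), fun i x hx hxV => ?_⟩
    have hy := autFun_mem δ⁻¹ hx
    have h1 := hA δ hδ i _ (P.mul_mem (P.inv_mem hy) (autFun_mem γ hy))
      (hγ' i _ hy (hB δ⁻¹ (inv_mem hδ) _ x hx hxV))
    have hmor := (mem_autGroup_iff hc.1).1 hδ
    rw [hmor.map_mul (P.inv_mem hy) (autFun_mem γ hy), hmor.map_inv hy,
      ← autFun_mul δ δ⁻¹ hx, mul_inv_cancel, autFun_apply (1 : MulAut P) hx] at h1
    rw [autFun_mul _ _ hx, autFun_mul _ _ hy]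
    exact h1
  refine ⟨autInducedBy_le_autGroup hc.1 (range_conjAut S P ▸ ⟨_, rfl⟩), fun i x hx hxV => ?_⟩
  rw [autFun_conjAut _ hx]
  exact hstab i x hx hxV

/-- A strongly closed `Q` with abelian quotient over a normal `Q₁` with `p`-group automizer is normal. -/
theorem isNormal_of_abelian_over (hS : IsPGroup p S) (hF : F.IsSaturated p) {Q₁ : Subgroup Ω}
    (hQ : F.StronglyClosed Q) (hQ₁Q : Q₁ ≤ Q) (hQ₁ : F.IsNormal Q₁) (hab : ⁅Q, Q⁆ ≤ Q₁)
    (hAut : IsPGroup p (F.autGroup Q₁)) : F.IsNormal Q := by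
  refine isNormal_of_le_centricRadical hS hF hQ fun R _ hc hr => ?_
  have hQ₁R : Q₁ ≤ R := le_of_isNormal_of_centricRadical hS hQ₁ hc hr
  have hQ₁c := stronglyClosed_of_isNormal hQ₁
  refine le_of_normalizing_le hS hQ.1 hc.1 (StronglyClosed.le_normalizer hQ) fun c hcQ hcN => ?_
  refine mem_of_pairs hc hr (fun b : Bool => if b then Q₁ else Q) (fun b : Bool => if b then Q else S)
    ?_ ?_ ?_ hcN ?_
  · intro γ hγ b x hx hxA
    have hm := (mem_autGroup_iff hc.1).1 hγ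
    cases b
    · exact StronglyClosed.mem hQ hm hx hxA
    · exact StronglyClosed.mem hQ₁c hm hx hxA
  · intro γ hγ b x hx hxA
    have hm := (mem_autGroup_iff hc.1).1 hγ
    cases b
    · exact hm.mem hx
    · exact StronglyClosed.mem hQ hm hx hxA
  · intro L hL hstab
    have := finite_mulAut_of_le hc.1
    let L0 : Subgroup (MulAut R) :=
      { carrier := {γ | γ ∈ L ∧ ∀ x ∈ Q₁, autFun γ x = x}
        one_mem' := ⟨L.one_mem, fun x hx => by simp [autFun_apply _ (hQ₁R hx)]⟩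
        mul_mem' := fun {a b} ha hb => ⟨mul_mem ha.1 hb.1, fun x hx => by
          rw [autFun_mul _ _ (hQ₁R hx), hb.2 x hx, ha.2 x hx]⟩
        inv_mem' := fun {a} ha => ⟨inv_mem ha.1, fun x hx => by
          have h1 := autFun_mul a⁻¹ a (hQ₁R hx)
          rw [inv_mul_cancel, ha.2 x hx, autFun_apply _ (hQ₁R hx)] at h1
          exact h1.symm⟩ }
    have hL0 : IsPGroup p L0 := by
      refine isPGroup_of_stabilizes hS hc.1
        (fun i => if i = 0 then ⊥ else if i = 1 then Q₁ else if i = 2 then Q else S) 3 rfl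
        (fun x hx => hc.1 hx) fun γ hγ i hi x hx hxV => ?_
      rcases i with _ | _ | _ | i
      · have hxQ : x ∈ Q₁ := hxV
        show x⁻¹ * autFun γ x ∈ (⊥ : Subgroup Ω)
        rw [hγ.2 x hxQ, inv_mul_cancel, Subgroup.mem_bot]
      · exact hstab γ hγ.1 true x hx hxV
      · exact hstab γ hγ.1 false x hx hxV
      · omega
    rintro ⟨γ, hγ⟩
    have hm := (mem_autGroup_iff hc.1).1 (hL hγ)
    obtain ⟨α, hα, hαe⟩ := (hm.restrict hQ₁R).exists_aut ((hm.restrict hQ₁R).img_eq_of_card_le hQ₁.1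
      (fun x hx => StronglyClosed.mem hQ₁c hm (hQ₁R hx) hx) le_rfl)
    obtain ⟨k, hk⟩ := hAut ⟨α, hα⟩
    have hit : ∀ m : ℕ, ∀ x ∈ Q₁, autFun (γ ^ m) x = autFun (α ^ m) x := by
      intro m
      induction m with
      | zero => intro x hx; simp [autFun_apply _ (hQ₁R hx), autFun_apply _ hx]
      | succ m ih =>
        intro x hx
        rw [pow_succ', pow_succ', autFun_mul _ _ (hQ₁R hx), autFun_mul _ _ hx, ih x hx,
          hαe _ (autFun_mem (α ^ m) hx)]
    have h0 : γ ^ p ^ k ∈ L0 := ⟨L.pow_mem hγ _, fun x hx => by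
      rw [hit _ x hx, show α ^ p ^ k = 1 from congrArg Subtype.val hk, autFun_apply _ hx]; rfl⟩
    obtain ⟨l, hl⟩ := hL0 ⟨_, h0⟩
    refine ⟨k + l, Subtype.ext ?_⟩
    show γ ^ p ^ (k + l) = 1
    rw [pow_add, pow_mul]
    exact congrArg Subtype.val hl
  · intro b x hx hxB
    cases b
    · show x⁻¹ * (c * x * c⁻¹) ∈ Q
      have h1 : x⁻¹ * c * x ∈ Q := by
        simpa using StronglyClosed.conj_mem hQ (S.inv_mem (hc.1 hx)) hcQ
      simpa [mul_assoc] using Q.mul_mem h1 (Q.inv_mem hcQ)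
    · show x⁻¹ * (c * x * c⁻¹) ∈ Q₁
      have h2 := hab (Subgroup.commutator_mem_commutator (Q.inv_mem hxB) hcQ)
      simpa [commutatorElement_def, mul_assoc] using h2

/-- A strongly closed subgroup of odd `p`-group whose `Ω₁` carries a central series of strongly
closed subgroups is normal. -/
theorem isNormal_of_omega_series (hS : IsPGroup p S) (hF : F.IsSaturated p) (hp : p ≠ 2) (hQ : F.StronglyClosed Q)
    (C : ℕ → Subgroup Ω) (n : ℕ) (hC0 : C 0 = ⊥) (hCn : C n = omegaOne p Q)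
    (hC : ∀ i ≤ n, F.StronglyClosed (C i))
    (hcomm : ∀ i < n, ∀ a ∈ Q, ∀ x ∈ C (i + 1), x⁻¹ * (a * x * a⁻¹) ∈ C i) : F.IsNormal Q := by
  have hΩQ : omegaOne p Q ≤ Q := (Subgroup.closure_le _).2 fun x hx => hx.1
  have hΩn : F.IsNormal (omegaOne p Q) := isNormal_of_series hS hF C n hC0 hCn hC
    fun i hi a ha => hcomm i hi a (hΩQ ha)
  refine isNormal_of_le_centricRadical hS hF hQ fun R _ hc hr => ?_
  have hΩR : omegaOne p Q ≤ R := le_of_isNormal_of_centricRadical hS hΩn hc hr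
  refine le_of_normalizing_le hS hQ.1 hc.1 (StronglyClosed.le_normalizer hQ) fun c hcQ hcN => ?_
  refine mem_of_pairs hc hr (fun o : Option (Fin n) => o.elim Q fun i => C i)
    (fun o : Option (Fin n) => o.elim S fun i => C (i + 1)) ?_ ?_ ?_ hcN ?_
  · intro γ hγ o x hx hxA
    have hm := (mem_autGroup_iff hc.1).1 hγ
    cases o with
    | none => exact StronglyClosed.mem hQ hm hx hxA
    | some i => exact StronglyClosed.mem (hC _ i.2.le) hm hx hxA
  · intro γ hγ o x hx hxA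
    have hm := (mem_autGroup_iff hc.1).1 hγ
    cases o with
    | none => exact hm.mem hx
    | some i => exact StronglyClosed.mem (hC _ i.2) hm hx hxA
  · intro L hL hstab
    have := finite_mulAut_of_le hc.1
    have := finite_of_le hc.1
    rintro ⟨γ, hγ⟩
    set k := (orderOf γ).factorization p
    set δ := γ ^ p ^ k with hδdef
    have hδ : δ ∈ L := L.pow_mem hγ _
    have hord : (orderOf δ).Coprime p := by
      rw [hδdef, orderOf_pow, Nat.gcd_eq_right (Nat.ordProj_dvd _ p)]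
      exact (Nat.coprime_ordCompl Fact.out (orderOf_pos γ).ne').symm
    -- on the members of the chain
    have hfix1 : ∀ i, i ≤ n → ∀ x ∈ R, x ∈ C i → autFun δ x = x := by
      intro i
      induction i with
      | zero =>
        intro _ x hx hxC
        rw [hC0, Subgroup.mem_bot] at hxC
        subst hxC
        rw [autFun_apply _ hx]
        simpa using congrArg Subtype.val (map_one δ)
      | succ i ih =>
        intro hi x hx hxC
        have hu : x⁻¹ * autFun δ x ∈ C i := hstab δ hδ (some ⟨i, hi⟩) x hx hxC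
        have huR : x⁻¹ * autFun δ x ∈ R := R.mul_mem (R.inv_mem hx) (autFun_mem δ hx)
        exact eq_of_fixed_diff hS hc.1 hord hx huR (ih (by omega) _ huR hu)
    -- on `Q ⊓ R`
    have hfix2 : ∀ x ∈ R, x ∈ Q → autFun δ x = x := by
      intro x hx hxQ
      let X : Subgroup R := Q.subgroupOf R
      have hXinv : X.map δ.toMonoidHom = X := by
        refine Subgroup.eq_of_le_of_card_ge ?_ (Subgroup.card_map_of_injective δ.injective).ge
        rintro _ ⟨y, hy, rfl⟩
        have := StronglyClosed.mem hQ ((mem_autGroup_iff hc.1).1 (hL hδ)) y.2 hy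
        rwa [autFun_coe] at this
      let e : X ≃* X := (δ.subgroupMap X).trans (MulEquiv.subgroupCongr hXinv)
      have he : ∀ y : X, ((e y : R) : R) = δ (y : R) := fun y => rfl
      have hit : ∀ (m : ℕ) (y : X), ((e^[m] y : X) : R) = (δ ^ m) (y : R) := by
        intro m
        induction m with
        | zero => intro y; simp
        | succ m ih => intro y; rw [Function.iterate_succ_apply', he, ih, pow_succ']; rfl
      have h1 := Transfer.fixed_of_fix_omega (p := p) hp _ X rfl ((isPGroup_of_le hS hc.1).to_subgroup X) e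
        (orderOf δ) hord (fun y => Subtype.ext (by rw [hit, pow_orderOf_eq_one]; rfl))
        (fun y hy => Subtype.ext (Subtype.ext (by
          rw [he]
          have hyQ : ((y : R) : Ω) ∈ C n := by
            rw [hCn]
            refine Subgroup.subset_closure ⟨y.2, ?_⟩
            exact congrArg (fun z : X => ((z : R) : Ω)) hy
          rw [← autFun_coe δ (y : R)]
          exact hfix1 n le_rfl _ (y : R).2 hyQ))) ⟨⟨x, hx⟩, hxQ⟩
      have h2 := congrArg (fun z : X => ((z : R) : Ω)) h1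
      rw [autFun_apply δ hx]
      exact h2
    have hfix3 : ∀ x ∈ R, autFun δ x = x := fun x hx =>
      eq_of_fixed_diff hS hc.1 hord hx (R.mul_mem (R.inv_mem hx) (autFun_mem δ hx))
        (hfix2 _ (R.mul_mem (R.inv_mem hx) (autFun_mem δ hx)) (hstab δ hδ none x hx (hc.1 hx)))
    refine ⟨k, Subtype.ext ?_⟩
    show γ ^ p ^ k = 1
    refine MulEquiv.ext fun x => Subtype.ext ?_
    rw [← autFun_coe, hfix3 _ x.2]
    rfl
  · intro o x hx hxB
    cases o with
    | none =>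
      show x⁻¹ * (c * x * c⁻¹) ∈ Q
      have h1 : x⁻¹ * c * x ∈ Q := by
        simpa using StronglyClosed.conj_mem hQ (S.inv_mem (hc.1 hx)) hcQ
      simpa [mul_assoc] using Q.mul_mem h1 (Q.inv_mem hcQ)
    | some i => exact hcomm i i.2 c hcQ x hxB

end Cfsg.Lib.Fusion
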