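import Mathlib

/-!
Transvections of a finite abelian group with centre of prime order: two of them that do not fix
each other's centre generate an inverter of both centres.
-/

set_option autoImplicit false

open scoped Classical

namespace Cfsg.Lib.Fusion.Transvection

variable {E : Type*} [CommGroup E] {D D' : Subgroup E} {a b c g : MulAut E} {p : ℕ}

/-- `a` moves every element within its `D`-coset and fixes `D`. -/
def IsTrv (a : MulAut E) (D : Subgroup E) : Prop :=
  (∀ x, x⁻¹ * a x ∈ D) ∧ ∀ d ∈ D, a d = d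

/-- The displacement `x ↦ x⁻¹ a x`. -/
def disp (a : MulAut E) : E →* E where
  toFun x := x⁻¹ * a x
  map_one' := by simp
  map_mul' x y := by
    rw [map_mul, mul_inv]
    exact mul_mul_mul_comm _ _ _ _

theorem IsTrv.exists_eq (ha : IsTrv a D) (x : E) : ∃ d ∈ D, a x = x * d :=
  ⟨_, ha.1 x, by group⟩

theorem IsTrv.conj (ha : IsTrv a D) (g : MulAut E) :
    IsTrv (g * a * g⁻¹) (D.map g.toMonoidHom) := by
  refine ⟨fun x => ⟨(g⁻¹ x)⁻¹ * a (g⁻¹ x), ha.1 _, ?_⟩, ?_⟩
  · show g ((g⁻¹ x)⁻¹ * a (g⁻¹ x)) = _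
    rw [map_mul, map_inv, MulAut.apply_inv_self]
    rfl
  · rintro _ ⟨d, hd, rfl⟩
    show g (a (g⁻¹ (g d))) = g d
    rw [MulAut.inv_apply_self, ha.2 d hd]

theorem IsTrv.pow (ha : IsTrv a D) {x d : E} (hd : d ∈ D) (hx : a x = x * d) (n : ℕ) :
    (a ^ n) x = x * d ^ n := by
  induction n with
  | zero => simp
  | succ n ih =>
    rw [pow_succ', MulAut.mul_apply, ih, map_mul, ha.2 _ (D.pow_mem hd n), hx, pow_succ', mul_assoc]

theorem pow_apply_of_fix {x : E} (hx : a x = x) (n : ℕ) : (a ^ n) x = x := by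
  induction n with
  | zero => simp
  | succ n ih => rw [pow_succ, MulAut.mul_apply, hx, ih]

/-- Transvections fixing each other's centres commute. -/
theorem commute_of_fix (ha : IsTrv a D) (hb : IsTrv b D') (hab : ∀ d ∈ D', a d = d)
    (hba : ∀ d ∈ D, b d = d) : a * b = b * a := by
  ext x
  obtain ⟨d, hd, hx⟩ := ha.exists_eq x
  obtain ⟨d', hd', hx'⟩ := hb.exists_eq x
  rw [MulAut.mul_apply, MulAut.mul_apply, hx', map_mul, hx, hab d' hd', map_mul, hx', hba d hd]
  exact mul_right_comm _ _ _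

/-- A nontrivial displacement from a subgroup of prime order onto another one. -/
theorem disp_surjective [Fact p.Prime] (hD : Nat.card D = p) (ha : IsTrv a D) {e : E}
    (he : a e ≠ e) {d : E} (hd : d ∈ D) : ∃ n : ℕ, (e ^ n)⁻¹ * a (e ^ n) = d := by
  have : Finite D := Nat.finite_of_card_ne_zero (hD ▸ (Fact.out : p.Prime).ne_zero)
  have h1 : (⟨_, ha.1 e⟩ : D) ≠ 1 := fun h => he (by
    have := congrArg Subtype.val h
    rw [Subgroup.coe_one, inv_mul_eq_one] at this
    exact this.symm)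
  have hgen : Subgroup.zpowers (⟨_, ha.1 e⟩ : D) = ⊤ := by
    rcases Subgroup.eq_bot_or_eq_top_of_prime_card (Subgroup.zpowers (⟨_, ha.1 e⟩ : D))
      (hp := by rw [hD]; infer_instance) with h | h
    · exact absurd (Subgroup.zpowers_eq_bot.1 h) h1
    · exact h
  have h2 : (⟨d, hd⟩ : D) ∈ Submonoid.powers (⟨_, ha.1 e⟩ : D) :=
    (isOfFinOrder_of_finite _).mem_powers_iff_mem_zpowers.2 (hgen ▸ Subgroup.mem_top _)
  obtain ⟨n, hn⟩ := h2
  refine ⟨n, ?_⟩
  show disp a (e ^ n) = d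
  rw [map_pow]
  exact congrArg Subtype.val hn

/-- In the situation of a non-commuting pair, every element is a product of the centres and
a common fixed element. -/
theorem exists_decomp [Fact p.Prime] (hD : Nat.card D = p) (hD' : Nat.card D' = p)
    (ha : IsTrv a D) (hb : IsTrv b D') {e e' : E} (he : e ∈ D) (he' : e' ∈ D') (hab : a e' ≠ e')
    (hba : b e ≠ e) (x : E) :
    ∃ d ∈ D, ∃ d' ∈ D', a (x * d * d') = x * d * d' ∧ b (x * d * d') = x * d * d' := by
  obtain ⟨n, hn⟩ := disp_surjective hD ha hab (D.inv_mem (ha.1 x))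
  obtain ⟨m, hm⟩ := disp_surjective hD' hb hba (D'.inv_mem (hb.1 x))
  refine ⟨e ^ m, D.pow_mem he m, e' ^ n, D'.pow_mem he' n, ?_, ?_⟩
  · have h1 : disp a (x * e ^ m * e' ^ n) = 1 := by
      rw [map_mul, map_mul]
      show x⁻¹ * a x * ((e ^ m)⁻¹ * a (e ^ m)) * ((e' ^ n)⁻¹ * a (e' ^ n)) = 1
      rw [hn, ha.2 _ (D.pow_mem he m), inv_mul_cancel, mul_one, mul_inv_cancel]
    exact (inv_mul_eq_one.1 h1).symm
  · have h1 : disp b (x * e ^ m * e' ^ n) = 1 := by
      rw [map_mul, map_mul]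
      show x⁻¹ * b x * ((e ^ m)⁻¹ * b (e ^ m)) * ((e' ^ n)⁻¹ * b (e' ^ n)) = 1
      rw [hm, hb.2 _ (D'.pow_mem he' n), inv_mul_cancel, mul_one, mul_inv_cancel]
    exact (inv_mul_eq_one.1 h1).symm

theorem mem_zpowers_of_card [Fact p.Prime] (hD : Nat.card D = p) {e d : E} (he : e ∈ D)
    (h1 : e ≠ 1) (hd : d ∈ D) : d ∈ Subgroup.zpowers e := by
  have : Finite D := Nat.finite_of_card_ne_zero (hD ▸ (Fact.out : p.Prime).ne_zero)
  rcases Subgroup.eq_bot_or_eq_top_of_prime_card (Subgroup.zpowers (⟨e, he⟩ : D))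
    (hp := by rw [hD]; infer_instance) with h | h
  · exact absurd (congrArg Subtype.val (Subgroup.zpowers_eq_bot.1 h)) h1
  · obtain ⟨i, hi⟩ := Subgroup.mem_zpowers_iff.1 (h ▸ Subgroup.mem_top (⟨d, hd⟩ : D))
    exact ⟨i, congrArg Subtype.val hi⟩

/-- A non-commuting pair generates an automorphism commuting with `a` that inverts both centres
and fixes what both of them fix. -/
theorem exists_inverter [Fact p.Prime] (hD : Nat.card D = p) (hD' : Nat.card D' = p)
    (ha : IsTrv a D) (hb : IsTrv b D') {d₀ d₀' : E} (hd₀ : d₀ ∈ D) (hd₀' : d₀' ∈ D')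
    (hab : a d₀' ≠ d₀') (hba : b d₀ ≠ d₀) :
    ∃ h ∈ Subgroup.closure ({a, b} : Set (MulAut E)), a * h = h * a ∧
      (∀ d ∈ D, h d = d⁻¹) ∧ ∀ x, a x = x → b x = x → h x = x := by
  obtain ⟨e', he'D, he⟩ := hb.exists_eq d₀
  have he'1 : e' ≠ 1 := fun h => hba (by rw [he, h, mul_one])
  have he'a : a e' ≠ e' := fun h => hab (by
    obtain ⟨i, rfl⟩ := Subgroup.mem_zpowers_iff.1 (mem_zpowers_of_card hD' he'D he'1 hd₀')
    rw [map_zpow, h])
  obtain ⟨c, hc, hce⟩ := ha.exists_eq e'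
  have hc1 : c ≠ 1 := fun h => he'a (by rw [hce, h, mul_one])
  have : Finite D := Nat.finite_of_card_ne_zero (hD ▸ (Fact.out : p.Prime).ne_zero)
  obtain ⟨j, hj⟩ : ∃ j : ℕ, c ^ j = d₀⁻¹ := by
    obtain ⟨i, hi⟩ := Subgroup.mem_zpowers_iff.1 (mem_zpowers_of_card hD hc hc1 (D.inv_mem hd₀))
    have hcD : IsOfFinOrder c := D.subtype.isOfFinOrder (isOfFinOrder_of_finite (⟨c, hc⟩ : D))
    exact hcD.mem_powers_iff_mem_zpowers.2 ⟨i, hi⟩
  set a' := a ^ j with ha'
  have ha'D : ∀ d ∈ D, a' d = d := fun d hd => pow_apply_of_fix (ha.2 d hd) j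
  have ha'e' : a' e' = e' * d₀⁻¹ := by rw [ha', ha.pow hc hce, hj]
  set w := a' * b * a' with hw
  have hwd : w d₀ = e' := by
    simp only [hw, MulAut.mul_apply]
    rw [ha'D d₀ hd₀, he, map_mul, ha'D d₀ hd₀, ha'e', mul_comm e', mul_inv_cancel_left]
  have hwe : w e' = d₀⁻¹ := by
    simp only [hw, MulAut.mul_apply]
    rw [ha'e', map_mul, hb.2 e' he'D, map_inv, he, mul_inv_rev, ← mul_assoc, mul_inv_cancel,
      one_mul, ha'D _ (D.inv_mem hd₀)]
  set h := w * w with hh
  have hhd : ∀ d ∈ D, h d = d⁻¹ := by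
    intro d hd
    have h0 : d₀ ≠ 1 := fun h => hba (by rw [h, map_one])
    obtain ⟨i, rfl⟩ := Subgroup.mem_zpowers_iff.1 (mem_zpowers_of_card hD hd₀ h0 hd)
    rw [map_zpow, hh, MulAut.mul_apply, hwd, hwe, inv_zpow]
  have hhd' : ∀ d ∈ D', h d = d⁻¹ := by
    intro d hd
    obtain ⟨i, rfl⟩ := Subgroup.mem_zpowers_iff.1 (mem_zpowers_of_card hD' he'D he'1 hd)
    rw [map_zpow, hh, MulAut.mul_apply, hwe, map_inv, hwd, inv_zpow]
  have hfix : ∀ x, a x = x → b x = x → h x = x := by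
    intro x h1 h2
    have h3 : a' x = x := pow_apply_of_fix h1 j
    have h4 : w x = x := by simp only [hw, MulAut.mul_apply]; rw [h3, h2, h3]
    rw [hh, MulAut.mul_apply, h4, h4]
  have hcl : a' ∈ Subgroup.closure ({a, b} : Set (MulAut E)) :=
    Subgroup.pow_mem _ (Subgroup.subset_closure (Set.mem_insert _ _)) j
  refine ⟨h, ?_, ?_, hhd, hfix⟩
  · have hwcl : w ∈ Subgroup.closure ({a, b} : Set (MulAut E)) :=
      mul_mem (mul_mem hcl (Subgroup.subset_closure (by simp))) hcl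
    exact mul_mem hwcl hwcl
  · ext x
    obtain ⟨d, hd, d', hd', h1, h2⟩ := exists_decomp hD hD' ha hb hd₀ hd₀' hab hba x
    set y := x * d * d' with hy
    have hx : x = y * (d⁻¹ * d'⁻¹) := by
      rw [hy, ← mul_inv, mul_assoc x, mul_inv_cancel_right]
    obtain ⟨u, hu, hau⟩ := ha.exists_eq d'
    show a (h x) = h (a x)
    rw [hx]
    simp only [map_mul, map_inv, hfix y h1 h2, h1, hhd _ hd, hhd' _ hd', ha.2 _ hd, hau, hhd _ hu,
      inv_inv, mul_inv]

/-- Among transvections with centres of order two, two of which commute only if they are equal,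
a third one is the product of the other two with the first. -/
theorem eq_triangle (C : Set (MulAut E)) (hC : ∀ x ∈ C, ∃ K : Subgroup E, Nat.card K = 2 ∧ IsTrv x K)
    (hcomm : ∀ x ∈ C, ∀ y ∈ C, x * y = y * x → x = y)
    (hconj : ∀ x ∈ C, ∀ y ∈ C, x * y * x⁻¹ ∈ C)
    (hfix : ∀ x ∈ C, ∀ y ∈ C, x ≠ y → ∀ K : Subgroup E, Nat.card K = 2 → IsTrv y K →
      ∃ d ∈ K, x d ≠ d)
    {a b c : MulAut E} (haC : a ∈ C) (hbC : b ∈ C) (hcC : c ∈ C) (hab : a ≠ b) (hca : c ≠ a)
    (hcb : c ≠ b) : c = a * b * a⁻¹ := by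
  obtain ⟨Ka, hKa, ha⟩ := hC a haC
  obtain ⟨Kb, hKb, hb⟩ := hC b hbC
  obtain ⟨Kc, hKc, hc⟩ := hC c hcC
  have two : ∀ {K : Subgroup E}, Nat.card K = 2 → ∀ {x y : E}, x ∈ K → y ∈ K → x ≠ 1 → y ≠ 1 →
      x = y := by
    intro K hK x y hx hy hx1 hy1
    obtain ⟨i, rfl⟩ := Subgroup.mem_zpowers_iff.1
      (have : Fact (Nat.Prime 2) := ⟨Nat.prime_two⟩; mem_zpowers_of_card hK hx hx1 hy)
    have hx2 : x ^ (2 : ℤ) = 1 := by
      have := orderOf_dvd_iff_pow_eq_one.1 ((Subgroup.orderOf_coe ⟨x, hx⟩).symm ▸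
        (hK ▸ orderOf_dvd_natCard (⟨x, hx⟩ : K)))
      rw [zpow_ofNat]
      exact this
    rcases Int.even_or_odd' i with ⟨k, rfl | rfl⟩
    · exact absurd (by rw [zpow_mul, hx2, one_zpow]) hy1
    · rw [zpow_add, zpow_mul, hx2, one_zpow, one_mul, zpow_one]
  -- `x` moves the centre of `y` by the centre of `x`
  have move : ∀ {x y : MulAut E} {K L : Subgroup E}, x ∈ C → y ∈ C → x ≠ y → Nat.card K = 2 →
      IsTrv x K → Nat.card L = 2 → IsTrv y L → ∀ {k l : E}, k ∈ K → k ≠ 1 → l ∈ L → l ≠ 1 →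
      x l = l * k := by
    intro x y K L hx hy hxy hK hxK hL hyL k l hk hk1 hl hl1
    obtain ⟨d, hd, hxd⟩ := hfix x hx y hy hxy L hL hyL
    have hd1 : d ≠ 1 := fun h => hxd (by rw [h, map_one])
    obtain ⟨u, hu, hxu⟩ := hxK.exists_eq l
    have hu1 : u ≠ 1 := fun h => hxd (by rw [two hL hd hl hd1 hl1, hxu, h, mul_one])
    rw [hxu, two hK hu hk hu1 hk1]
  have hnt : ∀ {K : Subgroup E}, Nat.card K = 2 → ∃ k ∈ K, k ≠ 1 := by
    intro K hK
    refine (Subgroup.bot_or_exists_ne_one K).resolve_left fun h => ?_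
    rw [h, Subgroup.card_bot] at hK
    omega
  obtain ⟨e, he, he1⟩ := hnt hKa
  obtain ⟨e', he', he'1⟩ := hnt hKb
  obtain ⟨f, hf, hf1⟩ := hnt hKc
  have hee : e * e = 1 := by
    have := pow_card_eq_one' (x := (⟨e, he⟩ : Ka))
    rw [hKa, pow_two] at this
    exact congrArg Subtype.val this
  have hee' : e' * e' = 1 := by
    have := pow_card_eq_one' (x := (⟨e', he'⟩ : Kb))
    rw [hKb, pow_two] at this
    exact congrArg Subtype.val this
  have hff : f * f = 1 := by
    have := pow_card_eq_one' (x := (⟨f, hf⟩ : Kc))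
    rw [hKc, pow_two] at this
    exact congrArg Subtype.val this
  have hae' := move haC hbC hab hKa ha hKb hb he he1 he' he'1
  have haf := move haC hcC hca.symm hKa ha hKc hc he he1 hf hf1
  have hbf := move hbC hcC hcb.symm hKb hb hKc hc he' he'1 hf hf1
  have hbe := move hbC haC hab.symm hKb hb hKa ha he' he'1 he he1
  have hce := move hcC haC hca hKc hc hKa ha hf hf1 he he1
  have hce' := move hcC hbC hcb hKc hc hKb hb hf hf1 he' he'1
  have hainv : a⁻¹ f = f * e := by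
    apply a.injective
    rw [MulAut.apply_inv_self, map_mul, haf, ha.2 e he, mul_assoc, hee, mul_one]
  set u := a * b * a⁻¹ with hu
  refine hcomm c hcC u (hconj a haC b hbC) (commute_of_fix hc (hb.conj a) ?_ ?_)
  · rintro _ ⟨d, hd, rfl⟩
    show c (a d) = a d
    by_cases hd1 : d = 1
    · rw [hd1, map_one, map_one]
    rw [two hKb hd he' hd1 he'1, hae', map_mul, hce, hce', mul_mul_mul_comm, hff, mul_one]
  · intro d hd
    by_cases hd1 : d = 1
    · rw [hd1, map_one]
    rw [two hKc hd hf hd1 hf1, hu, MulAut.mul_apply, MulAut.mul_apply, hainv, map_mul, hbf, hbe,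
      show f * e' * (e * e') = f * e by rw [mul_mul_mul_comm, mul_comm e' e', hee', mul_one],
      map_mul, haf, ha.2 e he, mul_assoc, hee, mul_one]

/-- A large group of transvections with the same centre has a nontrivial element fixing a given
element. -/
theorem exists_fix [Finite E] (hD : Nat.card D = p) (T : Subgroup (MulAut E))
    (hT : ∀ t ∈ T, IsTrv t D) (hcard : p < Nat.card T) (z : E) :
    ∃ t ∈ T, t ≠ 1 ∧ t z = z := by
  let ψ : T →* E :=
    { toFun := fun t => z⁻¹ * (t : MulAut E) z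
      map_one' := by simp
      map_mul' := fun s t => by
        obtain ⟨d, hd, ht⟩ := (hT t t.2).exists_eq z
        rw [Subgroup.coe_mul, MulAut.mul_apply, ht, map_mul, (hT s s.2).2 d hd,
          inv_mul_cancel_left, mul_assoc] }
  have hle : ψ.range ≤ D := by
    rintro _ ⟨t, rfl⟩
    exact (hT t t.2).1 z
  have h1 : Nat.card ψ.range ≤ p :=
    hD ▸ Nat.card_le_card_of_injective _ (Subgroup.inclusion_injective hle)
  have h2 : ψ.ker ≠ ⊥ := fun h => by
    have h3 := Nat.card_congr (MonoidHom.ofInjective ((MonoidHom.ker_eq_bot_iff ψ).1 h)).toEquiv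
    omega
  obtain ⟨t, ht, ht1⟩ := (Subgroup.bot_or_exists_ne_one ψ.ker).resolve_left h2
  exact ⟨t, t.2, fun h => ht1 (Subtype.ext h), (inv_mul_eq_one.1 (MonoidHom.mem_ker.1 ht)).symm⟩

/-- When the `p`-subgroups have order at most `p`, commuting `p`-elements generate the same
subgroup. -/
theorem mem_zpowers_of_commute [Fact p.Prime] [Finite E] {G : Subgroup (MulAut E)}
    (hG : ∀ Q : Subgroup (MulAut E), Q ≤ G → IsPGroup p Q → Nat.card Q ≤ p) {x y : MulAut E}
    (hx : x ∈ G) (hy : y ∈ G) (hxp : x ^ p = 1) (hyp : y ^ p = 1) (hx1 : x ≠ 1)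
    (hn : y * x * y⁻¹ ∈ Subgroup.zpowers x) : y ∈ Subgroup.zpowers x := by
  have hpg : ∀ {z : MulAut E}, z ^ p = 1 → IsPGroup p (Subgroup.zpowers z) := by
    rintro z hz ⟨_, i, rfl⟩
    exact ⟨1, Subtype.ext (by
      show (z ^ i) ^ p ^ 1 = 1
      rw [pow_one, ← zpow_natCast, ← zpow_mul, mul_comm, zpow_mul, zpow_natCast, hz, one_zpow])⟩
  have hle : Subgroup.zpowers y ≤ Subgroup.normalizer (Subgroup.zpowers x : Set (MulAut E)) := by
    rw [Subgroup.zpowers_le, Subgroup.mem_normalizer_iff]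
    have h1 : (Subgroup.zpowers x).map (MulAut.conj y).toMonoidHom = Subgroup.zpowers x := by
      refine SetLike.coe_injective (Set.eq_of_subset_of_ncard_le ?_ ?_ (Set.toFinite _))
      · rw [SetLike.coe_subset_coe, MonoidHom.map_zpowers, Subgroup.zpowers_le]
        exact hn
      · rw [← Nat.card_coe_set_eq, ← Nat.card_coe_set_eq]
        exact (Subgroup.card_map_of_injective (MulAut.conj y).injective).ge
    intro z
    constructor
    · intro hz
      exact h1.le ⟨z, hz, rfl⟩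
    · intro hz
      obtain ⟨w, hw, hwe⟩ := h1.ge hz
      exact (MulAut.conj y).injective hwe ▸ hw
  have hP := (hpg hxp).to_sup_of_normal_left' (hpg hyp) hle
  have h2 := hG _ (sup_le (Subgroup.zpowers_le.2 hx) (Subgroup.zpowers_le.2 hy)) hP
  have h3 : Subgroup.zpowers x = Subgroup.zpowers x ⊔ Subgroup.zpowers y := by
    refine SetLike.coe_injective (Set.eq_of_subset_of_ncard_le ?_ ?_ (Set.toFinite _))
    · exact SetLike.coe_subset_coe.2 le_sup_left
    · rw [← Nat.card_coe_set_eq, ← Nat.card_coe_set_eq]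
      refine h2.trans_eq ?_
      show p = Nat.card (Subgroup.zpowers x)
      rw [Nat.card_zpowers, orderOf_eq_prime hxp hx1]
  exact h3 ▸ Subgroup.mem_sup_right (Subgroup.mem_zpowers y)

/-- Two transvections generating different Sylow subgroups of order `p` do not fix each other's
centres. -/
theorem exists_not_fix [Fact p.Prime] [Finite E] {G : Subgroup (MulAut E)}
    (hG : ∀ Q : Subgroup (MulAut E), Q ≤ G → IsPGroup p Q → Nat.card Q ≤ p) {x y : MulAut E}
    (hx : x ∈ G) (hy : y ∈ G) (hxp : x ^ p = 1) (hyp : y ^ p = 1) (hx1 : x ≠ 1)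
    (hxy : y ∉ Subgroup.zpowers x) (hxD : IsTrv x D) (hyD : IsTrv y D') :
    ∃ d ∈ D', x d ≠ d := by
  by_contra hcon
  have hfix : ∀ d ∈ D', x d = d := fun d hd => by
    by_contra h
    exact hcon ⟨d, hd, h⟩
  set u := y * x * y⁻¹ with hu
  have hu1 : u ^ p = 1 := by rw [hu, conj_pow, hxp, mul_one, mul_inv_cancel]
  have hxu : x * u = u * x := by
    refine commute_of_fix hxD (hxD.conj y) ?_ ?_
    · rintro _ ⟨k, hk, rfl⟩
      obtain ⟨l, hl, hkl⟩ := hyD.exists_eq k
      show x (y k) = y k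
      rw [hkl, map_mul, hxD.2 k hk, hfix l hl]
    · intro k hk
      obtain ⟨l, hl, hkl⟩ := hyD.exists_eq (y⁻¹ k)
      rw [MulAut.apply_inv_self] at hkl
      have h1 : y⁻¹ k = k * l⁻¹ := eq_mul_inv_of_mul_eq hkl.symm
      show y (x (y⁻¹ k)) = k
      rw [h1, map_mul x, map_inv x, hxD.2 k hk, hfix l hl, ← h1, MulAut.apply_inv_self]
  refine hxy (mem_zpowers_of_commute hG hx hy hxp hyp hx1 ?_)
  refine mem_zpowers_of_commute hG hx (G.mul_mem (G.mul_mem hy hx) (G.inv_mem hy)) hxp hu1 hx1 ?_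
  rw [← hxu, mul_inv_cancel_right]
  exact Subgroup.mem_zpowers x

end Cfsg.Lib.Fusion.Transvection
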