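import Mathlib
import Cfsg.Agent.Lib.Fusion.Essential
import Cfsg.Agent.Lib.Fusion.NormalCriteria
import Cfsg.Agent.Lib.Fusion.Hyperfocal
import Cfsg.Agent.Lib.Fusion.TransvectionPair
import Cfsg.Agent.Lib.Transfer.PGroupNormal

/-!
Saturated systems on a `p`-group with derived subgroup of order `p`: the essential subgroups
are abelian of index `p`, their automorphism groups contain pairs of transvections, and a
central subgroup fixed by all of these and by `Aut_F(S)` is normal.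
-/

set_option autoImplicit false

open scoped Classical commutatorElement Pointwise

namespace Cfsg.Lib.Fusion

open Cfsg Cfsg.FusionSystem Transvection

variable {Ω : Type*} [Group Ω] {S : Subgroup Ω} {F : FusionSystem S} {E : Subgroup Ω} {p : ℕ}

/-- The automorphisms moving every element within its coset of `N`. -/
def moveSub (E N : Subgroup Ω) : Subgroup (MulAut E) where
  carrier := {γ | ∀ x : E, (x : Ω)⁻¹ * (γ x : E) ∈ N}
  one_mem' x := by simp
  mul_mem' {α β} hα hβ x := by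
    have h := N.mul_mem (hβ x) (hα (β x))
    rwa [mul_assoc, mul_inv_cancel_left] at h
  inv_mem' {α} hα x := by
    have h := N.inv_mem (hα (α⁻¹ x))
    rwa [MulAut.apply_inv_self, mul_inv_rev, inv_inv] at h

/-- The automorphisms fixing the elements of `N`. -/
def fixSub (E N : Subgroup Ω) : Subgroup (MulAut E) where
  carrier := {γ | ∀ x : E, (x : Ω) ∈ N → γ x = x}
  one_mem' x _ := rfl
  mul_mem' {α β} hα hβ x hx := by rw [MulAut.mul_apply, hβ x hx, hα x hx]
  inv_mem' {α} hα x hx := by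
    conv_lhs => rw [← hα x hx]
    exact MulAut.inv_apply_self _ _ _

theorem mem_centre_iff {x : Ω} :
    x ∈ centralizerIn S S ↔ x ∈ S ∧ ∀ c ∈ S, c * x = x * c := by
  rw [centralizerIn, Subgroup.mem_inf, Subgroup.mem_centralizer_iff]
  exact Iff.rfl

theorem derived_le : ⁅S, S⁆ ≤ S :=
  Subgroup.commutator_le.2 fun a ha b hb => by
    rw [commutatorElement_def]
    exact S.mul_mem (S.mul_mem (S.mul_mem ha hb) (S.inv_mem ha)) (S.inv_mem hb)

theorem derived_conj {c d : Ω} (hc : c ∈ S) (hd : d ∈ ⁅S, S⁆) : c * d * c⁻¹ ∈ ⁅S, S⁆ := by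
  have h := mul_mem hd (commutator_mem hc (derived_le hd))
  rwa [mul_inv_cancel_left] at h

variable [Finite S] [Fact p.Prime]

theorem derived_central (hS : IsPGroup p S) (hD : Nat.card (⁅S, S⁆ : Subgroup Ω) = p) :
    ⁅S, S⁆ ≤ centralizerIn S S := by
  set N := (⁅S, S⁆ : Subgroup Ω).subgroupOf S
  have hn : N.Normal := ⟨fun d hd c => derived_conj c.2 hd⟩
  have hcN : Nat.card N = p := (Nat.card_congr (Subgroup.subgroupOfEquivOfLe derived_le).toEquiv).trans hD
  have hNb : N ≠ ⊥ := fun h => by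
    rw [h, Subgroup.card_bot] at hcN
    exact (Fact.out : p.Prime).one_lt.ne hcN
  have hle : N ≤ Subgroup.center S := by
    rcases Subgroup.eq_bot_or_eq_top_of_prime_card ((N ⊓ Subgroup.center S).subgroupOf N)
      (hp := by rw [hcN]; infer_instance) with h | h
    · refine absurd ?_ (Cfsg.Lib.Transfer.inf_center_ne_bot hS N hNb)
      rw [Subgroup.subgroupOf_eq_bot, disjoint_iff] at h
      rwa [inf_eq_left.2 inf_le_left] at h
    · exact (Subgroup.subgroupOf_eq_top.1 h).trans inf_le_right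
  intro d hd
  refine mem_centre_iff.2 ⟨derived_le hd, fun c hc => ?_⟩
  exact congrArg Subtype.val
    (Subgroup.mem_center_iff.1 (hle (x := ⟨d, derived_le hd⟩) hd) ⟨c, hc⟩)

omit [Finite S] [Fact p.Prime] in
theorem centre_le_centric (hE : F.IsCentric E) : centralizerIn S S ≤ E := fun z hz => by
  refine hE.2 E (isConj_refl hE.1) (mem_centralizerIn_iff.2 ⟨(mem_centre_iff.1 hz).1, fun x hx => ?_⟩)
  rw [← (mem_centre_iff.1 hz).2 x (hE.1 hx), mul_inv_cancel_right]

omit [Finite S] [Fact p.Prime] in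
/-- An element of `N_S(E)` inducing an inner automorphism of a centric `E` lies in `E`. -/
theorem mem_of_conjAut_mem_inn (hE : F.IsCentric E) {c : Ω} (hc : c ∈ normalizerIn S E)
    (h : conjAut S E ⟨c, hc⟩ ∈ Inn E) : c ∈ E := by
  rw [inn_eq_autInducedBy, mem_autInducedBy_iff] at h
  obtain ⟨u, hu, hue⟩ := h
  have hz : u⁻¹ * c ∈ centralizerIn S E := by
    refine mem_centralizerIn_iff.2
      ⟨S.mul_mem (S.inv_mem (hE.1 hu)) (normalizerIn_le hc), fun x hx => ?_⟩
    have h3 : c * x * c⁻¹ = u * x * u⁻¹ := (autFun_conjAut ⟨c, hc⟩ hx).symm.trans (hue x hx)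
    calc u⁻¹ * c * x * (u⁻¹ * c)⁻¹ = u⁻¹ * (c * x * c⁻¹) * u := by group
      _ = x := by rw [h3]; group
  have h4 := E.mul_mem hu (hE.2 E (isConj_refl hE.1) hz)
  rwa [mul_inv_cancel_left] at h4

/-- A normal `p`-subgroup of `Aut_F(E)` consists of inner automorphisms when `E` is radical. -/
theorem le_inn_of_radical (hr : F.IsRadical p E) {A : Subgroup (MulAut E)}
    (hA : A ≤ F.autGroup E) (hAp : IsPGroup p A)
    (hAn : ∀ γ ∈ F.autGroup E, ∀ a ∈ A, γ * a * γ⁻¹ ∈ A) : A ≤ Inn E := by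
  have := finite_mulAut_of_le hr.1
  intro a ha
  rw [← hr.2]
  refine ⟨⟨a, hA ha⟩, ?_, rfl⟩
  have h1 : A.subgroupOf (F.autGroup E) ≤ pCore p (F.autGroup E) :=
    le_sSup ⟨⟨fun x hx y => hAn y y.2 x hx⟩, hAp.of_equiv (Subgroup.subgroupOfEquivOfLe hA).symm⟩
  exact h1 ha

theorem essential_normal (hS : IsPGroup p S) (hD : Nat.card (⁅S, S⁆ : Subgroup Ω) = p)
    (hE : F.IsCentric E) : S ≤ normalizerIn S E := fun c hc => by
  refine mem_normalizerIn_of_conj hE.1 hc fun x hx => ?_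
  have h := E.mul_mem hx (centre_le_centric hE (derived_central hS hD (commutator_mem hc (hE.1 hx))))
  rwa [mul_inv_cancel_left] at h

/-- Essential subgroups are abelian. -/
theorem essential_abelian (hS : IsPGroup p S) (hF : F.IsSaturated p)
    (hD : Nat.card (⁅S, S⁆ : Subgroup Ω) = p) (hE : F.IsEssential p E) :
    ∀ x ∈ E, ∀ y ∈ E, x * y = y * x := by
  by_contra hcon
  have hES := lt_top_of_essential hS hF hE
  have := finite_of_le hE.1.1
  have hfd : Finite (⁅S, S⁆ : Subgroup Ω) := finite_of_le derived_le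
  have hEE : ⁅E, E⁆ = ⁅S, S⁆ := by
    have hle : ⁅E, E⁆ ≤ ⁅S, S⁆ := Subgroup.commutator_mono hES.le hES.le
    rcases Subgroup.eq_bot_or_eq_top_of_prime_card (⁅E, E⁆.subgroupOf ⁅S, S⁆)
      (hp := by rw [hD]; infer_instance) with h | h
    · refine absurd (fun x hx y hy => ?_) hcon
      rw [Subgroup.subgroupOf_eq_bot, disjoint_iff, inf_eq_left.2 hle] at h
      have h1 := Subgroup.commutator_mem_commutator hx hy
      rw [h, Subgroup.mem_bot] at h1
      exact commutatorElement_eq_one_iff_mul_comm.1 h1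
    · exact le_antisymm hle (Subgroup.subgroupOf_eq_top.1 h)
  have hDE : ⁅S, S⁆ ≤ E := (derived_central hS hD).trans (centre_le_centric hE.1)
  -- the derived subgroup of `E` is invariant
  have hinv : ∀ (γ : MulAut E) (x : E), (x : Ω) ∈ ⁅S, S⁆ → ((γ x : E) : Ω) ∈ ⁅S, S⁆ := by
    intro γ x hx
    have h : ⁅E, E⁆ ≤ (((⁅E, E⁆ : Subgroup Ω).subgroupOf E).comap γ.toMonoidHom).map E.subtype :=
      Subgroup.commutator_le.2 fun u hu v hv =>
        ⟨⁅(⟨u, hu⟩ : E), ⟨v, hv⟩⁆, by
          show ((γ ⁅(⟨u, hu⟩ : E), ⟨v, hv⟩⁆ : E) : Ω) ∈ ⁅E, E⁆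
          rw [map_commutatorElement]
          exact Subgroup.commutator_mem_commutator (γ ⟨u, hu⟩).2 (γ ⟨v, hv⟩).2, rfl⟩
    rw [hEE] at h
    obtain ⟨z, hz, hzx⟩ := h hx
    rw [show x = z from Subtype.ext hzx.symm]
    exact hz
  set A := F.autGroup E ⊓ (moveSub E ⁅S, S⁆ ⊓ fixSub E ⁅S, S⁆) with hA
  have hAp : IsPGroup p A := by
    refine isPGroup_of_stabilizes hS hE.1.1
      (fun i => if i = 0 then ⊥ else if i = 1 then ⁅S, S⁆ else E) 2 (if_pos rfl)
      (fun x hx => by simpa using hx) fun γ hγ i hi x hx hxW => ?_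
    rw [autFun_apply _ hx]
    interval_cases i
    · simp only [zero_add, one_ne_zero, if_false, if_true] at hxW
      rw [hγ.2.2 ⟨x, hx⟩ hxW]
      simp
    · simpa using hγ.2.1 ⟨x, hx⟩
  have hAn : ∀ γ ∈ F.autGroup E, ∀ a ∈ A, γ * a * γ⁻¹ ∈ A := by
    intro γ hγ a ha
    refine ⟨mul_mem (mul_mem hγ ha.1) ((F.autGroup E).inv_mem hγ), fun x => ?_, fun x hx => ?_⟩
    · have h := hinv γ ((γ⁻¹ x)⁻¹ * a (γ⁻¹ x)) (ha.2.1 (γ⁻¹ x))
      rw [map_mul, map_inv, MulAut.apply_inv_self] at h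
      exact h
    · rw [MulAut.mul_apply, MulAut.mul_apply, ha.2.2 _ (hinv γ⁻¹ x hx), MulAut.apply_inv_self]
  have hle := le_inn_of_radical (radical_of_essential hS hE) inf_le_left hAp hAn
  refine hES.not_ge fun c hc => mem_of_conjAut_mem_inn hE.1 (essential_normal hS hD hE.1 hc) (hle ?_)
  refine ⟨autInducedBy_le_autGroup hE.1.1 (range_conjAut S E ▸ ⟨_, rfl⟩), fun x => ?_,
    fun x hx => Subtype.ext ?_⟩
  · exact commutator_mem hc (hE.1.1 x.2)
  · show c * (x : Ω) * c⁻¹ = x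
    rw [(mem_centre_iff.1 (derived_central hS hD hx)).2 c hc, mul_inv_cancel_right]

omit [Finite S] [Fact p.Prime] in
/-- The commutative group structure on an abelian subgroup. -/
abbrev commOf (hab : ∀ x ∈ E, ∀ y ∈ E, x * y = y * x) : CommGroup E :=
  { (inferInstance : Group E) with mul_comm := fun a b => Subtype.ext (hab a a.2 b b.2) }

/-- The induced automorphisms are transvections with centre `S'`. -/
theorem induced_trv (hS : IsPGroup p S) (hD : Nat.card (⁅S, S⁆ : Subgroup Ω) = p) (hES : E ≤ S)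
    (hab : ∀ x ∈ E, ∀ y ∈ E, x * y = y * x) {α : MulAut E} (hα : α ∈ autInducedBy S E) :
    letI := commOf hab
    IsTrv α ((⁅S, S⁆ : Subgroup Ω).subgroupOf E) := by
  obtain ⟨c, hc, he⟩ := mem_autInducedBy_iff.1 hα
  refine ⟨fun x => ?_, fun d hd => Subtype.ext ?_⟩
  · rw [Subgroup.mem_subgroupOf]
    show (x : Ω)⁻¹ * (α x : E) ∈ _
    rw [← autFun_coe, he x x.2]
    exact commutator_mem hc (hES x.2)
  · rw [← autFun_coe, he d d.2, (mem_centre_iff.1 (derived_central hS hD (Subgroup.mem_subgroupOf.1 hd))).2 c hc,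
      mul_inv_cancel_right]

omit [Finite S] [Fact p.Prime] in
theorem centralizerIn_eq_self (hE : F.IsCentric E) (hab : ∀ x ∈ E, ∀ y ∈ E, x * y = y * x) :
    centralizerIn S E = E :=
  le_antisymm (hE.2 E (isConj_refl hE.1)) fun x hx => mem_centralizerIn_iff.2
    ⟨hE.1 hx, fun y hy => by rw [hab x hx y hy, mul_inv_cancel_right]⟩

omit [Fact p.Prime] in
theorem card_derived_subgroupOf (hD : Nat.card (⁅S, S⁆ : Subgroup Ω) = p) (hDE : ⁅S, S⁆ ≤ E) :
    Nat.card ((⁅S, S⁆ : Subgroup Ω).subgroupOf E) = p :=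
  (Nat.card_congr (Subgroup.subgroupOfEquivOfLe hDE).toEquiv).trans hD

/-- Essential subgroups have index `p`, and two of the Sylow subgroups of their automorphism
groups meet trivially. -/
theorem essential_index (hS : IsPGroup p S) (hF : F.IsSaturated p)
    (hD : Nat.card (⁅S, S⁆ : Subgroup Ω) = p) (hE : F.IsEssential p E) :
    Nat.card E * p = Nat.card S ∧ Nat.card (autInducedBy S E) = p ∧
      ∃ g ∈ F.autGroup E, ∀ α ∈ autInducedBy S E, g * α * g⁻¹ ∈ autInducedBy S E → α = 1 := by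
  have hES := lt_top_of_essential hS hF hE
  have hab := essential_abelian hS hF hD hE
  have hne := extAut_ne_of_essential hS hF hE
  have hrec := receptive_of_fullyNormalized hS hF hE.2.1
  have := finite_mulAut_of_le hE.1.1
  have := finite_of_le hE.1.1
  have hNE : normalizerIn S E = S := le_antisymm normalizerIn_le (essential_normal hS hD hE.1)
  have hDE : ⁅S, S⁆ ≤ E := (derived_central hS hD).trans (centre_le_centric hE.1)
  obtain ⟨-, -, T, hT⟩ := fullyNormalized_axiom hS hF hE.2.1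
  have hcard : Nat.card (autInducedBy S E) * Nat.card E = Nat.card S := by
    have h := card_autInducedBy_mul S E
    rwa [centralizerIn_eq_self hE.1 hab, hNE] at h
  have hTmem : ∀ {α : F.autGroup E}, α ∈ (T : Subgroup (F.autGroup E)) ↔
      (α : MulAut E) ∈ autInducedBy S E := by
    intro α
    rw [hT, Subgroup.mem_subgroupOf]
  have hout : ∀ Q : Subgroup (F.autGroup E), Q ≤ T → Q ≠ ⊥ →
      Subgroup.normalizer (Q : Set (F.autGroup E)) ≤ (extAut F E).subgroupOf (F.autGroup E) := by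
    intro Q hQT hQ x hx
    obtain ⟨q, hq, hq1⟩ := (Subgroup.bot_or_exists_ne_one Q).resolve_left hQ
    obtain ⟨⟨c, hc⟩, hce⟩ := (range_conjAut S E).ge (hTmem.1 (hQT hq))
    refine mem_extAut_of_extN hrec x.2 (SetLike.lt_iff_le_and_exists.2
      ⟨((mem_autGroup_iff hE.1.1).1 x.2).le_extN, c, mem_extN_of_conj_mem hc ?_, fun hcE => ?_⟩)
    · rw [hce]
      exact hTmem.1 (hQT ((Subgroup.mem_normalizer_iff.1 hx _).1 hq))
    · refine hq1 (Subtype.ext (hce.symm.trans (aut_ext fun y hy => ?_)))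
      rw [autFun_conjAut _ hy, hab c hcE y hy, mul_inv_cancel_right, autFun_apply _ hy]
      rfl
  obtain ⟨g, hg, hgY⟩ : ∃ g ∈ F.autGroup E, g ∉ extAut F E := by
    by_contra h
    push Not at h
    exact hne (le_antisymm (extAut_le hE.1.1) h)
  set g' : F.autGroup E := ⟨g, hg⟩
  have hTI : ∀ α ∈ autInducedBy S E, g * α * g⁻¹ ∈ autInducedBy S E → α = 1 := by
    intro α hα hα'
    by_contra h1
    set α' : F.autGroup E := ⟨α, autInducedBy_le_autGroup hE.1.1 hα⟩
    refine hgY (mem_of_inf_conj_ne_bot T hout (x := g') fun e => ?_)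
    have h2 : g' * α' * g'⁻¹ ∈
        (T : Subgroup (F.autGroup E)) ⊓ MulAut.conj g' • (T : Subgroup (F.autGroup E)) :=
      ⟨hTmem.2 hα', ⟨α', hTmem.2 hα, rfl⟩⟩
    rw [e, Subgroup.mem_bot, conj_eq_one_iff] at h2
    exact h1 (congrArg Subtype.val h2)
  have hTp : Nat.card (autInducedBy S E) = p := by
    refine le_antisymm ?_ ?_
    rotate_left
    · obtain ⟨k, hk⟩ := IsPGroup.iff_card.1
        ((isPGroup_of_le hS (normalizerIn_le (S := S) (P := E))).of_surjective
          (conjAut S E).rangeRestrict (conjAut S E).rangeRestrict_surjective)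
      rw [range_conjAut] at hk
      have hlt := card_lt_of_lt le_rfl hES
      rw [← hcard, hk] at hlt
      rcases Nat.eq_zero_or_pos k with rfl | hk0
      · simp at hlt
      · rw [hk]
        exact Nat.le_self_pow hk0.ne' p
    by_contra hgt
    push Not at hgt
    let _ := commOf hab
    set D0 := (⁅S, S⁆ : Subgroup Ω).subgroupOf E with hD0
    have hD0c : Nat.card D0 = p := card_derived_subgroupOf hD hDE
    set D1 := D0.map g.toMonoidHom with hD1
    have hD1c : Nat.card D1 = p := by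
      rw [hD1, Subgroup.card_map_of_injective g.injective, hD0c]
    set T1 := (autInducedBy S E).map (MulAut.conj g).toMonoidHom with hT1
    have hT1t : ∀ t ∈ T1, IsTrv t D1 := by
      rintro _ ⟨t, ht, rfl⟩
      exact (induced_trv hS hD hE.1.1 hab ht).conj g
    obtain ⟨z, hz, hz1⟩ : ∃ z ∈ D1, z ≠ 1 := by
      refine (Subgroup.bot_or_exists_ne_one D1).resolve_left fun h => ?_
      rw [h, Subgroup.card_bot] at hD1c
      exact (Fact.out : p.Prime).one_lt.ne hD1c
    obtain ⟨z', hz', hz'1⟩ : ∃ z ∈ D0, z ≠ 1 := by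
      refine (Subgroup.bot_or_exists_ne_one D0).resolve_left fun h => ?_
      rw [h, Subgroup.card_bot] at hD0c
      exact (Fact.out : p.Prime).one_lt.ne hD0c
    obtain ⟨a, ha, ha1, haz⟩ :=
      exists_fix hD0c _ (fun t ht => induced_trv hS hD hE.1.1 hab ht) hgt z
    obtain ⟨b, hb, hb1, hbz⟩ := exists_fix hD1c T1 hT1t
      (hgt.trans_eq (Subgroup.card_map_of_injective (MulAut.conj g).injective).symm) z'
    have hcom : a * b = b * a := by
      refine commute_of_fix (induced_trv hS hD hE.1.1 hab ha) (hT1t b hb) (fun d hd => ?_) fun d hd => ?_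
      · obtain ⟨i, rfl⟩ := Subgroup.mem_zpowers_iff.1 (mem_zpowers_of_card hD1c hz hz1 hd)
        rw [map_zpow, haz]
      · obtain ⟨i, rfl⟩ := Subgroup.mem_zpowers_iff.1 (mem_zpowers_of_card hD0c hz' hz'1 hd)
        rw [map_zpow, hbz]
    obtain ⟨t, ht, hbt⟩ := hb
    set a' : F.autGroup E := ⟨a, autInducedBy_le_autGroup hE.1.1 ha⟩
    set t' : F.autGroup E := ⟨t, autInducedBy_le_autGroup hE.1.1 ht⟩
    set b' : F.autGroup E := g' * t' * g'⁻¹
    have hb' : (b' : MulAut E) = b := hbt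
    have hap : IsPGroup p (Subgroup.zpowers a') :=
      T.2.to_le (Subgroup.zpowers_le.2 (hTmem.2 ha))
    have hbp : IsPGroup p (Subgroup.zpowers b') := by
      have h2 := ((T.2.to_le (Subgroup.zpowers_le.2 (hTmem.2 ht : t' ∈ _))).map
        (MulAut.conj g').toMonoidHom)
      rwa [MonoidHom.map_zpowers] at h2
    have hcom' : Commute a' b' := Subtype.ext (by
      show a * (b' : MulAut E) = (b' : MulAut E) * a
      rw [hb', hcom])
    have hnorm : Subgroup.zpowers b' ≤
        Subgroup.normalizer (Subgroup.zpowers a' : Set (F.autGroup E)) := by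
      refine le_trans (Subgroup.zpowers_le.2 ?_) (Subgroup.centralizer_le_normalizer _)
      rw [Subgroup.mem_centralizer_iff]
      rintro _ ⟨i, rfl⟩
      exact (hcom'.zpow_left i).eq
    obtain ⟨U, hU⟩ := (hap.to_sup_of_normal_left' hbp hnorm).exists_le_sylow
    obtain ⟨h, hh⟩ := MulAction.exists_smul_eq (F.autGroup E) T U
    have hUe : (U : Subgroup (F.autGroup E)) = MulAut.conj h • (T : Subgroup (F.autGroup E)) := by
      rw [← hh]; rfl
    have haU : a' ∈ MulAut.conj h • (T : Subgroup (F.autGroup E)) :=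
      hUe ▸ hU (Subgroup.mem_sup_left (Subgroup.mem_zpowers a'))
    have hbU : b' ∈ MulAut.conj h • (T : Subgroup (F.autGroup E)) :=
      hUe ▸ hU (Subgroup.mem_sup_right (Subgroup.mem_zpowers b'))
    have hhY : h ∈ (extAut F E).subgroupOf (F.autGroup E) :=
      mem_of_inf_conj_ne_bot T hout fun e => by
        have h1 : a' ∈ (⊥ : Subgroup (F.autGroup E)) := e ▸ ⟨hTmem.2 ha, haU⟩
        exact ha1 (congrArg Subtype.val (Subgroup.mem_bot.1 h1))
    have hgY' : h⁻¹ * g' ∈ (extAut F E).subgroupOf (F.autGroup E) := by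
      refine mem_of_inf_conj_ne_bot T hout fun e => hb1 ?_
      obtain ⟨u, hu, hub⟩ := hbU
      replace hub : h * u * h⁻¹ = b' := hub
      have hu' : u = h⁻¹ * g' * t' * (h⁻¹ * g')⁻¹ :=
        calc u = h⁻¹ * (h * u * h⁻¹) * h := by group
          _ = h⁻¹ * (g' * t' * g'⁻¹) * h := by rw [hub]
          _ = _ := by group
      have h1 : u = 1 := Subgroup.mem_bot.1 (e ▸ ⟨hu, ⟨t', hTmem.2 ht, hu'.symm⟩⟩)
      rw [h1, mul_one, mul_inv_cancel] at hub
      exact hb'.symm.trans (congrArg Subtype.val hub.symm)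
    have h3 := mul_mem hhY hgY'
    rw [mul_inv_cancel_left] at h3
    exact hgY h3
  refine ⟨?_, hTp, g, hg, hTI⟩
  rw [← hcard, hTp, mul_comm]

theorem induced_pow (hS : IsPGroup p S) (hF : F.IsSaturated p)
    (hD : Nat.card (⁅S, S⁆ : Subgroup Ω) = p) (hE : F.IsEssential p E) {α : MulAut E}
    (hα : α ∈ autInducedBy S E) : α ^ p = 1 := by
  have h := pow_card_eq_one' (x := (⟨α, hα⟩ : autInducedBy S E))
  rw [(essential_index hS hF hD hE).2.1] at h
  exact congrArg Subtype.val h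

theorem induced_zpowers (hS : IsPGroup p S) (hF : F.IsSaturated p)
    (hD : Nat.card (⁅S, S⁆ : Subgroup Ω) = p) (hE : F.IsEssential p E) {a α : MulAut E}
    (ha : a ∈ autInducedBy S E) (ha1 : a ≠ 1) (hα : α ∈ autInducedBy S E) :
    α ∈ Subgroup.zpowers a := by
  have hc := (essential_index hS hF hD hE).2.1
  rcases Subgroup.eq_bot_or_eq_top_of_prime_card (Subgroup.zpowers (⟨a, ha⟩ : autInducedBy S E))
    (hp := by rw [hc]; infer_instance) with h | h
  · exact absurd (congrArg Subtype.val (Subgroup.zpowers_eq_bot.1 h)) ha1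
  · obtain ⟨i, hi⟩ := Subgroup.mem_zpowers_iff.1 (h ▸ Subgroup.mem_top (⟨α, hα⟩ : autInducedBy S E))
    exact ⟨i, congrArg Subtype.val hi⟩

theorem sylow_bound (hS : IsPGroup p S) (hF : F.IsSaturated p)
    (hD : Nat.card (⁅S, S⁆ : Subgroup Ω) = p) (hE : F.IsEssential p E)
    (Q : Subgroup (MulAut E)) (hQ : Q ≤ F.autGroup E) (hQp : IsPGroup p Q) : Nat.card Q ≤ p := by
  have := finite_mulAut_of_le hE.1.1
  obtain ⟨-, -, T, hT⟩ := fullyNormalized_axiom hS hF hE.2.1
  obtain ⟨U, hU⟩ := (hQp.of_equiv (Subgroup.subgroupOfEquivOfLe hQ).symm :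
    IsPGroup p (Q.subgroupOf (F.autGroup E))).exists_le_sylow
  have h1 : Nat.card (T : Subgroup (F.autGroup E)) = p := by
    rw [hT, Nat.card_congr (Subgroup.subgroupOfEquivOfLe (autInducedBy_le_autGroup hE.1.1)).toEquiv,
      (essential_index hS hF hD hE).2.1]
  rw [← Nat.card_congr (Subgroup.subgroupOfEquivOfLe hQ).toEquiv, ← h1]
  refine (Nat.card_le_card_of_injective _ (Subgroup.inclusion_injective hU)).trans_eq ?_
  exact (Sylow.card_eq_multiplicity U).trans (Sylow.card_eq_multiplicity T).symm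

theorem pElement_conj (hS : IsPGroup p S) (hF : F.IsSaturated p) (hE : F.IsEssential p E)
    {α : MulAut E} (hα : α ∈ F.autGroup E) (hp : α ^ p = 1) :
    ∃ g ∈ F.autGroup E, g * α * g⁻¹ ∈ autInducedBy S E := by
  have := finite_mulAut_of_le hE.1.1
  obtain ⟨-, -, T, hT⟩ := fullyNormalized_axiom hS hF hE.2.1
  have hpg : IsPGroup p (Subgroup.zpowers (⟨α, hα⟩ : F.autGroup E)) := by
    rintro ⟨_, i, rfl⟩
    refine ⟨1, Subtype.ext (Subtype.ext ?_)⟩
    show (α ^ i) ^ p ^ 1 = 1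
    rw [pow_one, ← zpow_natCast, ← zpow_mul, mul_comm, zpow_mul, zpow_natCast, hp, one_zpow]
  obtain ⟨U, hU⟩ := hpg.exists_le_sylow
  obtain ⟨g, hg⟩ := MulAction.exists_smul_eq (F.autGroup E) U T
  have h1 : g * ⟨α, hα⟩ * g⁻¹ ∈ (T : Subgroup (F.autGroup E)) :=
    hg ▸ ⟨_, hU (Subgroup.mem_zpowers _), rfl⟩
  rw [hT, Subgroup.mem_subgroupOf] at h1
  exact ⟨g, g.2, h1⟩

/-- Every automorphism of order `p` of an essential subgroup is a transvection. -/
theorem exists_centre (hS : IsPGroup p S) (hF : F.IsSaturated p)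
    (hD : Nat.card (⁅S, S⁆ : Subgroup Ω) = p) (hE : F.IsEssential p E) {α : MulAut E}
    (hα : α ∈ F.autGroup E) (hp : α ^ p = 1) :
    letI := commOf (essential_abelian hS hF hD hE)
    ∃ K : Subgroup E, Nat.card K = p ∧ IsTrv α K := by
  obtain ⟨g, hg, ht⟩ := pElement_conj hS hF hE hα hp
  let _ := commOf (essential_abelian hS hF hD hE)
  have h := (induced_trv hS hD hE.1.1 (essential_abelian hS hF hD hE) ht).conj g⁻¹
  rw [show g⁻¹ * (g * α * g⁻¹) * g⁻¹⁻¹ = α by group] at h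
  refine ⟨_, ?_, h⟩
  rw [Subgroup.card_map_of_injective g⁻¹.injective]
  exact card_derived_subgroupOf hD ((derived_central hS hD).trans (centre_le_centric hE.1))

/-- There is a nontrivial induced automorphism and a conjugate outside the group it generates. -/
theorem exists_pair (hS : IsPGroup p S) (hF : F.IsSaturated p)
    (hD : Nat.card (⁅S, S⁆ : Subgroup Ω) = p) (hE : F.IsEssential p E) :
    ∃ a ∈ autInducedBy S E, a ≠ 1 ∧
      ∃ b ∈ F.autGroup E, b ^ p = 1 ∧ b ∉ Subgroup.zpowers a := by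
  obtain ⟨-, hc, g, hg, hTI⟩ := essential_index hS hF hD hE
  obtain ⟨a, ha, ha1⟩ := (Subgroup.bot_or_exists_ne_one (autInducedBy S E)).resolve_left fun h => by
    rw [h, Subgroup.card_bot] at hc
    exact (Fact.out : p.Prime).one_lt.ne hc
  refine ⟨a, ha, ha1, g * a * g⁻¹,
    mul_mem (mul_mem hg (autInducedBy_le_autGroup hE.1.1 ha)) ((F.autGroup E).inv_mem hg), ?_,
    fun h => ha1 (hTI a ha ((Subgroup.zpowers_le.2 ha) h))⟩
  rw [conj_pow, induced_pow hS hF hD hE ha, mul_one, mul_inv_cancel]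

/-- The fixed points of a nontrivial induced automorphism are the central elements. -/
theorem fix_iff_centre (hS : IsPGroup p S) (hF : F.IsSaturated p)
    (hD : Nat.card (⁅S, S⁆ : Subgroup Ω) = p) (hE : F.IsEssential p E) {a : MulAut E}
    (ha : a ∈ autInducedBy S E) (ha1 : a ≠ 1) (x : E) :
    a x = x ↔ (x : Ω) ∈ centralizerIn S S := by
  obtain ⟨c, hc, he⟩ := mem_autInducedBy_iff.1 ha
  have hab := essential_abelian hS hF hD hE
  have hx : ((a x : E) : Ω) = c * x * c⁻¹ := by rw [← autFun_coe, he x x.2]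
  constructor
  · intro h
    rw [h, eq_mul_inv_iff_mul_eq] at hx
    set K := S ⊓ Subgroup.centralizer ({(x : Ω)} : Set Ω) with hK
    have hKS : K ≤ S := inf_le_left
    have hEK : E ≤ K := fun y hy => ⟨hE.1.1 hy, Subgroup.mem_centralizer_singleton_iff.2 (hab y hy x x.2)⟩
    have hcK : c ∈ K := ⟨hc, Subgroup.mem_centralizer_singleton_iff.2 hx.symm⟩
    have hcE : c ∉ E := fun hcE => ha1 (aut_ext fun y hy => by
      rw [he y hy, hab c hcE y hy, mul_inv_cancel_right, autFun_apply _ hy]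
      rfl)
    have := finite_of_le hKS
    have := finite_of_le hE.1.1
    obtain ⟨j, hj⟩ := IsPGroup.iff_card.1 (isPGroup_of_le hS hKS)
    obtain ⟨i, hi⟩ := IsPGroup.iff_card.1 (isPGroup_of_le hS hE.1.1)
    have h1 := (essential_index hS hF hD hE).1
    rw [hi, ← pow_succ] at h1
    have h2 : p ^ i < p ^ j := hi ▸ hj ▸ card_lt_of_lt hKS
      (lt_of_le_of_ne hEK fun e => hcE (e ▸ hcK))
    have h3 : Nat.card S ≤ Nat.card K := by
      rw [← h1, hj]
      exact Nat.pow_le_pow_right (Fact.out : p.Prime).pos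
        ((Nat.pow_lt_pow_iff_right (Fact.out : p.Prime).one_lt).1 h2)
    have hKeq : K = S := eq_of_le_of_card_le hKS h3
    exact mem_centre_iff.2 ⟨hE.1.1 x.2, fun d hd =>
      Subgroup.mem_centralizer_singleton_iff.1 (hKeq.ge hd).2⟩
  · intro h
    refine Subtype.ext (hx.trans ?_)
    rw [(mem_centre_iff.1 h).2 c hc, mul_inv_cancel_right]

/-- An automorphism of order `p` outside `⟨a⟩` gives an automorphism of `S` inverting `S'` and
fixing what it fixes in `Z(S)`, which together with `S'` is all of `Z(S)`. -/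
theorem exists_inverting (hS : IsPGroup p S) (hF : F.IsSaturated p)
    (hD : Nat.card (⁅S, S⁆ : Subgroup Ω) = p) (hE : F.IsEssential p E) {a b : MulAut E}
    (ha : a ∈ autInducedBy S E) (ha1 : a ≠ 1) (hb : b ∈ F.autGroup E) (hbp : b ^ p = 1)
    (hba : b ∉ Subgroup.zpowers a) :
    ∃ γ ∈ F.autGroup S, (∀ d ∈ ⁅S, S⁆, autFun γ d = d⁻¹) ∧
      (∀ z ∈ centralizerIn S S, autFun b z = z → autFun γ z = z) ∧
      ∀ z ∈ centralizerIn S S, ∃ d ∈ ⁅S, S⁆, autFun b (z * d) = z * d := by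
  have hab := essential_abelian hS hF hD hE
  let _ := commOf hab
  have := finite_of_le hE.1.1
  have hZE := centre_le_centric hE.1
  have hDZ := derived_central hS hD
  set D0 := (⁅S, S⁆ : Subgroup Ω).subgroupOf E with hD0
  have hD0c : Nat.card D0 = p := card_derived_subgroupOf hD (hDZ.trans hZE)
  obtain ⟨K, hKc, hbK⟩ := exists_centre hS hF hD hE hb hbp
  have haG := autInducedBy_le_autGroup (F := F) hE.1.1 ha
  have hap := induced_pow hS hF hD hE ha
  have haT : IsTrv a D0 := induced_trv hS hD hE.1.1 hab ha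
  have hb1 : b ≠ 1 := fun h => hba (h ▸ one_mem _)
  have hab' : a ∉ Subgroup.zpowers b := fun h => by
    refine hba (mem_zpowers_of_commute (sylow_bound hS hF hD hE) haG hb hap hbp ha1 ?_)
    obtain ⟨i, hi⟩ := Subgroup.mem_zpowers_iff.1 h
    rw [← hi, ← zpow_one b, ← zpow_mul, ← zpow_add, ← zpow_neg, ← zpow_add, one_mul,
      show 1 + i + -1 = i by ring]
    exact Subgroup.mem_zpowers _
  obtain ⟨d', hd', had'⟩ := exists_not_fix (sylow_bound hS hF hD hE) haG hb hap hbp ha1 hba haT hbK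
  obtain ⟨d₀, hd₀, hbd₀⟩ := exists_not_fix (sylow_bound hS hF hD hE) hb haG hbp hap hb1 hab' hbK haT
  obtain ⟨h, hh, hcom, hinv, hfix⟩ := exists_inverter hD0c hKc haT hbK hd₀ hd' had' hbd₀
  have hhG : h ∈ F.autGroup E :=
    (Subgroup.closure_le _).2 (by rintro x (rfl | rfl); exacts [haG, hb]) hh
  have hext : S ≤ extN S E (autFun h) := fun c hc => by
    have hcN : c ∈ normalizerIn S E := essential_normal hS hD hE.1 hc
    have hm : conjAut S E ⟨c, hcN⟩ ∈ autInducedBy S E := range_conjAut S E ▸ ⟨_, rfl⟩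
    refine mem_extN_of_conj_mem hcN ?_
    obtain ⟨i, hi⟩ := Subgroup.mem_zpowers_iff.1 (induced_zpowers hS hF hD hE ha ha1 hm)
    rw [← hi, (Commute.zpow_right (hcom.symm : Commute h a) i).eq, mul_inv_cancel_right, hi]
    exact hm
  obtain ⟨k, hk, hke⟩ := (isReceptive_iff.1 (receptive_of_fullyNormalized hS hF hE.2.1)).2 E _
    ((mem_autGroup_iff hE.1.1).1 hhG) (img_autFun h)
  have hkS := hk.restrict hext
  obtain ⟨γ, hγ, hγe⟩ := hkS.exists_aut
    (hkS.img_eq_of_card_le le_rfl (fun x hx => hkS.mem hx) le_rfl)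
  refine ⟨γ, hγ, fun d hd => ?_, fun z hz hbz => ?_, fun z hz => ?_⟩
  · have hdE := hZE (hDZ hd)
    rw [hγe d (derived_le hd), hke d hdE, autFun_apply _ hdE,
      hinv ⟨d, hdE⟩ (Subgroup.mem_subgroupOf.2 hd)]
    rfl
  · have hzE := hZE hz
    rw [hγe z (mem_centre_iff.1 hz).1, hke z hzE, autFun_apply _ hzE]
    rw [autFun_apply _ hzE] at hbz
    rw [hfix ⟨z, hzE⟩ ((fix_iff_centre hS hF hD hE ha ha1 _).2 hz) (Subtype.ext hbz)]
  · have hzE := hZE hz
    obtain ⟨n, hn⟩ := disp_surjective hKc hbK hbd₀ (K.inv_mem (hbK.1 ⟨z, hzE⟩))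
    have hdE : ((d₀ ^ n : E) : Ω) ∈ ⁅S, S⁆ := D0.pow_mem hd₀ n
    refine ⟨_, hdE, ?_⟩
    have h1 : disp b (⟨z, hzE⟩ * d₀ ^ n) = 1 := by
      rw [map_mul]
      show (⟨z, hzE⟩ : E)⁻¹ * b ⟨z, hzE⟩ * ((d₀ ^ n)⁻¹ * b (d₀ ^ n)) = 1
      rw [hn, mul_inv_cancel]
    have h2 := (inv_mul_eq_one.1 h1).symm
    rw [autFun_apply _ (E.mul_mem hzE (d₀ ^ n).2)]
    exact congrArg Subtype.val h2

/-- A central subgroup fixed by the automorphisms of order `p` of all essential subgroups and
invariant under `Aut_F(S)` is normal. -/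
theorem isNormal_of_fixed (hS : IsPGroup p S) (hF : F.IsSaturated p)
    (hD : Nat.card (⁅S, S⁆ : Subgroup Ω) = p) {V : Subgroup Ω} (hVZ : V ≤ centralizerIn S S)
    (hVS : ∀ α ∈ F.autGroup S, ∀ v ∈ V, autFun α v ∈ V)
    (hfix : ∀ E, F.IsEssential p E → ∀ α ∈ F.autGroup E, α ^ p = 1 → ∀ v ∈ V, autFun α v = v) :
    F.IsNormal V := by
  have hVS' : V ≤ S := hVZ.trans centralizerIn_le
  have hSN : S ≤ normalizerIn S V := fun c hc => mem_normalizerIn_of_conj hVS' hc fun x hx => by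
    rwa [(mem_centre_iff.1 (hVZ hx)).2 c hc, mul_inv_cancel_right]
  refine isNormal_of_extends hVS' hSN (mor_le_of_essential hS hF fun P hP α hα => ?_)
  suffices hkey : V ≤ P ∧ ∀ v ∈ V, autFun α v ∈ V by
    have hPS : P ≤ S := hP.elim (fun e => e.le) (fun h => h.1.1)
    have hm := (mem_autGroup_iff hPS).1 hα
    exact mor_normalizerExt_iff.2 ⟨hPS, fun x hx => hm.mem hx, autFun α,
      hm.source_congr (sup_eq_left.2 hkey.1).symm, fun _ _ => rfl,
      (hm.restrict hkey.1).img_eq_of_card_le hVS' hkey.2 le_rfl⟩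
  rcases hP with rfl | hE
  · exact ⟨hVS', hVS α hα⟩
  refine ⟨hVZ.trans (centre_le_centric hE.1), ?_⟩
  have := finite_mulAut_of_le hE.1.1
  obtain ⟨-, -, T, hT⟩ := fullyNormalized_axiom hS hF hE.2.1
  set L := Subgroup.closure {x : F.autGroup P | (x : MulAut P) ^ p = 1} with hL
  have hLn : L.Normal := ⟨fun n hn g => by
    refine Subgroup.closure_induction (fun x hx => ?_) ?_ (fun x y _ _ hx hy => ?_)
      (fun x _ hx => ?_) hn
    · refine Subgroup.subset_closure ?_
      show ((g : MulAut P) * (x : MulAut P) * (g : MulAut P)⁻¹) ^ p = 1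
      rw [conj_pow, show (x : MulAut P) ^ p = 1 from hx, mul_one, mul_inv_cancel]
    · simp
    · rw [show g * (x * y) * g⁻¹ = g * x * g⁻¹ * (g * y * g⁻¹) by group]
      exact mul_mem hx hy
    · rw [show g * x⁻¹ * g⁻¹ = (g * x * g⁻¹)⁻¹ by group]
      exact inv_mem hx⟩
  have hTL : (T : Subgroup (F.autGroup P)) ≤ L := fun t ht => Subgroup.subset_closure
    (induced_pow hS hF hD hE (Subgroup.mem_subgroupOf.1 (hT ▸ ht)))
  have hLfix : ∀ x ∈ L, ∀ v ∈ V, autFun (x : MulAut P) v = v := by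
    intro x hx
    refine Subgroup.closure_induction (fun y hy => hfix P hE _ y.2 hy) (fun v hv => ?_)
      (fun y z _ _ hy hz v hv => ?_) (fun y _ hy v hv => ?_) hx
    · rw [autFun_apply _ (hVZ.trans (centre_le_centric hE.1) hv)]
      rfl
    · rw [Subgroup.coe_mul, autFun_mul _ _ (hVZ.trans (centre_le_centric hE.1) hv), hz v hv,
        hy v hv]
    · have hvP := hVZ.trans (centre_le_centric hE.1) hv
      conv_lhs => rw [← hy v hv]
      rw [← autFun_mul _ _ hvP, Subgroup.coe_inv, inv_mul_cancel, autFun_apply _ hvP]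
      rfl
  have htop : Subgroup.normalizer ((T : Subgroup (F.autGroup P)) : Set (F.autGroup P)) ⊔ L = ⊤ :=
    Sylow.normalizer_sup_eq_top' T hTL
  obtain ⟨n, hn, l, hl, hnl⟩ :=
    Subgroup.mem_sup_of_normal_right.1 (htop.ge (Subgroup.mem_top (⟨α, hα⟩ : F.autGroup P)))
  intro v hv
  have hvP := hVZ.trans (centre_le_centric hE.1) hv
  rw [show α = (n : MulAut P) * (l : MulAut P) from (congrArg Subtype.val hnl).symm,
    autFun_mul _ _ hvP, hLfix l hl v hv]
  have hext : S ≤ extN S P (autFun (n : MulAut P)) := fun c hc => by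
    have hcN : c ∈ normalizerIn S P := essential_normal hS hD hE.1 hc
    refine mem_extN_of_conj_mem hcN ?_
    have hm : conjAut S P ⟨c, hcN⟩ ∈ autInducedBy S P := range_conjAut S P ▸ ⟨_, rfl⟩
    have h1 := (Subgroup.mem_normalizer_iff.1 hn
      ⟨_, autInducedBy_le_autGroup hE.1.1 hm⟩).1 (hT ▸ Subgroup.mem_subgroupOf.2 hm)
    rw [hT] at h1
    exact h1
  obtain ⟨k, hk, hke⟩ := (isReceptive_iff.1 (receptive_of_fullyNormalized hS hF hE.2.1)).2 P _
    ((mem_autGroup_iff hE.1.1).1 n.2) (img_autFun _)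
  have hkS := hk.restrict hext
  obtain ⟨γ, hγ, hγe⟩ := hkS.exists_aut
    (hkS.img_eq_of_card_le le_rfl (fun x hx => hkS.mem hx) le_rfl)
  rw [← hke v hvP, ← hγe v (hVS' hv)]
  exact hVS γ hγ v hv

end Cfsg.Lib.Fusion
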