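import Mathlib
import Cfsg.Agent.Lib.Fusion.DerivedOrderP
import Cfsg.Agent.Lib.Transfer.Critical
import Cfsg.Agent.Lib.Transfer.OmegaCentralizer
import Cfsg.Agent.Lib.Transfer.PGroupFrattini

/-!
Core-free saturated systems on a `p`-group with derived subgroup of order `p`: the centre is
elementary, and for odd `p` the group has order `p ^ 3` and exponent `p`.
-/

set_option autoImplicit false
set_option maxHeartbeats 800000

open scoped Classical commutatorElement

namespace Cfsg.Lib.Fusion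

open Cfsg Cfsg.FusionSystem Transvection

variable {Ω : Type*} [Group Ω] {S : Subgroup Ω} {F : FusionSystem S} {E : Subgroup Ω} {p : ℕ}

theorem eq_bot_of_isNormal (hcore : F.core = ⊥) {V : Subgroup Ω} (h : F.IsNormal V) : V = ⊥ :=
  le_bot_iff.1 ((show V ≤ F.core from le_sSup h).trans hcore.le)

/-- Automorphisms of `S` preserve its derived subgroup. -/
theorem autFun_derived (α : MulAut S) {d : Ω} (hd : d ∈ ⁅S, S⁆) : autFun α d ∈ ⁅S, S⁆ := by
  have h : ⁅S, S⁆ ≤ (((⁅S, S⁆ : Subgroup Ω).subgroupOf S).comap α.toMonoidHom).map S.subtype :=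
    Subgroup.commutator_le.2 fun u hu v hv =>
      ⟨⁅(⟨u, hu⟩ : S), ⟨v, hv⟩⁆, by
        show ((α ⁅(⟨u, hu⟩ : S), ⟨v, hv⟩⁆ : S) : Ω) ∈ ⁅S, S⁆
        rw [map_commutatorElement]
        exact Subgroup.commutator_mem_commutator (α ⟨u, hu⟩).2 (α ⟨v, hv⟩).2, rfl⟩
  obtain ⟨z, hz, rfl⟩ := h hd
  show autFun α (z : Ω) ∈ _
  rw [autFun_coe]
  exact hz

/-- Automorphisms of `S` preserve its centre. -/
theorem autFun_centre (α : MulAut S) {z : Ω} (hz : z ∈ centralizerIn S S) :
    autFun α z ∈ centralizerIn S S := by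
  obtain ⟨hzS, hzc⟩ := mem_centre_iff.1 hz
  refine mem_centre_iff.2 ⟨autFun_mem α hzS, fun c hc => ?_⟩
  rw [autFun_apply _ hzS]
  have h1 : α⁻¹ ⟨c, hc⟩ * ⟨z, hzS⟩ = ⟨z, hzS⟩ * α⁻¹ ⟨c, hc⟩ := Subtype.ext (hzc _ (α⁻¹ ⟨c, hc⟩).2)
  have h2 := congrArg α h1
  rw [map_mul, map_mul, MulAut.apply_inv_self] at h2
  exact congrArg Subtype.val h2

theorem autFun_map_mul {P : Subgroup Ω} (α : MulAut P) {x y : Ω} (hx : x ∈ P) (hy : y ∈ P) :
    autFun α (x * y) = autFun α x * autFun α y := by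
  rw [autFun_apply α (P.mul_mem hx hy), autFun_apply α hx, autFun_apply α hy, ← Subgroup.coe_mul,
    ← map_mul]
  rfl

theorem autFun_map_inv {P : Subgroup Ω} (α : MulAut P) {x : Ω} (hx : x ∈ P) :
    autFun α x⁻¹ = (autFun α x)⁻¹ := by
  rw [autFun_apply α (P.inv_mem hx), autFun_apply α hx, ← Subgroup.coe_inv, ← map_inv]
  rfl

theorem autFun_map_pow {P : Subgroup Ω} (α : MulAut P) {x : Ω} (hx : x ∈ P) (n : ℕ) :
    autFun α (x ^ n) = autFun α x ^ n := by
  rw [autFun_apply α (P.pow_mem hx n), autFun_apply α hx, ← SubmonoidClass.coe_pow, ← map_pow]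
  rfl

variable [Finite S] [Fact p.Prime]

theorem pow_eq_one_of_derived (hD : Nat.card (⁅S, S⁆ : Subgroup Ω) = p) {d : Ω}
    (hd : d ∈ ⁅S, S⁆) : d ^ p = 1 := by
  have h := pow_card_eq_one' (x := (⟨d, hd⟩ : (⁅S, S⁆ : Subgroup Ω)))
  rw [hD] at h
  exact congrArg Subtype.val h

/-- A subgroup contained in every essential subgroup and invariant under the automorphisms of
these and of `S` is normal. -/
theorem isNormal_of_invariant (hS : IsPGroup p S) (hF : F.IsSaturated p) {V : Subgroup Ω}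
    (hV : V ≤ S) (hSN : S ≤ normalizerIn S V)
    (h : ∀ P, (P = S ∨ F.IsEssential p P) → V ≤ P ∧ ∀ α ∈ F.autGroup P, ∀ v ∈ V, autFun α v ∈ V) :
    F.IsNormal V := by
  refine isNormal_of_extends hV hSN (mor_le_of_essential hS hF fun P hP α hα => ?_)
  have hPS : P ≤ S := hP.elim (fun e => e.le) (fun h => h.1.1)
  have hm := (mem_autGroup_iff hPS).1 hα
  exact mor_normalizerExt_iff.2 ⟨hPS, fun x hx => hm.mem hx, autFun α,
    hm.source_congr (sup_eq_left.2 (h P hP).1).symm, fun _ _ => rfl,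
    (hm.restrict (h P hP).1).img_eq_of_card_le hV ((h P hP).2 α hα) le_rfl⟩

theorem exists_essential (hS : IsPGroup p S) (hF : F.IsSaturated p) (hcore : F.core = ⊥)
    (hS1 : S ≠ ⊥) : ∃ E, F.IsEssential p E := by
  by_contra hno
  push Not at hno
  refine hS1 (eq_bot_of_isNormal hcore (isNormal_of_invariant hS hF le_rfl
    normalizerIn_self.ge fun P hP => ?_))
  rcases hP with rfl | hP
  · exact ⟨le_rfl, fun α _ v hv => autFun_mem α hv⟩
  · exact absurd hP (hno P)

/-- An element of order `p` of `Aut_F(E)` fixes every `p`th power of an element of `E`. -/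
theorem fix_pow (hS : IsPGroup p S) (hF : F.IsSaturated p)
    (hD : Nat.card (⁅S, S⁆ : Subgroup Ω) = p) (hE : F.IsEssential p E) {α : MulAut E}
    (hα : α ∈ F.autGroup E) (hp : α ^ p = 1) (x : E) : α (x ^ p) = x ^ p := by
  let _ := commOf (essential_abelian hS hF hD hE)
  obtain ⟨K, hK, hαK⟩ := exists_centre hS hF hD hE hα hp
  obtain ⟨k, hk, hkx⟩ := hαK.exists_eq x
  have h := pow_card_eq_one' (x := (⟨k, hk⟩ : K))
  rw [hK] at h
  rw [map_pow, hkx, mul_pow, show k ^ p = 1 from congrArg Subtype.val h, mul_one]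

/-- The centre is elementary. -/
theorem centre_pow (hS : IsPGroup p S) (hF : F.IsSaturated p) (hcore : F.core = ⊥)
    (hD : Nat.card (⁅S, S⁆ : Subgroup Ω) = p) {z : Ω} (hz : z ∈ centralizerIn S S) :
    z ^ p = 1 := by
  set V := Subgroup.closure {x : Ω | ∃ y ∈ centralizerIn S S, y ^ p = x}
  have hVZ : V ≤ centralizerIn S S := (Subgroup.closure_le _).2 fun x ⟨y, hy, hyx⟩ =>
    hyx ▸ (centralizerIn S S).pow_mem hy p
  have hVS : ∀ α ∈ F.autGroup S, ∀ v ∈ V, autFun α v ∈ V := by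
    intro α _ v hv
    refine Subgroup.closure_induction (fun x hx => ?_) ?_ (fun x y hx' hy' hx hy => ?_)
      (fun x hx' hx => ?_) hv
    · obtain ⟨y, hy, rfl⟩ := hx
      exact Subgroup.subset_closure
        ⟨_, autFun_centre α hy, (autFun_map_pow α (mem_centre_iff.1 hy).1 p).symm⟩
    · rw [autFun_apply α S.one_mem, show (⟨1, S.one_mem⟩ : S) = 1 from rfl, map_one]
      exact V.one_mem
    · rw [autFun_map_mul α (mem_centre_iff.1 (hVZ hx')).1 (mem_centre_iff.1 (hVZ hy')).1]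
      exact V.mul_mem hx hy
    · rw [autFun_map_inv α (mem_centre_iff.1 (hVZ hx')).1]
      exact V.inv_mem hx
  have hfix : ∀ E, F.IsEssential p E → ∀ α ∈ F.autGroup E, α ^ p = 1 → ∀ v ∈ V, autFun α v = v := by
    intro E hE α hα hp v hv
    have hVE : ∀ {w : Ω}, w ∈ V → w ∈ E := fun hw => centre_le_centric hE.1 (hVZ hw)
    refine Subgroup.closure_induction (fun x hx => ?_) ?_ (fun x y hx' hy' hx hy => ?_)
      (fun x hx' hx => ?_) hv
    · obtain ⟨y, hy, rfl⟩ := hx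
      have h := fix_pow hS hF hD hE hα hp ⟨y, centre_le_centric hE.1 hy⟩
      rw [autFun_apply α (E.pow_mem (centre_le_centric hE.1 hy) p)]
      exact congrArg Subtype.val h
    · rw [autFun_apply α E.one_mem, show (⟨1, E.one_mem⟩ : E) = 1 from rfl, map_one]
      rfl
    · rw [autFun_map_mul α (hVE hx') (hVE hy'), hx, hy]
    · rw [autFun_map_inv α (hVE hx'), hx]
  have hV := eq_bot_of_isNormal hcore (isNormal_of_fixed hS hF hD hVZ hVS hfix)
  exact Subgroup.mem_bot.1 (hV ▸ Subgroup.subset_closure ⟨z, hz, rfl⟩)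

/-- An essential subgroup has `p` times as many elements as the centre. -/
theorem card_essential (hS : IsPGroup p S) (hF : F.IsSaturated p)
    (hD : Nat.card (⁅S, S⁆ : Subgroup Ω) = p) (hE : F.IsEssential p E) :
    Nat.card E = Nat.card (centralizerIn S S) * p := by
  let _ := commOf (essential_abelian hS hF hD hE)
  have := finite_of_le hE.1.1
  have hDE : ⁅S, S⁆ ≤ E := (derived_central hS hD).trans (centre_le_centric hE.1)
  obtain ⟨a, ha, ha1, -⟩ := exists_pair hS hF hD hE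
  have haT := induced_trv hS hD hE.1.1 (essential_abelian hS hF hD hE) ha
  have hker : (disp a).ker = (centralizerIn S S).subgroupOf E := by
    ext x
    rw [MonoidHom.mem_ker, Subgroup.mem_subgroupOf, ← fix_iff_centre hS hF hD hE ha ha1 x]
    exact inv_mul_eq_one.trans eq_comm
  have hran : (disp a).range = (⁅S, S⁆ : Subgroup Ω).subgroupOf E := by
    refine le_antisymm (fun _ ⟨x, hx⟩ => hx ▸ haT.1 x) fun d hd => ?_
    obtain ⟨x, hx⟩ : ∃ x, a x ≠ x := by
      by_contra h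
      push Not at h
      exact ha1 (MulEquiv.ext h)
    have hc := card_derived_subgroupOf (E := E) hD hDE
    obtain ⟨n, hn⟩ := disp_surjective (p := p) hc haT (e := x) hx (d := d) hd
    exact ⟨x ^ n, hn⟩
  rw [← Subgroup.card_mul_index (disp a).ker, Subgroup.index_ker, hker, hran,
    card_derived_subgroupOf hD hDE,
    Nat.card_congr (Subgroup.subgroupOfEquivOfLe (centre_le_centric hE.1)).toEquiv]

theorem mem_inn_of_pElement (hS : IsPGroup p S) (hF : F.IsSaturated p) {α : MulAut S}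
    (hα : α ∈ F.autGroup S) {k : ℕ} (hk : α ^ p ^ k = 1) : α ∈ Inn S := by
  have := finite_mulAut_of_le (le_refl S)
  have hp : IsPGroup p (Subgroup.zpowers α) := by
    rintro ⟨_, i, rfl⟩
    refine ⟨k, Subtype.ext ?_⟩
    show (α ^ i) ^ p ^ k = 1
    rw [← zpow_natCast, ← zpow_mul, mul_comm, zpow_mul, zpow_natCast, hk, one_zpow]
  obtain ⟨γ, -, hγ⟩ := exists_conj_le_autInducedBy
    (fullyNormalized_axiom hS hF fullyNormalized_top).2 (Subgroup.zpowers_le.2 hα) hp
  have h := hγ α (Subgroup.mem_zpowers α)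
  rw [← inn_eq_autInducedBy] at h
  have h2 := conj_mem_inn (α := γ⁻¹) h
  rwa [show γ⁻¹ * (γ * α * γ⁻¹) * γ⁻¹⁻¹ = α by group] at h2

/-- An automorphism fixing `S'` and trivial on `Z(S)/S'` fixes `Z(S)`. -/
theorem fix_centre (hS : IsPGroup p S) (hF : F.IsSaturated p)
    (hD : Nat.card (⁅S, S⁆ : Subgroup Ω) = p) {δ : MulAut S} (hδ : δ ∈ F.autGroup S)
    (h1 : ∀ d ∈ ⁅S, S⁆, autFun δ d = d)
    (h2 : ∀ z ∈ centralizerIn S S, z⁻¹ * autFun δ z ∈ ⁅S, S⁆) {z : Ω}
    (hz : z ∈ centralizerIn S S) : autFun δ z = z := by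
  have := finite_mulAut_of_le (le_refl S)
  have hzS := (mem_centre_iff.1 hz).1
  set u := z⁻¹ * autFun δ z with hu
  have huS : u ∈ S := derived_le (h2 z hz)
  have hpow : ∀ n : ℕ, autFun (δ ^ n) z = z * u ^ n := by
    intro n
    induction n with
    | zero => simp [autFun_apply _ hzS]
    | succ n ih =>
      rw [pow_succ', autFun_mul _ _ hzS, ih, autFun_map_mul δ hzS (S.pow_mem huS n),
        autFun_map_pow δ huS n, h1 u (h2 z hz), pow_succ', ← mul_assoc,
        show z * u = autFun δ z by rw [hu, mul_inv_cancel_left]]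
  obtain ⟨a, m, hm, hn⟩ := Nat.exists_eq_pow_mul_and_not_dvd (orderOf_pos δ).ne' p
    (Fact.out : p.Prime).ne_one
  have hinn : δ ^ m ∈ Inn S := mem_inn_of_pElement hS hF ((F.autGroup S).pow_mem hδ m) (k := a)
    (by rw [← pow_mul, mul_comm, ← hn]; exact pow_orderOf_eq_one δ)
  have hm1 : u ^ m = 1 := by
    rw [inn_eq_autInducedBy, mem_autInducedBy_iff] at hinn
    obtain ⟨c, hc, he⟩ := hinn
    have h3 := he z hzS
    rw [hpow, (mem_centre_iff.1 hz).2 c hc, mul_inv_cancel_right] at h3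
    exact mul_eq_left.1 h3
  have hu1 : u = 1 := by
    have hco : Nat.Coprime p m := ((Fact.out : p.Prime).coprime_iff_not_dvd).2 hm
    have h4 := pow_gcd_eq_one.2 ⟨pow_eq_one_of_derived hD (h2 z hz), hm1⟩
    rwa [hco, pow_one] at h4
  exact (inv_mul_eq_one.1 (hu ▸ hu1)).symm

/-- Inverting automorphisms agree on the centre. -/
theorem inverting_unique (hS : IsPGroup p S) (hF : F.IsSaturated p)
    (hD : Nat.card (⁅S, S⁆ : Subgroup Ω) = p) {γ γ' : MulAut S} (hγ : γ ∈ F.autGroup S)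
    (hγ' : γ' ∈ F.autGroup S) (h : ∀ d ∈ ⁅S, S⁆, autFun γ d = d⁻¹)
    (h' : ∀ d ∈ ⁅S, S⁆, autFun γ' d = d⁻¹)
    (k : ∀ z ∈ centralizerIn S S, z⁻¹ * autFun γ z ∈ ⁅S, S⁆)
    (k' : ∀ z ∈ centralizerIn S S, z⁻¹ * autFun γ' z ∈ ⁅S, S⁆) {z : Ω}
    (hz : z ∈ centralizerIn S S) : autFun γ (autFun γ' z) = z := by
  rw [← autFun_mul γ γ' (mem_centre_iff.1 hz).1]
  refine fix_centre hS hF hD ((F.autGroup S).mul_mem hγ hγ') (fun d hd => ?_) (fun w hw => ?_) hz
  · rw [autFun_mul _ _ (derived_le hd), h' d hd, autFun_map_inv _ (derived_le hd), h d hd, inv_inv]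
  · have hwS := (mem_centre_iff.1 hw).1
    rw [autFun_mul _ _ hwS, show autFun γ' w = w * (w⁻¹ * autFun γ' w) by group,
      autFun_map_mul γ hwS (derived_le (k' w hw)), h _ (k' w hw), ← mul_assoc]
    exact mul_mem (k w hw) (inv_mem (k' w hw))

/-- For odd `p` a core-free system with `|S'| = p` lives on a group of order `p ^ 3` and exponent
`p`, whose centre has order `p`. -/
theorem card_of_derived_prime (hS : IsPGroup p S) (hF : F.IsSaturated p) (hp2 : p ≠ 2)
    (hcore : F.core = ⊥) (hD : Nat.card (⁅S, S⁆ : Subgroup Ω) = p) :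
    Nat.card (centralizerIn S S) = p ∧ Nat.card S = p ^ 3 ∧ ∀ x ∈ S, x ^ p = 1 := by
  have hS1 : S ≠ ⊥ := fun h => by
    have hle : (⁅S, S⁆ : Subgroup Ω) ≤ ⊥ := derived_le.trans h.le
    rw [le_bot_iff.1 hle, Subgroup.card_bot] at hD
    exact (Fact.out : p.Prime).one_lt.ne hD
  obtain ⟨E, hE⟩ := exists_essential hS hF hcore hS1
  -- properties of the inverting automorphisms
  have hprop : ∀ E, F.IsEssential p E → ∀ b ∈ F.autGroup E, b ^ p = 1 →
      ∀ a ∈ autInducedBy S E, a ≠ 1 → b ∉ Subgroup.zpowers a →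
      ∃ γ ∈ F.autGroup S, (∀ d ∈ ⁅S, S⁆, autFun γ d = d⁻¹) ∧
        (∀ z ∈ centralizerIn S S, z⁻¹ * autFun γ z ∈ ⁅S, S⁆) ∧
        (∀ z ∈ centralizerIn S S, autFun b z = z → autFun γ z = z) ∧
        ∀ z ∈ centralizerIn S S, autFun γ z = z → autFun b z = z := by
    intro E hE b hb hbp a ha ha1 hba
    obtain ⟨γ, hγ, h1, h2, h3⟩ := exists_inverting hS hF hD hE ha ha1 hb hbp hba
    have h4 : ∀ z ∈ centralizerIn S S, ∃ d ∈ ⁅S, S⁆,
        autFun b (z * d) = z * d ∧ autFun γ z = z * d * d := by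
      intro z hz
      obtain ⟨d, hd, hdb⟩ := h3 z hz
      refine ⟨d, hd, hdb, ?_⟩
      have h5 := h2 _ (mul_mem hz (derived_central hS hD hd)) hdb
      rw [autFun_map_mul γ (mem_centre_iff.1 hz).1 (derived_le hd), h1 d hd,
        mul_inv_eq_iff_eq_mul] at h5
      exact h5
    refine ⟨γ, hγ, h1, fun z hz => ?_, h2, fun z hz hγz => ?_⟩
    · obtain ⟨d, hd, -, e⟩ := h4 z hz
      rw [e, ← mul_assoc, ← mul_assoc, inv_mul_cancel, one_mul]
      exact mul_mem hd hd
    · obtain ⟨d, hd, hdb, e⟩ := h4 z hz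
      rw [hγz, mul_assoc, left_eq_mul, ← pow_two] at e
      have hd1 : d = 1 := by
        have h5 := pow_gcd_eq_one.2 ⟨e, pow_eq_one_of_derived hD hd⟩
        rwa [((Nat.coprime_primes Nat.prime_two (Fact.out : p.Prime)).2 (Ne.symm hp2)).gcd_eq_one,
          pow_one] at h5
      rwa [hd1, mul_one] at hdb
  obtain ⟨a, ha, ha1, b, hb, hbp, hba⟩ := exists_pair hS hF hD hE
  obtain ⟨γ, hγ, hγD, hγZ, hγfix, hγb⟩ := hprop E hE b hb hbp a ha ha1 hba
  have heq : ∀ γ' ∈ F.autGroup S, (∀ d ∈ ⁅S, S⁆, autFun γ' d = d⁻¹) →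
      (∀ z ∈ centralizerIn S S, z⁻¹ * autFun γ' z ∈ ⁅S, S⁆) →
      ∀ z ∈ centralizerIn S S, autFun γ' z = autFun γ z := by
    intro γ' hγ' h1 h2 z hz
    have e1 := inverting_unique hS hF hD hγ hγ hγD hγD hγZ hγZ hz
    have e2 := inverting_unique hS hF hD hγ hγ' hγD h1 hγZ h2 hz
    exact ((mem_autGroup_iff le_rfl).1 hγ).eq_of_eq (autFun_mem γ' (mem_centre_iff.1 hz).1)
      (autFun_mem γ (mem_centre_iff.1 hz).1) (e2.trans e1.symm)
  let W : Subgroup Ω :=
    { carrier := {z | z ∈ centralizerIn S S ∧ autFun γ z = z}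
      one_mem' := ⟨one_mem _, by rw [autFun_apply γ S.one_mem]; exact congrArg Subtype.val (map_one γ)⟩
      mul_mem' := fun {x y} hx hy => ⟨mul_mem hx.1 hy.1, by
        rw [autFun_map_mul γ (mem_centre_iff.1 hx.1).1 (mem_centre_iff.1 hy.1).1, hx.2, hy.2]⟩
      inv_mem' := fun {x} hx => ⟨inv_mem hx.1, by
        rw [autFun_map_inv γ (mem_centre_iff.1 hx.1).1, hx.2]⟩ }
  have hWbot : W = ⊥ := by
    refine eq_bot_of_isNormal hcore (isNormal_of_fixed hS hF hD (fun z hz => hz.1) ?_ ?_)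
    · intro σ hσ v hv
      refine ⟨autFun_centre σ hv.1, ?_⟩
      have hc : σ * γ * σ⁻¹ ∈ F.autGroup S :=
        mul_mem (mul_mem hσ hγ) ((F.autGroup S).inv_mem hσ)
      have hcd : ∀ d ∈ ⁅S, S⁆, autFun (σ * γ * σ⁻¹) d = d⁻¹ := fun d hd => by
        have hd' := autFun_derived σ⁻¹ hd
        rw [autFun_mul _ _ (derived_le hd), autFun_mul _ _ (derived_le hd'), hγD _ hd',
          autFun_map_inv _ (derived_le hd'), ← autFun_mul _ _ (derived_le hd), mul_inv_cancel,
          autFun_apply _ (derived_le hd)]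
        rfl
      have hcz : ∀ z ∈ centralizerIn S S, z⁻¹ * autFun (σ * γ * σ⁻¹) z ∈ ⁅S, S⁆ := fun z hz => by
        have hzS := (mem_centre_iff.1 hz).1
        have hz' := autFun_centre σ⁻¹ hz
        have hzz : autFun σ (autFun σ⁻¹ z) = z := by
          rw [← autFun_mul _ _ hzS, mul_inv_cancel, autFun_apply _ hzS]
          rfl
        have h := autFun_derived σ (hγZ _ hz')
        rw [autFun_map_mul _ (S.inv_mem (mem_centre_iff.1 hz').1) (autFun_mem γ (mem_centre_iff.1 hz').1),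
          autFun_map_inv _ (mem_centre_iff.1 hz').1, hzz] at h
        rwa [autFun_mul _ _ hzS, autFun_mul _ _ (mem_centre_iff.1 hz').1]
      have hvS := (mem_centre_iff.1 hv.1).1
      have e := heq _ hc hcd hcz _ (autFun_centre σ hv.1)
      rw [autFun_mul _ _ (autFun_mem σ hvS), ← autFun_mul σ⁻¹ σ hvS, inv_mul_cancel,
        show autFun (1 : MulAut S) v = v by rw [autFun_apply _ hvS]; rfl, autFun_mul _ _ hvS,
        hv.2] at e
      exact e.symm
    · intro E' hE' α hα hp v hv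
      obtain ⟨a', ha', ha1', -⟩ := exists_pair hS hF hD hE'
      have hvE := centre_le_centric hE'.1 hv.1
      by_cases hαa : α ∈ Subgroup.zpowers a'
      · have hαT : α ∈ autInducedBy S E' := Subgroup.zpowers_le.2 ha' hαa
        obtain ⟨c, hc, he⟩ := mem_autInducedBy_iff.1 hαT
        rw [he v hvE, (mem_centre_iff.1 hv.1).2 c hc, mul_inv_cancel_right]
      · obtain ⟨γ', hγ', h1, h2, -, h4⟩ := hprop E' hE' α hα hp a' ha' ha1' hαa
        exact h4 v hv.1 ((heq γ' hγ' h1 h2 v hv.1).trans hv.2)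
  -- the centre is the derived subgroup
  have hZD : centralizerIn S S = ⁅S, S⁆ := by
    refine le_antisymm (fun z hz => ?_) (derived_central hS hD)
    obtain ⟨-, -, -, -, hdec⟩ := exists_inverting hS hF hD hE ha ha1 hb hbp hba
    obtain ⟨d, hd, hdb⟩ := hdec z hz
    have h1 : z * d ∈ W :=
      ⟨mul_mem hz (derived_central hS hD hd), hγfix _ (mul_mem hz (derived_central hS hD hd)) hdb⟩
    rw [hWbot, Subgroup.mem_bot] at h1
    exact (eq_inv_of_mul_eq_one_left h1).symm ▸ inv_mem hd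
  have hEcard : ∀ E, F.IsEssential p E → Nat.card E = p * p := fun E hE => by
    rw [card_essential hS hF hD hE, hZD, hD]
  have hScard : Nat.card S = p ^ 3 := by
    rw [← (essential_index hS hF hD hE).1, hEcard E hE]
    ring
  have hEpow : ∀ E, F.IsEssential p E → ∀ x ∈ E, x ^ p = 1 := by
    intro E' hE' x hx
    obtain ⟨a', ha', ha1', b', hb', hbp', hba'⟩ := exists_pair hS hF hD hE'
    obtain ⟨γ', hγ', h1, h2, h3, -⟩ := hprop E' hE' b' hb' hbp' a' ha' ha1' hba'
    have hxa := fix_pow hS hF hD hE' (autInducedBy_le_autGroup hE'.1.1 ha')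
      (induced_pow hS hF hD hE' ha') ⟨x, hx⟩
    have hxz : x ^ p ∈ centralizerIn S S := (fix_iff_centre hS hF hD hE' ha' ha1' _).1 hxa
    have hxb : autFun b' (x ^ p) = x ^ p := by
      rw [autFun_apply _ (E'.pow_mem hx p)]
      exact congrArg Subtype.val (fix_pow hS hF hD hE' hb' hbp' ⟨x, hx⟩)
    have h5 : x ^ p ∈ W := ⟨hxz, (heq γ' hγ' h1 h2 _ hxz).symm.trans (h3 _ hxz hxb)⟩
    rwa [hWbot, Subgroup.mem_bot] at h5
  refine ⟨by rw [hZD, hD], hScard, ?_⟩
  by_contra hexp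
  push Not at hexp
  obtain ⟨x₀, hx₀, hx₀p⟩ := hexp
  let K : Subgroup Ω :=
    { carrier := {x | x ∈ S ∧ x ^ p = 1}
      one_mem' := ⟨S.one_mem, one_pow _⟩
      mul_mem' := fun {x y} hx hy => ⟨S.mul_mem hx.1 hy.1, by
        have hcD : y⁻¹ * x⁻¹ * y * x ∈ ⁅S, S⁆ := by
          have h := Subgroup.commutator_mem_commutator (S.inv_mem hy.1) (S.inv_mem hx.1)
          rwa [commutatorElement_def, inv_inv, inv_inv] at h
        have hcz := (mem_centre_iff.1 (derived_central hS hD hcD)).2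
        obtain ⟨j, hj⟩ := Nat.Prime.dvd_choose_self (Fact.out : p.Prime) (k := 2) two_ne_zero
          (lt_of_le_of_ne (Fact.out : p.Prime).two_le (Ne.symm hp2))
        rw [Cfsg.Lib.Transfer.mul_pow_class_two (c := y⁻¹ * x⁻¹ * y * x) (by group)
          (hcz x hx.1).symm (hcz y hy.1).symm, hx.2, hy.2, hj, pow_mul,
          pow_eq_one_of_derived hD hcD, one_pow, one_mul, one_mul]⟩
      inv_mem' := fun {x} hx => ⟨S.inv_mem hx.1, by rw [inv_pow, hx.2, inv_one]⟩ }
  have hKS : K ≤ S := fun x hx => hx.1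
  have := finite_of_le hKS
  have hKeq : ∀ E, F.IsEssential p E → E = K := by
    intro E hE
    have hle : E ≤ K := fun x hx => ⟨hE.1.1 hx, hEpow E hE x hx⟩
    refine eq_of_le_of_card_le hle ?_
    obtain ⟨j, hj⟩ := IsPGroup.iff_card.1 (isPGroup_of_le hS hKS)
    have hlt : Nat.card K < p ^ 3 := hScard ▸ card_lt_of_lt le_rfl
      (lt_of_le_of_ne hKS fun e => hx₀p ((e.ge hx₀).2))
    rw [hEcard E hE, hj, ← pow_two]
    rw [hj] at hlt
    exact Nat.pow_le_pow_right (Fact.out : p.Prime).pos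
      (Nat.le_of_lt_succ ((Nat.pow_lt_pow_iff_right (Fact.out : p.Prime).one_lt).1 hlt))
  have hKn : F.IsNormal K := by
    refine isNormal_of_invariant hS hF hKS (fun c hc => mem_normalizerIn_of_conj hKS hc fun x hx =>
      ⟨S.mul_mem (S.mul_mem hc hx.1) (S.inv_mem hc), by
        rw [conj_pow, hx.2, mul_one, mul_inv_cancel]⟩) fun P hP => ?_
    rcases hP with rfl | hP
    · refine ⟨hKS, fun α _ v hv => ⟨autFun_mem α hv.1, ?_⟩⟩
      rw [← autFun_map_pow α hv.1 p, hv.2, autFun_apply α P.one_mem]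
      exact congrArg Subtype.val (map_one α)
    · exact ⟨(hKeq P hP).ge, fun α _ v hv => (hKeq P hP).le (autFun_mem α ((hKeq P hP).ge hv))⟩
  have hEb := hKeq E hE
  rw [eq_bot_of_isNormal hcore hKn] at hEb
  have := hEcard E hE
  rw [hEb, Subgroup.card_bot] at this
  exact (Fact.out : p.Prime).one_lt.ne' (Nat.dvd_one.1 ⟨p, this⟩)

end Cfsg.Lib.Fusion
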