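import Mathlib
import Cfsg.Agent.Lib.Fusion.DerivedOrderPMain
import Cfsg.Agent.Lib.Classical.OrthAut.Struct

/-!
Core-free saturated systems on a `2`-group with derived subgroup of order two and hyperfocal
subgroup the whole group: the group is dihedral of order eight.
-/

set_option autoImplicit false
set_option maxHeartbeats 800000

open scoped Classical commutatorElement Pointwise

namespace Cfsg.Lib.Fusion

open Cfsg Cfsg.FusionSystem Transvection

variable {Ω : Type*} [Group Ω] {S : Subgroup Ω} {F : FusionSystem S} {E : Subgroup Ω} {p : ℕ}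
  [Finite S] [Fact p.Prime]

/-- Essential subgroups are elementary when the centre is. -/
theorem essential_pow (hS : IsPGroup p S) (hF : F.IsSaturated p) (hcore : F.core = ⊥)
    (hD : Nat.card (⁅S, S⁆ : Subgroup Ω) = p) (hE : F.IsEssential p E) {x : Ω} (hx : x ∈ E) :
    x ^ p = 1 := by
  let _ := commOf (essential_abelian hS hF hD hE)
  have := finite_of_le hE.1.1
  obtain ⟨a, ha, ha1, b, hb, hbp, hba⟩ := exists_pair hS hF hD hE
  obtain ⟨K, hK, hbK⟩ := exists_centre hS hF hD hE hb hbp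
  have haT := induced_trv hS hD hE.1.1 (essential_abelian hS hF hD hE) ha
  obtain ⟨e, he, hae⟩ := exists_not_fix (sylow_bound hS hF hD hE)
    (autInducedBy_le_autGroup hE.1.1 ha) hb (induced_pow hS hF hD hE ha) hbp ha1 hba haT hbK
  have hc := card_derived_subgroupOf (E := E) hD
    ((derived_central hS hD).trans (centre_le_centric hE.1))
  obtain ⟨n, hn⟩ := disp_surjective (p := p) hc haT (e := e) hae
    (Subgroup.inv_mem _ (haT.1 ⟨x, hx⟩))
  have h1 : disp a (⟨x, hx⟩ * e ^ n) = 1 := by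
    rw [map_mul]
    show (⟨x, hx⟩ : E)⁻¹ * a ⟨x, hx⟩ * ((e ^ n)⁻¹ * a (e ^ n)) = 1
    rw [hn, mul_inv_cancel]
  have h2 := centre_pow hS hF hcore hD
    ((fix_iff_centre hS hF hD hE ha ha1 _).1 (inv_mul_eq_one.1 h1).symm)
  have h3 : (e ^ n) ^ p = 1 := by
    have h4 := pow_card_eq_one' (x := (⟨e ^ n, K.pow_mem he n⟩ : K))
    rw [hK] at h4
    exact congrArg Subtype.val h4
  have h5 : (⟨x, hx⟩ * e ^ n : E) ^ p = 1 := Subtype.ext h2
  rw [mul_pow, h3, mul_one] at h5
  exact congrArg Subtype.val h5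

/-- A subgroup of `Aut(E)` containing the automorphisms of order `p` and the ones extending to
`S` contains `Aut_F(E)`. -/
theorem autGroup_le_of (hS : IsPGroup p S) (hF : F.IsSaturated p)
    (hD : Nat.card (⁅S, S⁆ : Subgroup Ω) = p) (hE : F.IsEssential p E) {H : Subgroup (MulAut E)}
    (h1 : ∀ α ∈ F.autGroup E, α ^ p = 1 → α ∈ H)
    (h2 : ∀ α ∈ F.autGroup E, (∃ γ ∈ F.autGroup S, ∀ x ∈ E, autFun γ x = autFun α x) → α ∈ H) :
    F.autGroup E ≤ H := by
  intro α hα
  have := finite_mulAut_of_le hE.1.1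
  obtain ⟨-, -, T, hT⟩ := fullyNormalized_axiom hS hF hE.2.1
  set L := Subgroup.closure {x : F.autGroup E | (x : MulAut E) ^ p = 1} with hL
  have hLn : L.Normal := ⟨fun n hn g => by
    refine Subgroup.closure_induction (fun x hx => ?_) ?_ (fun x y _ _ hx hy => ?_)
      (fun x _ hx => ?_) hn
    · refine Subgroup.subset_closure ?_
      show ((g : MulAut E) * (x : MulAut E) * (g : MulAut E)⁻¹) ^ p = 1
      rw [conj_pow, show (x : MulAut E) ^ p = 1 from hx, mul_one, mul_inv_cancel]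
    · simp
    · rw [show g * (x * y) * g⁻¹ = g * x * g⁻¹ * (g * y * g⁻¹) by group]
      exact mul_mem hx hy
    · rw [show g * x⁻¹ * g⁻¹ = (g * x * g⁻¹)⁻¹ by group]
      exact inv_mem hx⟩
  have hLH : L ≤ H.subgroupOf (F.autGroup E) := (Subgroup.closure_le _).2 fun x hx => h1 _ x.2 hx
  have hTL : (T : Subgroup (F.autGroup E)) ≤ L := fun t ht => Subgroup.subset_closure
    (induced_pow hS hF hD hE (Subgroup.mem_subgroupOf.1 (hT ▸ ht)))
  have htop : Subgroup.normalizer ((T : Subgroup (F.autGroup E)) : Set (F.autGroup E)) ⊔ L = ⊤ :=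
    Sylow.normalizer_sup_eq_top' T hTL
  obtain ⟨n, hn, l, hl, hnl⟩ :=
    Subgroup.mem_sup_of_normal_right.1 (htop.ge (Subgroup.mem_top (⟨α, hα⟩ : F.autGroup E)))
  rw [show α = (n : MulAut E) * (l : MulAut E) from (congrArg Subtype.val hnl).symm]
  refine H.mul_mem (h2 _ n.2 ?_) (hLH hl)
  have hext : S ≤ extN S E (autFun (n : MulAut E)) := fun c hc => by
    have hcN : c ∈ normalizerIn S E := essential_normal hS hD hE.1 hc
    refine mem_extN_of_conj_mem hcN ?_
    have hm : conjAut S E ⟨c, hcN⟩ ∈ autInducedBy S E := range_conjAut S E ▸ ⟨_, rfl⟩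
    have h1 := (Subgroup.mem_normalizer_iff.1 hn
      ⟨_, autInducedBy_le_autGroup hE.1.1 hm⟩).1 (hT ▸ Subgroup.mem_subgroupOf.2 hm)
    rw [hT] at h1
    exact h1
  obtain ⟨k, hk, hke⟩ := (isReceptive_iff.1 (receptive_of_fullyNormalized hS hF hE.2.1)).2 E _
    ((mem_autGroup_iff hE.1.1).1 n.2) (img_autFun _)
  have hkS := hk.restrict hext
  obtain ⟨γ, hγ, hγe⟩ := hkS.exists_aut
    (hkS.img_eq_of_card_le le_rfl (fun x hx => hkS.mem hx) le_rfl)
  exact ⟨γ, hγ, fun x hx => by rw [hγe x (hE.1.1 hx), hke x hx]⟩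

/-- An elementary subgroup of index `p` in `S` above the centre. -/
def IsElem (S : Subgroup Ω) (p : ℕ) (E : Subgroup Ω) : Prop :=
  centralizerIn S S ≤ E ∧ E ≤ S ∧ Nat.card E = Nat.card (centralizerIn S S) * p ∧
    Nat.card E * p = Nat.card S ∧ ∀ x ∈ E, x ^ p = 1

theorem isElem_of_essential (hS : IsPGroup p S) (hF : F.IsSaturated p) (hcore : F.core = ⊥)
    (hD : Nat.card (⁅S, S⁆ : Subgroup Ω) = p) (hE : F.IsEssential p E) : IsElem S p E :=
  ⟨centre_le_centric hE.1, hE.1.1, card_essential hS hF hD hE, (essential_index hS hF hD hE).1,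
    fun _ hx => essential_pow hS hF hcore hD hE hx⟩

omit [Fact p.Prime] in
theorem IsElem.comm (hE : IsElem S 2 E) : ∀ x ∈ E, ∀ y ∈ E, x * y = y * x := by
  intro x hx y hy
  have h : ∀ u ∈ E, u⁻¹ = u := fun u hu => inv_eq_of_mul_eq_one_left (pow_two u ▸ hE.2.2.2.2 u hu)
  rw [← h (x * y) (E.mul_mem hx hy), mul_inv_rev, h x hx, h y hy]

theorem IsElem.mul_mem_centre (hE : IsElem S 2 E) {x y : Ω} (hx : x ∈ E) (hy : y ∈ E)
    (hxZ : x ∉ centralizerIn S S) (hyZ : y ∉ centralizerIn S S) :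
    x * y ∈ centralizerIn S S := by
  have := finite_of_le hE.2.1
  have hi : ((centralizerIn S S).subgroupOf E).index = 2 := by
    have h := ((centralizerIn S S).subgroupOf E).card_mul_index
    rw [Nat.card_congr (Subgroup.subgroupOfEquivOfLe hE.1).toEquiv, hE.2.2.1] at h
    have := finite_of_le (centralizerIn_le : centralizerIn S S ≤ S)
    exact Nat.eq_of_mul_eq_mul_left Nat.card_pos h
  exact Subgroup.mem_subgroupOf.1 ((Subgroup.mul_mem_iff_of_index_two hi (a := ⟨x, hx⟩) (b := ⟨y, hy⟩)).2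
    (iff_of_false (fun h => hxZ (Subgroup.mem_subgroupOf.1 h))
      fun h => hyZ (Subgroup.mem_subgroupOf.1 h)))

theorem IsElem.exists_noncentral (hE : IsElem S 2 E) : ∃ x ∈ E, x ∉ centralizerIn S S := by
  by_contra h
  push Not at h
  have := finite_of_le hE.2.1
  have := finite_of_le (centralizerIn_le : centralizerIn S S ≤ S)
  have h1 : Nat.card E ≤ Nat.card (centralizerIn S S) :=
    Nat.card_le_card_of_injective _ (Subgroup.inclusion_injective (h : E ≤ centralizerIn S S))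
  rw [hE.2.2.1] at h1
  have : 0 < Nat.card (centralizerIn S S) := Nat.card_pos
  omega

theorem IsElem.eq_of_mem {E' : Subgroup Ω} (hE : IsElem S 2 E) (hE' : IsElem S 2 E') {x : Ω}
    (hx : x ∈ E) (hx' : x ∈ E') (hxZ : x ∉ centralizerIn S S) : E = E' := by
  have key : ∀ {A B : Subgroup Ω}, IsElem S 2 A → IsElem S 2 B → x ∈ A → x ∈ B → A ≤ B := by
    intro A B hA hB hxA hxB u hu
    by_cases huZ : u ∈ centralizerIn S S
    · exact hB.1 huZ
    · have h := B.mul_mem (hB.1 (hA.mul_mem_centre hu hxA huZ hxZ)) (B.inv_mem hxB)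
      rwa [mul_inv_cancel_right] at h
  exact le_antisymm (key hE hE' hx hx') (key hE' hE hx' hx)

theorem IsElem.centralizes (hS : IsPGroup 2 S) (hE : IsElem S 2 E) {x y : Ω} (hx : x ∈ E)
    (hy : y ∈ S) (hyE : y ∉ E) (h : x * y = y * x) : x ∈ centralizerIn S S := by
  have : Fact (Nat.Prime 2) := ⟨Nat.prime_two⟩
  set K := S ⊓ Subgroup.centralizer ({x} : Set Ω)
  have hKS : K ≤ S := inf_le_left
  have := finite_of_le hKS
  have := finite_of_le hE.2.1
  have hlt : E < K := lt_of_le_of_ne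
    (fun u hu => ⟨hE.2.1 hu, Subgroup.mem_centralizer_singleton_iff.2 (hE.comm u hu x hx)⟩)
    fun e => hyE (e.ge ⟨hy, Subgroup.mem_centralizer_singleton_iff.2 h.symm⟩)
  obtain ⟨j, hj⟩ := IsPGroup.iff_card.1 (isPGroup_of_le hS hKS)
  obtain ⟨i, hi⟩ := IsPGroup.iff_card.1 (isPGroup_of_le hS hE.2.1)
  have h2 : (2 : ℕ) ^ i < 2 ^ j := hi ▸ hj ▸ card_lt_of_lt hKS hlt
  have hcard := hE.2.2.2.1
  rw [hi, ← pow_succ] at hcard
  have hKeq : K = S := eq_of_le_of_card_le hKS (by
    rw [← hcard, hj]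
    exact Nat.pow_le_pow_right two_pos ((Nat.pow_lt_pow_iff_right (by norm_num)).1 h2))
  exact mem_centre_iff.2 ⟨hE.2.1 hx, fun d hd =>
    Subgroup.mem_centralizer_singleton_iff.1 (hKeq.ge hd).2⟩

theorem not_three (hS : IsPGroup 2 S) {A B C : Subgroup Ω} (hA : IsElem S 2 A) (hB : IsElem S 2 B)
    (hC : IsElem S 2 C) (hAB : A ≠ B) (hAC : A ≠ C) (hBC : B ≠ C) : False := by
  have : Fact (Nat.Prime 2) := ⟨Nat.prime_two⟩
  obtain ⟨x, hx, hxZ⟩ := hA.exists_noncentral
  obtain ⟨y, hy, hyZ⟩ := hB.exists_noncentral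
  obtain ⟨w, hw, hwZ⟩ := hC.exists_noncentral
  set N := Subgroup.center S
  have hNc : ∀ u : S, u ∈ N ↔ (u : Ω) ∈ centralizerIn S S := fun u => by
    rw [mem_centre_iff, Subgroup.mem_center_iff]
    exact ⟨fun h => ⟨u.2, fun c hc => congrArg Subtype.val (h ⟨c, hc⟩)⟩,
      fun h g => Subtype.ext (h.2 g g.2)⟩
  have hcard : Nat.card (S ⧸ N) = 4 := by
    have h := N.card_mul_index
    have hN : Nat.card N = Nat.card (centralizerIn S S) :=
      Nat.card_congr ⟨fun u => ⟨_, (hNc u.1).1 u.2⟩,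
        fun z => ⟨⟨z, (mem_centre_iff.1 z.2).1⟩, (hNc _).2 z.2⟩, fun _ => rfl, fun _ => rfl⟩
    have hpos : 0 < Nat.card (centralizerIn S S) := hN ▸ Nat.card_pos
    rw [hN, ← hA.2.2.2.1, hA.2.2.1, Subgroup.index_eq_card, mul_assoc] at h
    exact Nat.eq_of_mul_eq_mul_left hpos h
  set q : S →* S ⧸ N := QuotientGroup.mk' N
  have hq : ∀ u v : S, q u = q v ↔ (u : Ω)⁻¹ * v ∈ centralizerIn S S := fun u v => by
    rw [show q u = (u : S ⧸ N) from rfl, show q v = (v : S ⧸ N) from rfl, QuotientGroup.eq, hNc]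
    rfl
  have hinv : ∀ {D : Subgroup Ω}, IsElem S 2 D → ∀ u ∈ D, u⁻¹ = u := fun hD u hu =>
    inv_eq_of_mul_eq_one_left (pow_two u ▸ hD.2.2.2.2 u hu)
  set x' : S := ⟨x, hA.2.1 hx⟩
  set y' : S := ⟨y, hB.2.1 hy⟩
  set w' : S := ⟨w, hC.2.1 hw⟩
  have hxy : x * y ∉ centralizerIn S S := fun h => hAB (hA.eq_of_mem hB hx (by
    have h1 := B.mul_mem (hB.1 h) (B.inv_mem hy)
    rwa [mul_inv_cancel_right] at h1) hxZ)
  have hxy' : y ∉ A := fun h => hAB (hA.eq_of_mem hB h hy hyZ)
  -- the four cosets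
  have hd : [1, q x', q y', q x' * q y'].Nodup := by
    have e1 : q x' ≠ 1 := fun e => hxZ ((hNc _).1 ((QuotientGroup.eq_one_iff x').1 e))
    have e2 : q y' ≠ 1 := fun e => hyZ ((hNc _).1 ((QuotientGroup.eq_one_iff y').1 e))
    have e3 : q x' ≠ q y' := fun e => hxy (by
      have := (hq _ _).1 e
      rwa [hinv hA x hx] at this)
    have e4 : q x' * q y' ≠ 1 := fun e => hxy ((hNc (x' * y')).1
      ((QuotientGroup.eq_one_iff (x' * y')).1 e))
    simp [e1.symm, e2.symm, e3, e4.symm, e1, e2]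
  have hall : q w' ∈ [1, q x', q y', q x' * q y'] := by
    have := Fintype.ofFinite (S ⧸ N)
    have h : ([1, q x', q y', q x' * q y'].toFinset) = Finset.univ := by
      refine Finset.eq_univ_of_card _ ?_
      rw [List.toFinset_card_of_nodup hd, ← Nat.card_eq_fintype_card, hcard]
      rfl
    exact List.mem_toFinset.1 (h ▸ Finset.mem_univ _)
  simp only [List.mem_cons, List.mem_nil_iff, or_false] at hall
  rcases hall with e | e | e | e
  · exact hwZ ((hNc _).1 ((QuotientGroup.eq_one_iff w').1 e))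
  · refine hAC (hA.eq_of_mem hC hx ?_ hxZ)
    have h1 := hC.1 ((hq _ _).1 e)
    have h2 := C.mul_mem hw h1
    rwa [show (w : Ω) * ((w' : Ω)⁻¹ * (x' : Ω)) = x from mul_inv_cancel_left _ _] at h2
  · refine hBC (hB.eq_of_mem hC hy ?_ hyZ)
    have h1 := hC.1 ((hq _ _).1 e)
    have h2 := C.mul_mem hw h1
    rwa [show (w : Ω) * ((w' : Ω)⁻¹ * (y' : Ω)) = y from mul_inv_cancel_left _ _] at h2
  · rw [← map_mul] at e
    have h1 := hC.1 ((hq _ _).1 e)
    have h2 := C.mul_mem hw h1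
    rw [show (w : Ω) * ((w' : Ω)⁻¹ * ((x' * y' : S) : Ω)) = x * y from mul_inv_cancel_left _ _] at h2
    have h3 := hC.2.2.2.2 _ h2
    refine hxZ (hA.centralizes hS hx (hB.2.1 hy) hxy' ?_)
    calc x * y = (x * y)⁻¹ := (inv_eq_of_mul_eq_one_left (pow_two (x * y) ▸ h3)).symm
      _ = y * x := by rw [mul_inv_rev, hinv hA x hx, hinv hB y hy]

variable [Fact (Nat.Prime 2)]

/-- For an essential subgroup all involutions of `Aut_F(E)` come from two of them. -/
theorem essential_involutions (hS : IsPGroup 2 S) (hF : F.IsSaturated 2)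
    (hD : Nat.card (⁅S, S⁆ : Subgroup Ω) = 2) (hE : F.IsEssential 2 E) :
    ∃ a ∈ autInducedBy S E, ∃ b ∈ F.autGroup E, b ^ 2 = 1 ∧
      ∀ α ∈ F.autGroup E, α ^ 2 = 1 → α ∈ Subgroup.closure ({a, b} : Set (MulAut E)) := by
  let _ := commOf (essential_abelian hS hF hD hE)
  have := finite_of_le hE.1.1
  obtain ⟨a, ha, ha1, b, hb, hbp, hba⟩ := exists_pair hS hF hD hE
  refine ⟨a, ha, b, hb, hbp, fun α hα hαp => ?_⟩
  have haG := autInducedBy_le_autGroup (F := F) hE.1.1 ha
  have hsq : ∀ {x : MulAut E}, x ^ 2 = 1 → x⁻¹ = x := fun {x} h =>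
    inv_eq_of_mul_eq_one_left (pow_two x ▸ h)
  have heq : ∀ {x y : MulAut E}, x ^ 2 = 1 → y ≠ 1 → y ∈ Subgroup.zpowers x → y = x := by
    intro x y hx hy h
    obtain ⟨i, rfl⟩ := Subgroup.mem_zpowers_iff.1 h
    rcases Int.even_or_odd' i with ⟨k, rfl | rfl⟩
    · exact absurd (by rw [zpow_mul, zpow_ofNat, hx, one_zpow]) hy
    · rw [zpow_add, zpow_mul, zpow_ofNat, hx, one_zpow, one_mul, zpow_one]
  by_cases h1 : α = 1
  · exact h1 ▸ one_mem _
  by_cases h2 : α = a
  · exact h2 ▸ Subgroup.subset_closure (Set.mem_insert _ _)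
  by_cases h3 : α = b
  · exact h3 ▸ Subgroup.subset_closure (by simp)
  set C := {x : MulAut E | x ∈ F.autGroup E ∧ x ^ 2 = 1 ∧ x ≠ 1}
  have hb1 : b ≠ 1 := fun h => hba (h ▸ one_mem _)
  have e := eq_triangle C (fun x hx => exists_centre hS hF hD hE hx.1 hx.2.1)
    (fun x hx y hy h => (heq hx.2.1 hy.2.2 (mem_zpowers_of_commute (sylow_bound hS hF hD hE) hx.1
      hy.1 hx.2.1 hy.2.1 hx.2.2 (by rw [← h, mul_inv_cancel_right]; exact Subgroup.mem_zpowers x))).symm)
    (fun x hx y hy => ⟨mul_mem (mul_mem hx.1 hy.1) ((F.autGroup E).inv_mem hx.1),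
      by rw [conj_pow, hy.2.1, mul_one, mul_inv_cancel], fun h => hy.2.2 (conj_eq_one_iff.1 h)⟩)
    (fun x hx y hy hxy K _ hyK => by
      obtain ⟨L, hL, hxL⟩ := exists_centre hS hF hD hE hx.1 hx.2.1
      exact exists_not_fix (sylow_bound hS hF hD hE) hx.1 hy.1 hx.2.1 hy.2.1 hx.2.2
        (fun h => hxy (heq hx.2.1 hy.2.2 h).symm) hxL hyK)
    (a := a) (b := b) (c := α) ⟨haG, induced_pow hS hF hD hE ha, ha1⟩ ⟨hb, hbp, hb1⟩
    ⟨hα, hαp, h1⟩ (fun h => hba (h ▸ Subgroup.mem_zpowers a)) h2 h3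
  rw [e]
  exact mul_mem (mul_mem (Subgroup.subset_closure (Set.mem_insert _ _))
    (Subgroup.subset_closure (by simp)))
    (inv_mem (Subgroup.subset_closure (Set.mem_insert _ _)))

/-- Each elementary subgroup of index two has a subgroup of order at most two measuring how far its
involutory automorphisms move the centre. -/
theorem exists_measure (hS : IsPGroup 2 S) (hF : F.IsSaturated 2) (hcore : F.core = ⊥)
    (hD : Nat.card (⁅S, S⁆ : Subgroup Ω) = 2) (hE : IsElem S 2 E) :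
    ∃ (K : Subgroup Ω) (δ : Ω → Ω), K ≤ E ∧ Nat.card K = 2 ∧ (∀ z ∈ centralizerIn S S, δ z ∈ K) ∧
      (∀ z ∈ centralizerIn S S, ∀ z' ∈ centralizerIn S S, δ z = δ z' →
        ∀ α ∈ F.autGroup E, α ^ 2 = 1 → autFun α (z⁻¹ * z') = z⁻¹ * z') ∧
      (F.IsEssential 2 E → ∀ α ∈ F.autGroup E, α ^ 2 = 1 → α ∈ moveSub E (⁅S, S⁆ ⊔ K)) := by
  have hab := hE.comm
  let _ := commOf hab
  have := finite_of_le hE.2.1
  have := finite_mulAut_of_le hE.2.1
  have hDZ := derived_central hS hD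
  have hfixZ : ∀ a ∈ autInducedBy S E, ∀ z ∈ centralizerIn S S, autFun a z = z := by
    intro a ha z hz
    obtain ⟨c, hc, he⟩ := mem_autInducedBy_iff.1 ha
    rw [he z (hE.1 hz), (mem_centre_iff.1 hz).2 c hc, mul_inv_cancel_right]
  by_cases hess : F.IsEssential 2 E
  · obtain ⟨a, ha, b, hb, hb2, hcl⟩ := essential_involutions hS hF hD hess
    obtain ⟨K, hK, hbK⟩ := exists_centre hS hF hD hess hb hb2
    refine ⟨K.map E.subtype, fun z => z⁻¹ * autFun b z, Subgroup.map_subtype_le _, ?_,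
      fun z hz => ?_, fun z hz z' hz' he α hα hα2 => ?_, fun _ α hα hα2 => ?_⟩
    · rw [Subgroup.card_map_of_injective E.subtype_injective, hK]
    · refine ⟨(⟨z, hE.1 hz⟩ : E)⁻¹ * b ⟨z, hE.1 hz⟩, hbK.1 _, ?_⟩
      show _ = z⁻¹ * autFun b z
      rw [autFun_apply _ (hE.1 hz)]
      rfl
    · have hu : z⁻¹ * z' ∈ centralizerIn S S := mul_mem (inv_mem hz) hz'
      have huE := hE.1 hu
      have hbu : autFun b (z⁻¹ * z') = z⁻¹ * z' := by
        rw [autFun_map_mul b (E.inv_mem (hE.1 hz)) (hE.1 hz'), autFun_map_inv b (hE.1 hz),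
          show autFun b z' = z' * (z'⁻¹ * autFun b z') by group,
          show z'⁻¹ * autFun b z' = z⁻¹ * autFun b z from he.symm]
        have hc : z' * (z⁻¹ * autFun b z) = (z⁻¹ * autFun b z) * z' :=
          hab _ (hE.1 hz') _ (E.mul_mem (E.inv_mem (hE.1 hz)) (autFun_mem b (hE.1 hz)))
        rw [hc, ← mul_assoc, ← mul_assoc,
          show (autFun b z)⁻¹ * z⁻¹ = z⁻¹ * (autFun b z)⁻¹ from
            hab _ (E.inv_mem (autFun_mem b (hE.1 hz))) _ (E.inv_mem (hE.1 hz))]
        group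
      have hH : α ∈ fixSub E (Subgroup.zpowers (z⁻¹ * z')) := by
        refine (Subgroup.closure_le _).2 ?_ (hcl α hα hα2)
        rintro γ hγ x hx
        obtain ⟨i, hi⟩ := Subgroup.mem_zpowers_iff.1 hx
        have hxe : x = (⟨z⁻¹ * z', huE⟩ : E) ^ i := Subtype.ext hi.symm
        have hfix : γ (⟨z⁻¹ * z', huE⟩ : E) = ⟨z⁻¹ * z', huE⟩ := by
          refine Subtype.ext ?_
          rw [← autFun_apply γ huE]
          rcases hγ with rfl | rfl
          · exact hfixZ γ ha _ hu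
          · exact hbu
        rw [hxe, map_zpow, hfix]
      rw [autFun_apply α huE]
      exact congrArg Subtype.val (hH ⟨_, huE⟩ (Subgroup.mem_zpowers _))
    · refine (Subgroup.closure_le _).2 ?_ (hcl α hα hα2)
      rintro γ hγ x
      rcases hγ with rfl | rfl
      · exact Subgroup.mem_sup_left ((induced_trv hS hD hE.2.1 hab ha).1 x)
      · exact Subgroup.mem_sup_right ⟨x⁻¹ * γ x, hbK.1 x, rfl⟩
  · refine ⟨⁅S, S⁆, fun _ => 1, hDZ.trans hE.1, hD, fun _ _ => one_mem _,
      fun z hz z' hz' _ α hα hα2 => hfixZ α ?_ _ (mul_mem (inv_mem hz) hz'),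
      fun h => absurd h hess⟩
    have hNE : normalizerIn S E = S := le_antisymm normalizerIn_le fun c hc =>
      mem_normalizerIn_of_conj hE.2.1 hc fun x hx => by
        have h := E.mul_mem hx (hE.1 (hDZ (commutator_mem hc (hE.2.1 hx))))
        rwa [mul_inv_cancel_left] at h
    have hn : F.IsFullyNormalized E := ⟨hE.2.1, fun Q _ => by
      rw [hNE]; exact card_le_of_le le_rfl normalizerIn_le⟩
    have hES : E < S := lt_of_le_of_ne hE.2.1 fun e => by
      have h := hE.2.2.2.1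
      rw [e] at h
      have : 0 < Nat.card S := Nat.card_pos
      omega
    have heq : extAut F E = F.autGroup E := by
      by_contra h
      exact hess (essential_of_extAut_ne hS hF hn hES h)
    -- every automorphism normalizes `Aut_S(E)`
    have hnorm : F.autGroup E ≤ Subgroup.normalizer (autInducedBy S E : Set (MulAut E)) := by
      rw [← heq, extAut, Subgroup.closure_le]
      rintro γ ⟨Q, k, hEQ, hk, hke⟩
      have hQ : Q = S := by
        have := finite_of_le hk.le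
        obtain ⟨j, hj⟩ := IsPGroup.iff_card.1 (isPGroup_of_le hS hk.le)
        obtain ⟨i, hi⟩ := IsPGroup.iff_card.1 (isPGroup_of_le hS hE.2.1)
        have h2 : (2 : ℕ) ^ i < 2 ^ j := hi ▸ hj ▸ card_lt_of_lt hk.le hEQ
        have hcard := hE.2.2.2.1
        rw [hi, ← pow_succ] at hcard
        exact eq_of_le_of_card_le hk.le (by
          rw [← hcard, hj]
          exact Nat.pow_le_pow_right two_pos ((Nat.pow_lt_pow_iff_right (by norm_num)).1 h2))
      rw [hQ] at hk
      have h1 : (autInducedBy S E).map (MulAut.conj γ).toMonoidHom ≤ autInducedBy S E := by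
        rintro _ ⟨t, ht, rfl⟩
        obtain ⟨c, hc, he⟩ := mem_autInducedBy_iff.1 ht
        refine mem_autInducedBy_iff.2 ⟨k c, hk.mem hc, fun x hx => ?_⟩
        show autFun (γ * t * γ⁻¹) x = _
        have hx' := autFun_mem γ⁻¹ hx
        rw [autFun_mul _ _ hx, autFun_mul _ _ hx', he _ hx', ← hke _ (by
            rw [← he _ hx']; exact autFun_mem t hx'),
          hk.map_conj hc (hE.2.1 hx'), hke _ hx', ← autFun_mul γ γ⁻¹ hx, mul_inv_cancel,
          autFun_apply (1 : MulAut E) hx]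
        rfl
      have h2 : (autInducedBy S E).map (MulAut.conj γ).toMonoidHom = autInducedBy S E := by
        refine eq_of_le_of_card_le h1 ?_
        rw [Subgroup.card_map_of_injective (MulAut.conj γ).injective]
      rw [SetLike.mem_coe, Subgroup.mem_normalizer_iff]
      intro t
      refine ⟨fun ht => h2.le ⟨t, ht, rfl⟩, fun ht => ?_⟩
      obtain ⟨w, hw, hwe⟩ := h2.ge ht
      exact (MulAut.conj γ).injective hwe ▸ hw
    have hp : IsPGroup 2 (Subgroup.zpowers α) := by
      rintro ⟨_, i, rfl⟩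
      refine ⟨1, Subtype.ext ?_⟩
      show (α ^ i) ^ 2 ^ 1 = 1
      rw [pow_one, ← zpow_natCast, ← zpow_mul, mul_comm, zpow_mul, zpow_natCast, hα2, one_zpow]
    obtain ⟨g, hg, hgα⟩ := exists_conj_le_autInducedBy (fullyNormalized_axiom hS hF hn).2
      (Subgroup.zpowers_le.2 hα) hp
    exact (Subgroup.mem_normalizer_iff.1 (hnorm hg) α).2 (hgα α (Subgroup.mem_zpowers α))

/-- Transport of the involutory automorphisms by an automorphism of `S`. -/
theorem autGroup_transport {σ : MulAut S} (hσ : σ ∈ F.autGroup S) (hE : IsElem S 2 E) :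
    ∃ E', IsElem S 2 E' ∧ ∃ e : E ≃* E', (∀ x : E, (e x : Ω) = autFun σ x) ∧
      ∀ α ∈ F.autGroup E, MulAut.congr e α ∈ F.autGroup E' := by
  have hm := ((mem_autGroup_iff le_rfl).1 hσ).restrict hE.2.1
  set E' := img E (autFun σ)
  obtain ⟨e, he⟩ := hm.exists_equiv (Q := E') rfl
  refine ⟨E', ⟨fun z hz => ?_, hm.img_le_top, ?_, ?_, fun y hy => ?_⟩, e, he,
    fun α hα => hm.map_autGroup_le e he ⟨α, hα, rfl⟩⟩
  · have hz' := autFun_centre σ⁻¹ hz
    have h := mem_img_of_mem (f := autFun σ) (hE.1 hz')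
    rwa [← autFun_mul σ σ⁻¹ (mem_centre_iff.1 hz).1, mul_inv_cancel,
      autFun_apply _ (mem_centre_iff.1 hz).1] at h
  · rw [hm.card_img, hE.2.2.1]
  · rw [hm.card_img, hE.2.2.2.1]
  · obtain ⟨x, hx, rfl⟩ := hm.mem_img.1 hy
    rw [← autFun_map_pow σ (hE.2.1 hx), hE.2.2.2.2 x hx, autFun_apply σ S.one_mem]
    exact congrArg Subtype.val (map_one σ)

/-- A core-free saturated system with `|S'| = 2` and hyperfocal subgroup `S` has centre of
order two. -/
theorem card_centre_two (hS : IsPGroup 2 S) (hF : F.IsSaturated 2) (hcore : F.core = ⊥)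
    (hhyp : F.hyperfocalSubgroup 2 = S) (hD : Nat.card (⁅S, S⁆ : Subgroup Ω) = 2) :
    Nat.card (centralizerIn S S) = 2 := by
  have hS1 : S ≠ ⊥ := fun h => by
    have hle : (⁅S, S⁆ : Subgroup Ω) ≤ ⊥ := derived_le.trans h.le
    rw [le_bot_iff.1 hle, Subgroup.card_bot] at hD
    exact absurd hD (by norm_num)
  obtain ⟨E, hE⟩ := exists_essential hS hF hcore hS1
  have hEe := isElem_of_essential hS hF hcore hD hE
  obtain ⟨E₁, E₂, h₁, h₂, hall⟩ : ∃ E₁ E₂, IsElem S 2 E₁ ∧ IsElem S 2 E₂ ∧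
      ∀ A, IsElem S 2 A → A = E₁ ∨ A = E₂ := by
    by_cases h : ∀ A, IsElem S 2 A → A = E
    · exact ⟨E, E, hEe, hEe, fun A hA => Or.inl (h A hA)⟩
    · push Not at h
      obtain ⟨B, hB, hBE⟩ := h
      refine ⟨E, B, hEe, hB, fun A hA => ?_⟩
      by_contra hcon
      push Not at hcon
      exact not_three hS hA hEe hB hcon.1 hcon.2 (Ne.symm hBE)
  obtain ⟨K₁, δ₁, hK₁E, hK₁, hδ₁, hfix₁, hmv₁⟩ := exists_measure hS hF hcore hD h₁
  obtain ⟨K₂, δ₂, hK₂E, hK₂, hδ₂, hfix₂, hmv₂⟩ := exists_measure hS hF hcore hD h₂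
  let V : Subgroup Ω :=
    { carrier := {z | z ∈ centralizerIn S S ∧
        ∀ A, IsElem S 2 A → ∀ α ∈ F.autGroup A, α ^ 2 = 1 → autFun α z = z}
      one_mem' := ⟨one_mem _, fun A _ α _ _ => by
        rw [autFun_apply α A.one_mem]; exact congrArg Subtype.val (map_one α)⟩
      mul_mem' := fun {x y} hx hy => ⟨mul_mem hx.1 hy.1, fun A hA α hα h2 => by
        rw [autFun_map_mul α (hA.1 hx.1) (hA.1 hy.1), hx.2 A hA α hα h2, hy.2 A hA α hα h2]⟩
      inv_mem' := fun {x} hx => ⟨inv_mem hx.1, fun A hA α hα h2 => by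
        rw [autFun_map_inv α (hA.1 hx.1), hx.2 A hA α hα h2]⟩ }
  have hV : V = ⊥ := by
    refine eq_bot_of_isNormal hcore (isNormal_of_fixed hS hF hD (fun z hz => hz.1)
      (fun σ hσ v hv => ⟨autFun_centre σ hv.1, fun A hA α hα h2 => ?_⟩)
      fun A hA α hα h2 v hv => hv.2 A (isElem_of_essential hS hF hcore hD hA) α hα h2)
    obtain ⟨A', hA', e, he, hmap⟩ := autGroup_transport ((F.autGroup S).inv_mem hσ) hA
    have hvS := (mem_centre_iff.1 hv.1).1
    have hwA := hA.1 (autFun_centre σ hv.1)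
    have hev : (e ⟨_, hwA⟩ : Ω) = v := by
      rw [he, ← autFun_mul σ⁻¹ σ hvS, inv_mul_cancel, autFun_apply _ hvS]
      rfl
    have h3 : autFun (MulAut.congr e α) v = v :=
      hv.2 A' hA' _ (hmap α hα) (by rw [← map_pow, h2, map_one])
    rw [← hev, autFun_congr_apply] at h3
    rw [autFun_apply α hwA]
    exact congrArg Subtype.val (e.injective (Subtype.ext (h3.trans rfl)))
  have := finite_of_le (centralizerIn_le : centralizerIn S S ≤ S)
  have := finite_of_le (hK₁E.trans h₁.2.1)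
  have := finite_of_le (hK₂E.trans h₂.2.1)
  have hinj : ∀ z ∈ centralizerIn S S, ∀ z' ∈ centralizerIn S S, δ₁ z = δ₁ z' → δ₂ z = δ₂ z' →
      z = z' := by
    intro z hz z' hz' e₁ e₂
    have h : z⁻¹ * z' ∈ V := ⟨mul_mem (inv_mem hz) hz', fun A hA α hα h2 => by
      rcases hall A hA with rfl | rfl
      · exact hfix₁ z hz z' hz' e₁ α hα h2
      · exact hfix₂ z hz z' hz' e₂ α hα h2⟩
    rw [hV, Subgroup.mem_bot, inv_mul_eq_one] at h
    exact h
  have hle4 : Nat.card (centralizerIn S S) ≤ 4 := by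
    refine (Nat.card_le_card_of_injective
      (fun z : centralizerIn S S => ((⟨_, hδ₁ z z.2⟩ : K₁), (⟨_, hδ₂ z z.2⟩ : K₂)))
      fun z z' h => Subtype.ext ?_).trans_eq (by rw [Nat.card_prod, hK₁, hK₂])
    rw [Prod.mk.injEq] at h
    exact hinj z z.2 z' z'.2 (congrArg Subtype.val h.1) (congrArg Subtype.val h.2)
  obtain ⟨j, hj⟩ := IsPGroup.iff_card.1 (isPGroup_of_le hS (centralizerIn_le (S := S) (P := S)))
  have hDle : 2 ≤ Nat.card (centralizerIn S S) :=
    hD ▸ card_le_of_le centralizerIn_le (derived_central hS hD)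
  have hj2 : j ≤ 2 := by
    by_contra h
    have := Nat.pow_le_pow_right (show 0 < 2 by norm_num) (show 3 ≤ j by omega)
    omega
  interval_cases j
  · omega
  · simpa using hj
  -- the centre of order four is impossible
  exfalso
  by_cases h12 : E₁ = E₂
  · subst h12
    have h5 : Nat.card (centralizerIn S S) ≤ 2 := by
      refine (Nat.card_le_card_of_injective (fun z : centralizerIn S S => (⟨_, hδ₁ z z.2⟩ : K₁))
        fun z z' h => Subtype.ext ?_).trans_eq hK₁
      have h6 : (z : Ω)⁻¹ * z' ∈ V := ⟨mul_mem (inv_mem z.2) z'.2, fun A hA α hα h2 => by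
        rcases hall A hA with rfl | rfl <;>
          exact hfix₁ z z.2 z' z'.2 (congrArg Subtype.val h) α hα h2⟩
      rw [hV, Subgroup.mem_bot, inv_mul_eq_one] at h6
      exact h6
    omega
  obtain ⟨x, hx, hxZ⟩ := h₁.exists_noncentral
  obtain ⟨y, hy, hyZ⟩ := h₂.exists_noncentral
  have hxS := h₁.2.1 hx
  have hyS := h₂.2.1 hy
  have hZ4 : Nat.card (centralizerIn S S) = 4 := by simpa using hj
  -- `Aut_F(S)` consists of inner automorphisms
  have hautS : ∀ σ ∈ F.autGroup S, σ ∈ Inn S := by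
    intro σ hσ
    have hperm : ∀ A, IsElem S 2 A → ∀ u ∈ A, autFun (σ ^ 2) u ∈ A := by
      intro A hA u hu
      obtain ⟨A', hA', e, he, -⟩ := autGroup_transport hσ hA
      obtain ⟨A'', hA'', e', he', -⟩ := autGroup_transport hσ hA'
      have hmem : autFun (σ ^ 2) u ∈ A'' := by
        rw [pow_two, autFun_mul _ _ (hA.2.1 hu), ← show (e ⟨u, hu⟩ : Ω) = autFun σ u from he _]
        exact he' (e ⟨u, hu⟩) ▸ (e' (e ⟨u, hu⟩)).2
      have := finite_of_le hA.2.1
      have := finite_of_le hA'.2.1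
      have := finite_of_le hA''.2.1
      suffices hA2 : A'' = A by exact hA2 ▸ hmem
      have hinjσ : ∀ {B B' C : Subgroup Ω} (f : B ≃* C) (g : B' ≃* C), IsElem S 2 B →
          IsElem S 2 B' → (∀ v : B, (f v : Ω) = autFun σ v) → (∀ v : B', (g v : Ω) = autFun σ v) →
          B = B' := by
        intro B B' C f g hB hB' hf hg
        have key : ∀ {B B' : Subgroup Ω} (f : B ≃* C) (g : B' ≃* C), IsElem S 2 B →
            IsElem S 2 B' → (∀ v : B, (f v : Ω) = autFun σ v) →
            (∀ v : B', (g v : Ω) = autFun σ v) → B ≤ B' := by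
          intro B B' f g hB hB' hf hg v hv
          have h1 := hg (g.symm (f ⟨v, hv⟩))
          rw [MulEquiv.apply_symm_apply, hf] at h1
          exact ((mem_autGroup_iff le_rfl).1 hσ).eq_of_eq (hB.2.1 hv)
            (hB'.2.1 (g.symm (f ⟨v, hv⟩)).2) h1 ▸ (g.symm (f ⟨v, hv⟩)).2
        exact le_antisymm (key f g hB hB' hf hg) (key g f hB' hB hg hf)
      rcases hall A hA with rfl | rfl <;> rcases hall A' hA' with rfl | rfl
      · rcases hall A'' hA'' with rfl | rfl
        · rfl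
        · exact absurd (eq_of_le_of_card_le (fun v hv => by
            have h1 := he' (e'.symm ⟨v, hv⟩)
            rw [MulEquiv.apply_symm_apply] at h1
            rw [show v = _ from h1, ← he (e'.symm ⟨v, hv⟩)]
            exact (e _).2) (by rw [h₁.2.2.1, h₂.2.2.1])) (Ne.symm h12)
      · rcases hall A'' hA'' with rfl | rfl
        · rfl
        · exact absurd (hinjσ e e' h₁ h₂ he he') h12
      · rcases hall A'' hA'' with rfl | rfl
        · exact absurd (hinjσ e e' h₂ h₁ he he') (Ne.symm h12)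
        · rfl
      · rcases hall A'' hA'' with rfl | rfl
        · exact absurd (eq_of_le_of_card_le (fun v hv => by
            have h1 := he' (e'.symm ⟨v, hv⟩)
            rw [MulEquiv.apply_symm_apply] at h1
            rw [show v = _ from h1, ← he (e'.symm ⟨v, hv⟩)]
            exact (e _).2) (by rw [h₁.2.2.1, h₂.2.2.1])) h12
        · rfl
    -- the centre: a fixed element and a permutation of the two others
    have hτ : ∀ z ∈ centralizerIn S S, autFun (σ ^ 4) z = z := by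
      intro z hz
      have hzS := (mem_centre_iff.1 hz).1
      obtain ⟨d, hd, hd1⟩ := (Subgroup.bot_or_exists_ne_one (⁅S, S⁆ : Subgroup Ω)).resolve_left
        fun h => by rw [h, Subgroup.card_bot] at hD; exact absurd hD (by norm_num)
      have hfinD := finite_of_le (derived_le : ⁅S, S⁆ ≤ S)
      have hDeq : ∀ u ∈ ⁅S, S⁆, u = 1 ∨ u = d := fun u hu => by
        by_contra hcon
        push Not at hcon
        have : Fintype (⁅S, S⁆ : Subgroup Ω) := Fintype.ofFinite _
        have h3 : ({⟨1, one_mem _⟩, ⟨d, hd⟩, ⟨u, hu⟩} : Finset (⁅S, S⁆ : Subgroup Ω)).card = 3 := by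
          rw [Finset.card_eq_three]
          exact ⟨_, _, _, fun e => hd1 (congrArg Subtype.val e).symm,
            fun e => hcon.1 (congrArg Subtype.val e).symm,
            fun e => hcon.2 (congrArg Subtype.val e).symm, rfl⟩
        have h4 := Finset.card_le_univ ({⟨1, one_mem _⟩, ⟨d, hd⟩, ⟨u, hu⟩} : Finset (⁅S, S⁆ : Subgroup Ω))
        rw [h3, ← Nat.card_eq_fintype_card, hD] at h4
        omega
      set δ := σ ^ 2 with hδ
      have hσ4 : σ ^ 4 = δ * δ := by rw [hδ, ← pow_add]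
      rw [hσ4, autFun_mul _ _ hzS]
      have hδd : ∀ u ∈ ⁅S, S⁆, autFun δ u = u := fun u hu => by
        rcases hDeq u hu with rfl | rfl
        · rw [autFun_apply δ S.one_mem]; exact congrArg Subtype.val (map_one δ)
        · rcases hDeq _ (autFun_derived δ hu) with e | e
          · refine absurd ?_ hd1
            rw [autFun_apply δ (derived_le hu)] at e
            exact congrArg Subtype.val ((map_eq_one_iff δ δ.injective).1 (Subtype.ext e))
          · exact e
      by_cases hzD : z ∈ ⁅S, S⁆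
      · rw [hδd z hzD, hδd z hzD]
      by_cases hz2 : autFun δ z = z
      · rw [hz2, hz2]
      -- `z`, `δ z` and `δ (δ z)` lie outside `S'` in a group of order four
      set z₁ := autFun δ z
      set z₂ := autFun δ z₁
      have hz₁ : z₁ ∈ centralizerIn S S := autFun_centre δ hz
      have hz₂ : z₂ ∈ centralizerIn S S := autFun_centre δ hz₁
      have hne : ∀ {u v : Ω}, u ∈ S → v ∈ S → u ≠ v → autFun δ u ≠ autFun δ v := fun hu hv h e =>
        h (by
          rw [autFun_apply δ hu, autFun_apply δ hv] at e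
          exact congrArg Subtype.val (δ.injective (Subtype.ext e)))
      have hnD : ∀ {u : Ω}, u ∈ S → u ∉ ⁅S, S⁆ → autFun δ u ∉ ⁅S, S⁆ := fun hu hnu h => hnu (by
        have h1 := hδd _ h
        have h2 : autFun δ (autFun δ _) = autFun δ _ := h1
        by_contra hcon
        exact hne (autFun_mem δ hu) hu (fun e => hcon (e ▸ h)) h2)
      by_contra hzz
      have : Fintype (centralizerIn S S) := Fintype.ofFinite _
      have hz₁D : z₁ ∉ ⁅S, S⁆ := hnD hzS hzD
      have hz₂D : z₂ ∉ ⁅S, S⁆ := hnD (mem_centre_iff.1 hz₁).1 hz₁D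
      have h5 : ({⟨1, one_mem _⟩, ⟨d, derived_central hS hD hd⟩, ⟨z, hz⟩, ⟨z₁, hz₁⟩, ⟨z₂, hz₂⟩} :
          Finset (centralizerIn S S)).card = 5 := by
        have a1 : z ≠ 1 := fun e => hzD (by rw [e]; exact one_mem _)
        have a2 : z₁ ≠ 1 := fun e => hz₁D (by rw [e]; exact one_mem _)
        have a3 : z₂ ≠ 1 := fun e => hz₂D (by rw [e]; exact one_mem _)
        have b1 : z ≠ d := fun e => hzD (by rw [e]; exact hd)
        have b2 : z₁ ≠ d := fun e => hz₁D (by rw [e]; exact hd)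
        have b3 : z₂ ≠ d := fun e => hz₂D (by rw [e]; exact hd)
        have c1 : z₂ ≠ z₁ := hne (mem_centre_iff.1 hz₁).1 hzS hz2
        simp [Finset.card_insert_of_notMem, a1.symm, a2.symm, a3.symm, b1.symm, b2.symm, b3.symm,
          c1.symm, Ne.symm hz2, Ne.symm hzz, hd1.symm]
      have h6 := Finset.card_le_univ ({⟨1, one_mem _⟩, ⟨d, derived_central hS hD hd⟩, ⟨z, hz⟩,
        ⟨z₁, hz₁⟩, ⟨z₂, hz₂⟩} : Finset (centralizerIn S S))
      rw [h5, ← Nat.card_eq_fintype_card, hZ4] at h6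
      omega
    have hmove : ∀ u ∈ ({x, y} : Set Ω), autFun (σ ^ 8) u = u := by
      intro u hu
      obtain ⟨A, hA, huA, huZ⟩ : ∃ A, IsElem S 2 A ∧ u ∈ A ∧ u ∉ centralizerIn S S := by
        rcases hu with rfl | rfl
        exacts [⟨E₁, h₁, hx, hxZ⟩, ⟨E₂, h₂, hy, hyZ⟩]
      set τ := σ ^ 4 with hτdef
      have huS := hA.2.1 huA
      have h4A : autFun τ u ∈ A := by
        rw [hτdef, show σ ^ 4 = σ ^ 2 * σ ^ 2 by rw [← pow_add], autFun_mul _ _ huS]
        exact hperm A hA _ (hperm A hA u huA)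
      have h4Z : autFun τ u ∉ centralizerIn S S := fun h => huZ (by
        have h1 := autFun_centre τ⁻¹ h
        rwa [← autFun_mul τ⁻¹ τ huS, inv_mul_cancel, autFun_apply _ huS] at h1)
      have hz := hA.mul_mem_centre huA h4A huZ h4Z
      set z := u * autFun τ u
      have huu : u⁻¹ = u := inv_eq_of_mul_eq_one_left (pow_two u ▸ hA.2.2.2.2 u huA)
      have hu4 : autFun τ u = u * z := by
        show _ = u * (u * autFun τ u)
        rw [← mul_assoc, ← pow_two, hA.2.2.2.2 u huA, one_mul]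
      rw [show σ ^ 8 = τ * τ by rw [hτdef, ← pow_add], autFun_mul _ _ huS, hu4,
        autFun_map_mul _ huS (mem_centre_iff.1 hz).1, hu4, hτ z hz, mul_assoc, ← pow_two,
        centre_pow hS hF hcore hD hz, mul_one]
    refine mem_inn_of_pElement hS hF hσ (k := 3) (aut_ext fun v hv => ?_)
    rw [show (2 : ℕ) ^ 3 = 8 by norm_num, show autFun (1 : MulAut S) v = v by
      rw [autFun_apply _ hv]; rfl]
    let W : Subgroup Ω :=
      { carrier := {v | v ∈ S ∧ autFun (σ ^ 8) v = v}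
        one_mem' := ⟨S.one_mem, by
          rw [autFun_apply _ S.one_mem]; exact congrArg Subtype.val (map_one _)⟩
        mul_mem' := fun {a b} ha hb => ⟨S.mul_mem ha.1 hb.1, by
          rw [autFun_map_mul _ ha.1 hb.1, ha.2, hb.2]⟩
        inv_mem' := fun {a} ha => ⟨S.inv_mem ha.1, by rw [autFun_map_inv _ ha.1, ha.2]⟩ }
    have hZW : centralizerIn S S ≤ W := fun z hz => ⟨(mem_centre_iff.1 hz).1, by
      rw [show σ ^ 8 = σ ^ 4 * σ ^ 4 by rw [← pow_add], autFun_mul _ _ (mem_centre_iff.1 hz).1,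
        hτ z hz, hτ z hz]⟩
    have hxW : x ∈ W := ⟨hxS, hmove x (by simp)⟩
    have hyW : y ∈ W := ⟨hyS, hmove y (by simp)⟩
    have hWS : W ≤ S := fun v hv => hv.1
    have hEW : E₁ ≤ W := fun u hu => by
      by_cases huZ : u ∈ centralizerIn S S
      · exact hZW huZ
      · have h := W.mul_mem (hZW (h₁.mul_mem_centre hu hx huZ hxZ)) (W.inv_mem hxW)
        rwa [mul_inv_cancel_right] at h
    have := finite_of_le hWS
    have hlt : E₁ < W := lt_of_le_of_ne hEW fun e => h12 (h₁.eq_of_mem h₂ (e.ge hyW) hy hyZ)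
    have hWeq : W = S := by
      obtain ⟨m, hm⟩ := IsPGroup.iff_card.1 (isPGroup_of_le hS hWS)
      have := card_lt_of_lt hWS hlt
      have h7 := h₁.2.2.2.1
      rw [h₁.2.2.1, hZ4] at h7 this
      have hm4 : 4 ≤ m := by
        by_contra h
        have := Nat.pow_le_pow_right (show 0 < 2 by norm_num) (show m ≤ 3 by omega)
        omega
      have := Nat.pow_le_pow_right (show 0 < 2 by norm_num) hm4
      exact eq_of_le_of_card_le hWS (by omega)
    exact (hWeq.ge hv).2
  -- the focal subgroup is small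
  set K := ⁅S, S⁆ ⊔ K₁ ⊔ K₂
  have hN : ⁅S, S⁆ ⊔ K₁ ≤ S := sup_le derived_le (hK₁E.trans h₁.2.1)
  have hS16 : Nat.card S = 16 := by rw [← h₁.2.2.2.1, h₁.2.2.1, hZ4]
  have hfocal : F.focalSubgroup ≤ K := by
    have hDK : ⁅S, S⁆ ≤ K := le_sup_left.trans le_sup_left
    refine focal_le_iff.2 fun R f hf v hv => ?_
    obtain ⟨φ, ⟨-, hφK⟩, he⟩ := mor_le_of_essential (E := relExt F _ (relCond_diff hDK)) hS hF
      (fun P hP α hα => by
        have hPS : P ≤ S := hP.elim (fun e => e.le) (fun h => h.1.1)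
        obtain ⟨φ, hφ, he⟩ := ((mem_autGroup_iff hPS).1 hα).exists_hom
        refine ⟨φ, ⟨hφ, fun u => ?_⟩, he⟩
        rw [he]
        have hinner : ∀ γ ∈ F.autGroup S, ∀ w ∈ S, w⁻¹ * autFun γ w ∈ K := by
          intro γ hγ w hw
          have h := hautS γ hγ
          rw [inn_eq_autInducedBy, mem_autInducedBy_iff] at h
          obtain ⟨c, hc, hce⟩ := h
          rw [hce w hw]
          exact hDK (commutator_mem hc hw)
        rcases hP with rfl | hP
        · exact hinner α hα u u.2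
        · have hle : F.autGroup P ≤ moveSub P K := by
            refine autGroup_le_of hS hF hD hP (fun γ hγ h2 => ?_) fun γ hγ h2 w => ?_
            · rcases hall P (isElem_of_essential hS hF hcore hD hP) with rfl | rfl
              · exact fun w => (sup_le hDK (le_sup_right.trans le_sup_left) : _ ≤ K)
                  (hmv₁ hP γ hγ h2 w)
              · exact fun w => (sup_le hDK le_sup_right : _ ≤ K) (hmv₂ hP γ hγ h2 w)
            · obtain ⟨γ', hγ', he'⟩ := h2
              have h3 := hinner γ' hγ' w (hP.1.1 w.2)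
              rwa [he' w w.2, autFun_coe] at h3
          rw [autFun_coe]
          exact hle hα u) R f hf
    rw [← he ⟨v, hv⟩]
    exact hφK ⟨v, hv⟩
  have hfD := finite_of_le (derived_le : ⁅S, S⁆ ≤ S)
  have hnorm : K₂ ≤ Subgroup.normalizer ((⁅S, S⁆ ⊔ K₁ : Subgroup Ω) : Set Ω) := fun c hc =>
    (mem_normalizerIn_of_conj (P := ⁅S, S⁆ ⊔ K₁) hN (h₂.2.1 (hK₂E hc)) fun u hu => by
      have h := (⁅S, S⁆ ⊔ K₁).mul_mem hu
        (Subgroup.mem_sup_left (commutator_mem (h₂.2.1 (hK₂E hc)) (hN hu)))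
      rwa [mul_inv_cancel_left] at h).2
  have hnorm1 : K₁ ≤ Subgroup.normalizer ((⁅S, S⁆ : Subgroup Ω) : Set Ω) := fun c hc =>
    (mem_normalizerIn_of_conj (P := ⁅S, S⁆) derived_le (h₁.2.1 (hK₁E hc))
      fun u hu => derived_conj (h₁.2.1 (hK₁E hc)) hu).2
  have hcard : Nat.card K ≤ 8 := by
    have e1 : Nat.card (⁅S, S⁆ ⊔ K₁ : Subgroup Ω) ≤ 4 := by
      have h := Set.natCard_mul_le (s := ((⁅S, S⁆ : Subgroup Ω) : Set Ω)) (t := (K₁ : Set Ω))
      rw [← Subgroup.coe_mul_of_right_le_normalizer_left _ _ hnorm1] at h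
      simpa [hD, hK₁] using h
    have h := Set.natCard_mul_le (s := ((⁅S, S⁆ ⊔ K₁ : Subgroup Ω) : Set Ω)) (t := (K₂ : Set Ω))
    rw [← Subgroup.coe_mul_of_right_le_normalizer_left _ _ hnorm] at h
    have h' : Nat.card K ≤ Nat.card (⁅S, S⁆ ⊔ K₁ : Subgroup Ω) * Nat.card K₂ := h
    rw [hK₂] at h'
    omega
  have hSK : S ≤ K := by
    conv_lhs => rw [← hhyp]
    exact ((le_sup_left : F.hyperfocalSubgroup 2 ≤ _).trans (focal_eq hS hF).ge).trans hfocal
  have := finite_of_le (sup_le hN (hK₂E.trans h₂.2.1) : K ≤ S)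
  have := Nat.card_le_card_of_injective _ (Subgroup.inclusion_injective hSK)
  omega

end Cfsg.Lib.Fusion
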