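import Mathlib
import Cfsg.Prelude.Def_FusionSystem
import Cfsg.Prelude.Def_Transfer
import Cfsg.Agent.Lib.Fusion.ChainCriterion
import Cfsg.Agent.Lib.Fusion.Essential
import Cfsg.Agent.Lib.PLocal.QdSylow
import Cfsg.Agent.Lib.Transfer.OmegaCentralizer
import Cfsg.Agent.Lib.TwoFus.Presentations
import Cfsg.Agent.Lib.Transfer.PGroupNormal

/-!
Essential subgroups of order `p ^ 3`.
-/

set_option autoImplicit false

open scoped Classical commutatorElement
set_option linter.style.haveILetI false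
open Subgroup

namespace Cfsg.Lib.Fusion.OrderPCubed

open Cfsg Cfsg.FusionSystem Cfsg.Lib.Fusion

variable {p : ℕ} [Fact p.Prime]

/-- A factor of order `p` of two normal subgroups of a `p`-group is centralized. -/
theorem stab_of_card {K : Type*} [Group K] [Finite K] (hK : IsPGroup p K) {A B : Subgroup K}
    [A.Normal] (hB : B.Normal) (hAB : A ≤ B) (hcard : Nat.card B = p * Nat.card A) :
    ∀ x ∈ B, ∀ c : K, x⁻¹ * (c * x * c⁻¹) ∈ A := by
  intro x hx c
  rw [← QuotientGroup.eq_one_iff]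
  set π := QuotientGroup.mk' A
  have hBn : (B.map π).Normal := hB.map π (QuotientGroup.mk'_surjective A)
  have hker : π.ker = A := QuotientGroup.ker_mk' A
  have h1 : Nat.card (B.map π) = p := by
    have h2 := (π.subgroupMap B).ker.card_mul_index
    rw [Subgroup.index_ker] at h2
    have h3 : (π.subgroupMap B).range = ⊤ :=
      MonoidHom.range_eq_top.2 (π.subgroupMap_surjective B)
    have h4 : Nat.card (π.subgroupMap B).ker = Nat.card A := by
      rw [show (π.subgroupMap B).ker = A.subgroupOf B from Subgroup.ext fun y => by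
        rw [MonoidHom.mem_ker, Subtype.ext_iff, mem_subgroupOf]
        exact QuotientGroup.eq_one_iff _]
      exact Nat.card_congr (Subgroup.subgroupOfEquivOfLe hAB).toEquiv
    rw [h3, Subgroup.card_top, h4, hcard, mul_comm p] at h2
    exact Nat.eq_of_mul_eq_mul_left Nat.card_pos h2
  have hne : B.map π ≠ ⊥ := fun h => by
    rw [h, Subgroup.card_bot] at h1
    exact (Fact.out : p.Prime).ne_one h1.symm
  have hQ : IsPGroup p (K ⧸ A) := hK.to_quotient A
  haveI := hBn
  have h5 : B.map π ≤ center (K ⧸ A) := by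
    have h6 := Cfsg.Lib.Transfer.inf_center_ne_bot hQ (B.map π) hne
    rcases (Nat.dvd_prime (Fact.out : p.Prime)).1 (h1 ▸ Subgroup.card_dvd_of_le
      (inf_le_left : B.map π ⊓ center (K ⧸ A) ≤ B.map π)) with h | h
    · exact absurd (Subgroup.card_eq_one.1 h) h6
    · exact inf_eq_left.1 (Subgroup.eq_of_le_of_card_ge inf_le_left (by rw [h, h1]))
  have h6 : π x ∈ center (K ⧸ A) := h5 ⟨x, hx, rfl⟩
  show π (x⁻¹ * (c * x * c⁻¹)) = 1
  simp only [map_mul, map_inv]
  rw [(mem_center_iff.1 h6 (π c)), mul_inv_cancel_right, inv_mul_cancel]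

variable {Ω : Type*} [Group Ω] {S : Subgroup Ω} [Finite S] {F : Cfsg.FusionSystem S} {H : Subgroup Ω}

/-- An essential subgroup has no characteristic chain with factors of order `p`. -/
theorem false_of_char_chain (hS : IsPGroup p S) (hF : F.IsSaturated p) (hH : F.IsEssential p H)
    (hcard : Nat.card H = p ^ 3) {M' M : Subgroup ↥H} (hle : M' ≤ M)
    (hM' : Nat.card M' = p) (hM : Nat.card M = p ^ 2)
    (hc' : ∀ α : MulAut ↥H, ∀ x ∈ M', α x ∈ M') (hc : ∀ α : MulAut ↥H, ∀ x ∈ M, α x ∈ M) : False := by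
  have hlt := lt_top_of_essential hS hF hH
  obtain ⟨-, c, hcN, hcH⟩ := SetLike.lt_iff_le_and_exists.1 (normalizer_growth hS le_rfl hlt)
  haveI : Finite ↥(normalizerIn S H) := finite_of_le normalizerIn_le
  set N := normalizerIn S H with hNdef
  have hHN : H ≤ N := le_normalizerIn hH.1.1
  let V : ℕ → Subgroup Ω := fun i =>
    if i = 0 then ⊥ else if i = 1 then M'.map H.subtype else if i = 2 then M.map H.subtype else H
  have hV0 : V 0 = ⊥ := rfl
  have hV1 : V 1 = M'.map H.subtype := rfl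
  have hV2 : V 2 = M.map H.subtype := rfl
  have hV3 : V 3 = H := rfl
  have hVle : ∀ i, V i ≤ H := by
    intro i
    simp only [V]
    split_ifs
    exacts [bot_le, map_subtype_le _, map_subtype_le _, le_rfl]
  have hVinv : ∀ (α : MulAut ↥H) i (x : Ω) (hx : x ∈ H), x ∈ V i → (α ⟨x, hx⟩ : Ω) ∈ V i := by
    intro α i x hx hxV
    simp only [V] at hxV ⊢
    split_ifs at hxV ⊢
    · rw [Subgroup.mem_bot] at hxV
      subst hxV
      rw [show (⟨1, hx⟩ : H) = 1 from rfl, map_one]
      exact one_mem _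
    · obtain ⟨y, hy, hye⟩ := hxV
      exact ⟨α ⟨x, hx⟩, hc' α _ (by rwa [show (⟨x, hx⟩ : H) = y from Subtype.ext hye.symm]), rfl⟩
    · obtain ⟨y, hy, hye⟩ := hxV
      exact ⟨α ⟨x, hx⟩, hc α _ (by rwa [show (⟨x, hx⟩ : H) = y from Subtype.ext hye.symm]), rfl⟩
    · exact (α ⟨x, hx⟩).2
  have hVn : ∀ i, ((V i).subgroupOf N).Normal := fun i => ⟨fun x hx g => by
    rw [mem_subgroupOf] at hx ⊢
    have hxH := hVle i hx
    have h := hVinv (conjAut S H ⟨g, g.2⟩) i x hxH hx
    rw [← autFun_apply _ hxH, autFun_conjAut _ hxH] at h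
    exact h⟩
  have hNp : IsPGroup p ↥N := isPGroup_of_le hS normalizerIn_le
  have hcards : ∀ i ≤ 2, Nat.card ((V (i + 1)).subgroupOf N) = p * Nat.card ((V i).subgroupOf N) := by
    intro i hi
    rw [Nat.card_congr (Subgroup.subgroupOfEquivOfLe ((hVle _).trans hHN)).toEquiv,
      Nat.card_congr (Subgroup.subgroupOfEquivOfLe ((hVle _).trans hHN)).toEquiv]
    interval_cases i
    · rw [hV1, hV0, Subgroup.card_bot, Subgroup.card_map_of_injective H.subtype_injective, hM', mul_one]
    · rw [show (1 + 1) = 2 from rfl, hV2, hV1, Subgroup.card_map_of_injective H.subtype_injective,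
        Subgroup.card_map_of_injective H.subtype_injective, hM, hM', sq]
    · rw [show (2 + 1) = 3 from rfl, hV3, hV2, Subgroup.card_map_of_injective H.subtype_injective, hM, hcard,
        pow_succ' p 2]
  refine hcH (mem_of_chain hS hH.1 (radical_of_essential hS hH) V 2 hV0 (fun x hx => hx) ?_ hcN ?_)
  · intro γ _ i x hx hxV
    rw [autFun_apply γ hx]
    exact hVinv γ i x hx hxV
  intro i hi x hx hxV
  haveI := hVn i
  have hle' : V i ≤ V (i + 1) := by
    interval_cases i
    · exact bot_le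
    · exact map_mono hle
    · exact map_subtype_le _
  have h := @stab_of_card p _ ↥N _ _ hNp _ _ (hVn i) (hVn (i + 1)) (Subgroup.comap_mono hle') (hcards i hi)
    ⟨x, hHN hx⟩ hxV ⟨c, hcN⟩
  exact h

/-- Characteristic chain from a nontrivial power endomorphism. -/
theorem chain_of_powHom {K : Type*} [Group K] [Finite K] (hcard : Nat.card K = p ^ 3)
    (hmul : ∀ a b : K, (a * b) ^ p = a ^ p * b ^ p) (hexp : ∀ a : K, (a ^ p) ^ p = 1)
    {x : K} (hx : x ^ p ≠ 1) :
    ∃ M' M : Subgroup K, M' ≤ M ∧ Nat.card M' = p ∧ Nat.card M = p ^ 2 ∧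
      (∀ α : MulAut K, ∀ x ∈ M', α x ∈ M') ∧ (∀ α : MulAut K, ∀ x ∈ M, α x ∈ M) := by
  have hp := (Fact.out : p.Prime)
  let φ : K →* K := MonoidHom.mk' (fun a => a ^ p) hmul
  have hle : φ.range ≤ φ.ker := by
    rintro _ ⟨a, rfl⟩
    exact hexp a
  have hprod : Nat.card φ.ker * Nat.card φ.range = p ^ 3 := by
    rw [← Subgroup.index_ker, Subgroup.card_mul_index, hcard]
  obtain ⟨a, ha, hra⟩ := (Nat.dvd_prime_pow hp).1 (Dvd.intro_left _ hprod)
  obtain ⟨b, hb, hkb⟩ := (Nat.dvd_prime_pow hp).1 (Dvd.intro _ hprod)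
  rw [hra, hkb, ← pow_add] at hprod
  have hab := Nat.pow_right_injective hp.two_le hprod
  have hle' : p ^ a ≤ p ^ b := by rw [← hra, ← hkb]; exact Subgroup.card_le_of_le hle
  have hab' := (Nat.pow_le_pow_iff_right hp.one_lt).1 hle'
  have ha0 : a ≠ 0 := by
    rintro rfl
    rw [pow_zero, Subgroup.card_eq_one] at hra
    exact hx (Subgroup.mem_bot.1 (hra ▸ (⟨x, rfl⟩ : x ^ p ∈ φ.range)))
  obtain rfl : a = 1 := by omega
  obtain rfl : b = 2 := by omega
  refine ⟨φ.range, φ.ker, hle, by rw [hra, pow_one], hkb, ?_, ?_⟩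
  · rintro α _ ⟨y, rfl⟩
    exact ⟨α y, (map_pow α y p).symm⟩
  · intro α y hy
    show α y ^ p = 1
    rw [← map_pow, show y ^ p = 1 from hy, map_one]

/-- Characteristic chain in a cyclic group of order `p ^ 3`. -/
theorem chain_of_cyclic {K : Type*} [Group K] [Finite K] (hcard : Nat.card K = p ^ 3)
    {x : K} (hx : x ^ p ^ 2 ≠ 1) :
    ∃ M' M : Subgroup K, M' ≤ M ∧ Nat.card M' = p ∧ Nat.card M = p ^ 2 ∧
      (∀ α : MulAut K, ∀ x ∈ M', α x ∈ M') ∧ (∀ α : MulAut K, ∀ x ∈ M, α x ∈ M) := by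
  have hp := (Fact.out : p.Prime)
  obtain ⟨k, hk, hok⟩ := (Nat.dvd_prime_pow hp).1 (hcard ▸ orderOf_dvd_natCard x)
  have hk3 : k = 3 := by
    by_contra h
    exact hx (orderOf_dvd_iff_pow_eq_one.1 (hok ▸ pow_dvd_pow p (by omega)))
  subst hk3
  have htop : zpowers x = ⊤ := Subgroup.eq_top_of_card_eq _ (by rw [Nat.card_zpowers, hok, hcard])
  have hinv : ∀ (n : ℕ) (α : MulAut K), ∀ y ∈ zpowers (x ^ n), α y ∈ zpowers (x ^ n) := by
    intro n α y hy
    obtain ⟨i, rfl⟩ := mem_zpowers_iff.1 hy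
    obtain ⟨j, hj⟩ := mem_zpowers_iff.1 (htop ▸ mem_top (α x) : α x ∈ zpowers x)
    refine mem_zpowers_iff.2 ⟨j * i, ?_⟩
    rw [map_zpow, map_pow, ← hj, ← zpow_natCast, ← zpow_natCast, ← zpow_mul, ← zpow_mul, ← zpow_mul]
    congr 1
    ring
  refine ⟨zpowers (x ^ p ^ 2), zpowers (x ^ p), ?_, ?_, ?_, hinv _, hinv _⟩
  · rw [zpowers_le, sq, pow_mul]
    exact pow_mem (mem_zpowers _) _
  · rw [Nat.card_zpowers, orderOf_pow' x (pow_ne_zero 2 hp.ne_zero), hok,
      Nat.gcd_eq_right (pow_dvd_pow p (by omega)), Nat.pow_div (by omega) hp.pos, pow_one]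
  · rw [Nat.card_zpowers, orderOf_pow' x hp.ne_zero, hok, Nat.gcd_eq_right (dvd_pow_self p (by omega)),
      show p ^ 3 = p ^ 2 * p from pow_succ p 2, Nat.mul_div_cancel _ hp.pos]

/-- In a nonabelian group of order `p ^ 3` commutators are central of order dividing `p`. -/
theorem commutator_central {K : Type*} [Group K] [Finite K] (hcard : Nat.card K = p ^ 3)
    (hnc : ¬ ∀ a b : K, a * b = b * a) :
    ∀ a b : K, ⁅a, b⁆ ∈ center K ∧ ⁅a, b⁆ ^ p = 1 := by
  have hp := (Fact.out : p.Prime)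
  have hK : IsPGroup p K := IsPGroup.of_card hcard
  haveI : Nontrivial K := Finite.one_lt_card_iff_nontrivial.1 (hcard ▸ Nat.one_lt_pow (by omega) hp.one_lt)
  obtain ⟨k, hk, hZ⟩ := (Nat.dvd_prime_pow hp).1 (hcard ▸ Subgroup.card_subgroup_dvd_card (center K))
  have hk0 : k ≠ 0 := by
    rintro rfl
    haveI := hK.center_nontrivial
    have := Finite.one_lt_card_iff_nontrivial.2 (inferInstance : Nontrivial (center K))
    rw [hZ, pow_zero] at this
    omega
  have hidx : Nat.card (K ⧸ center K) = p ^ (3 - k) := by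
    have h1 := (center K).card_mul_index
    rw [hZ, hcard, Subgroup.index_eq_card] at h1
    rw [← Nat.pow_div hk hp.pos, ← h1, Nat.mul_div_cancel_left _ (pow_pos hp.pos k)]
  have hk1 : k = 1 := by
    by_contra hne
    haveI : IsCyclic (K ⧸ center K) := by
      rcases Nat.lt_or_ge k 3 with h | h
      · exact isCyclic_of_prime_card (p := p) (by rw [hidx, show 3 - k = 1 by omega, pow_one])
      · haveI : Subsingleton (K ⧸ center K) := (Nat.card_eq_one_iff_unique.1 (by
          rw [hidx, show 3 - k = 0 by omega, pow_zero])).1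
        infer_instance
    letI := commGroupOfCyclicCenterQuotient (QuotientGroup.mk' (center K)) (by rw [QuotientGroup.ker_mk'])
    exact hnc fun a b => mul_comm a b
  subst hk1
  intro a b
  have hq := IsPGroup.commutative_of_card_eq_prime_sq (p := p) (G := K ⧸ center K) hidx
  have hm : ⁅a, b⁆ ∈ center K := by
    rw [← QuotientGroup.eq_one_iff]
    show QuotientGroup.mk' (center K) ⁅a, b⁆ = 1
    rw [map_commutatorElement]
    exact commutatorElement_eq_one_iff_mul_comm.2 (hq _ _)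
  refine ⟨hm, ?_⟩
  have h2 : (⟨_, hm⟩ : center K) ^ p = 1 := by
    have := pow_card_eq_one' (x := (⟨_, hm⟩ : center K))
    rwa [hZ, pow_one] at this
  exact congrArg Subtype.val h2

/-- A nonabelian group of order 8 has a characteristic chain or is quaternion. -/
theorem chain_or_quaternion {K : Type*} [Group K] [Finite K] (hcard : Nat.card K = 8)
    (hnc : ¬ ∀ a b : K, a * b = b * a) :
    (∃ M' M : Subgroup K, M' ≤ M ∧ Nat.card M' = 2 ∧ Nat.card M = 2 ^ 2 ∧
      (∀ α : MulAut K, ∀ x ∈ M', α x ∈ M') ∧ (∀ α : MulAut K, ∀ x ∈ M, α x ∈ M)) ∨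
    Nonempty (K ≃* QuaternionGroup 2) := by
  obtain ⟨a, ha2⟩ : ∃ a : K, a ^ 2 ≠ 1 := by
    by_contra hno
    push Not at hno
    refine hnc fun a b => ?_
    have hi : ∀ a : K, a⁻¹ = a := fun a => inv_eq_of_mul_eq_one_right (by rw [← sq]; exact hno a)
    have := hi (a * b)
    rw [mul_inv_rev, hi, hi] at this
    exact this.symm
  have hnot8 : ∀ y : K, orderOf y ≠ 8 := fun y hy => hnc fun u v => by
    haveI : IsCyclic K := isCyclic_of_orderOf_eq_card y (by rw [hy, hcard])
    letI := IsCyclic.commGroup (α := K)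
    exact mul_comm u v
  have h4of : ∀ y : K, y ^ 2 ≠ 1 → orderOf y = 4 := fun y hy => by
    have h1 := hnot8 y
    have h2 : orderOf y ∣ 8 := hcard ▸ orderOf_dvd_natCard y
    have h3 : ¬ orderOf y ∣ 2 := fun h => hy (orderOf_dvd_iff_pow_eq_one.1 h)
    have h4 := Nat.le_of_dvd (by norm_num) h2
    interval_cases h : orderOf y <;> simp_all
  have ha4 := h4of a ha2
  have hidx : (zpowers a).index = 2 := by
    have h := (zpowers a).card_mul_index
    rw [Nat.card_zpowers, ha4, hcard] at h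
    omega
  by_cases hb : ∃ b ∉ zpowers a, b ^ 2 ≠ 1
  · right
    obtain ⟨b, hbA, hb2⟩ := hb
    have hb4 := h4of b hb2
    haveI := Subgroup.normal_of_index_eq_two hidx
    have hmem : ∀ y ∈ zpowers a, y = 1 ∨ y = a ∨ y = a ^ 2 ∨ y = a⁻¹ := by
      intro y hy
      obtain ⟨i, rfl⟩ := mem_zpowers_iff.1 hy
      rw [zpow_eq_zpow_emod' i (n := 4) (by rw [← ha4, pow_orderOf_eq_one])]
      have h0 := Int.emod_nonneg i (show (4 : ℤ) ≠ 0 by norm_num)
      have h1 := Int.emod_lt_of_pos i (show (0 : ℤ) < 4 by norm_num)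
      interval_cases h : i % (4 : ℤ)
      · simp
      · simp
      · exact Or.inr (Or.inr (Or.inl (zpow_natCast a 2)))
      · refine Or.inr (Or.inr (Or.inr (eq_inv_of_mul_eq_one_left ?_)))
        rw [← zpow_add_one, show (3 : ℤ) + 1 = ((4 : ℕ) : ℤ) from rfl, zpow_natCast, ← ha4,
          pow_orderOf_eq_one]
    have hb2A : b * b ∈ zpowers a := Subgroup.mul_self_mem_of_index_two hidx b
    have hb44 : b ^ 4 = 1 := by rw [← hb4, pow_orderOf_eq_one]
    have hbb : b * b = a ^ 2 := by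
      have hne1 : b * b ≠ 1 := fun h => hb2 (by rw [sq]; exact h)
      have hsq : (b * b) ^ 2 = 1 := by rw [← sq b, ← pow_mul]; exact hb44
      rcases hmem _ hb2A with h | h | h | h
      · exact absurd h hne1
      · rw [h] at hsq; exact absurd hsq ha2
      · exact h
      · rw [h, inv_pow, inv_eq_one] at hsq; exact absurd hsq ha2
    have htop : closure ({a, b} : Set K) = ⊤ := by
      have hle : zpowers a ≤ closure ({a, b} : Set K) := by
        rw [zpowers_le]; exact subset_closure (by simp)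
      have hlt : zpowers a < closure ({a, b} : Set K) :=
        lt_of_le_of_ne hle fun e => hbA (by rw [e]; exact subset_closure (by simp))
      refine Subgroup.index_eq_one.1 ?_
      have hd := Subgroup.relIndex_mul_index hle
      rw [hidx] at hd
      rcases (Nat.dvd_prime Nat.prime_two).1 (Dvd.intro_left _ hd) with h | h
      · exact h
      · rw [h] at hd
        have : (zpowers a).relIndex (closure ({a, b} : Set K)) = 1 := by omega
        exact absurd (Subgroup.relIndex_eq_one.1 this) hlt.not_ge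
    have hba : b * a * b⁻¹ = a⁻¹ := by
      have hm := Subgroup.Normal.conj_mem inferInstance a (mem_zpowers a) b
      have ho : orderOf (b * a * b⁻¹) = 4 := by
        rw [← MulAut.conj_apply]
        exact ((MulAut.conj b).orderOf_eq a).trans ha4
      rcases hmem _ hm with h | h | h | h
      · rw [h, orderOf_one] at ho; omega
      · exfalso
        have hc : Commute b a := by
          show b * a = a * b
          exact (mul_inv_eq_iff_eq_mul).1 h
        refine hnc fun u v => ?_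
        haveI := Subgroup.isMulCommutative_closure (k := ({a, b} : Set K)) (by
          intro x hx y hy
          simp only [Set.mem_insert_iff, Set.mem_singleton_iff] at hx hy
          rcases hx with rfl | rfl <;> rcases hy with rfl | rfl
          exacts [rfl, hc.symm.eq, hc.eq, rfl])
        exact congrArg Subtype.val (mul_comm' (⟨u, htop ▸ mem_top u⟩ : closure ({a, b} : Set K))
          ⟨v, htop ▸ mem_top v⟩)
      · rw [h, orderOf_pow' a two_ne_zero, ha4] at ho; norm_num at ho
      · exact h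
    obtain ⟨e⟩ := Cfsg.Lib.TwoFus.nonempty_quaternion (m := 2) ha4 hbb hba hbA
    rw [htop] at e
    exact ⟨Subgroup.topEquiv.symm.trans e⟩
  · left
    push Not at hb
    have hinv : ∀ α : MulAut K, α a ∈ zpowers a := fun α => by
      by_contra h
      exact ha2 (α.injective (by rw [map_pow, hb _ h, map_one]))
    refine ⟨zpowers (a ^ 2), zpowers a, ?_, ?_, ?_, ?_, ?_⟩
    · rw [zpowers_le]; exact pow_mem (mem_zpowers a) 2
    · rw [Nat.card_zpowers, orderOf_pow' a two_ne_zero, ha4]; rfl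
    · rw [Nat.card_zpowers, ha4]; rfl
    · intro α y hy
      obtain ⟨i, rfl⟩ := mem_zpowers_iff.1 hy
      obtain ⟨j, hj⟩ := mem_zpowers_iff.1 (hinv α)
      refine mem_zpowers_iff.2 ⟨j * i, ?_⟩
      rw [map_zpow, map_pow, ← hj, ← zpow_natCast, ← zpow_natCast, ← zpow_mul, ← zpow_mul, ← zpow_mul]
      congr 1
      ring
    · intro α y hy
      obtain ⟨i, rfl⟩ := mem_zpowers_iff.1 hy
      rw [map_zpow]
      exact zpow_mem (hinv α) i

/-- An essential subgroup of order `p ^ 3` is elementary abelian, extraspecial of exponent `p` or quaternion. -/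
theorem main (hS : IsPGroup p S) (hF : F.IsSaturated p) (hH : F.IsEssential p H) (hcard : Nat.card H = p ^ 3) :
    Cfsg.IsElementaryAbelian p H ∨ (Odd p ∧ Cfsg.IsExtraspecial p ↥H ∧ ∀ x ∈ H, x ^ p = 1) ∨
      (p = 2 ∧ Nonempty (↥H ≃* QuaternionGroup 2)) := by
  have hp := (Fact.out : p.Prime)
  haveI : Finite ↥H := finite_of_le hH.1.1
  have hfalse : ¬ ∃ M' M : Subgroup ↥H, M' ≤ M ∧ Nat.card M' = p ∧ Nat.card M = p ^ 2 ∧
      (∀ α : MulAut ↥H, ∀ x ∈ M', α x ∈ M') ∧ (∀ α : MulAut ↥H, ∀ x ∈ M, α x ∈ M) := by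
    rintro ⟨M', M, h1, h2, h3, h4, h5⟩
    exact false_of_char_chain hS hF hH hcard h1 h2 h3 h4 h5
  by_cases hab : ∀ a b : ↥H, a * b = b * a
  · left
    refine ⟨⟨⟨hab⟩⟩, fun x hx => ?_⟩
    by_contra hne
    have hne' : (⟨x, hx⟩ : ↥H) ^ p ≠ 1 := fun h => hne (congrArg Subtype.val h)
    by_cases he : ∀ a : ↥H, (a ^ p) ^ p = 1
    · exact hfalse (chain_of_powHom hcard (fun a b => Commute.mul_pow (hab a b) p) he hne')
    · push Not at he
      obtain ⟨a, ha⟩ := he
      exact hfalse (chain_of_cyclic hcard (x := a) (by rwa [sq, pow_mul]))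
  by_cases hp2 : p = 2
  · subst hp2
    rcases chain_or_quaternion hcard hab with h | h
    · exact absurd h hfalse
    · exact Or.inr (Or.inr ⟨rfl, h⟩)
  by_cases hexp : ∀ x : ↥H, x ^ p = 1
  · exact Or.inr (Or.inl ⟨hp.odd_of_ne_two hp2, Cfsg.Lib.QdSylow.extraspecial_of hcard hexp hab,
      fun x hx => congrArg Subtype.val (hexp ⟨x, hx⟩)⟩)
  exfalso
  push Not at hexp
  obtain ⟨x, hx⟩ := hexp
  have hc := commutator_central hcard hab
  have hmul : ∀ a b : ↥H, (a * b) ^ p = a ^ p * b ^ p := by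
    intro a b
    obtain ⟨hm, hpow⟩ := hc b⁻¹ a⁻¹
    have h := Cfsg.Lib.Transfer.mul_pow_class_two (x := a) (y := b) (c := ⁅b⁻¹, a⁻¹⁆)
      (by rw [commutatorElement_def]; group) (mem_center_iff.1 hm a).symm (mem_center_iff.1 hm b).symm p
    obtain ⟨d, hd⟩ := Nat.Prime.dvd_choose_self hp two_ne_zero (lt_of_le_of_ne hp.two_le (Ne.symm hp2))
    rwa [hd, pow_mul, hpow, one_pow, mul_one] at h
  by_cases he : ∀ a : ↥H, (a ^ p) ^ p = 1
  · exact hfalse (chain_of_powHom hcard hmul he hx)
  · push Not at he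
    obtain ⟨a, ha⟩ := he
    exact hfalse (chain_of_cyclic hcard (x := a) (by rwa [sq, pow_mul]))

end Cfsg.Lib.Fusion.OrderPCubed
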