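import Mathlib
import Cfsg.Prelude.Def_FusionSystem
import Cfsg.Prelude.Def_Transfer
import Cfsg.Agent.Lib.Fusion.OrderPCubed
import Cfsg.Agent.Lib.Solv.PGroupBasic
import Cfsg.Agent.Lib.Transfer.Critical
import Cfsg.Agent.Lib.PLocal.NarrowOdd

/-!
Abelian essential subgroups with two generators.
-/

set_option autoImplicit false
set_option linter.style.haveILetI false

open scoped Classical
open Subgroup

namespace Cfsg.Lib.Fusion.RankTwoEssential

open Cfsg Cfsg.FusionSystem Cfsg.Lib.Fusion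

/-- The `p^j`-th powers. -/
def pw (K : Type*) [CommGroup K] (p j : ℕ) : Subgroup K := (powMonoidHom (p ^ j) : K →* K).range

variable {p : ℕ} [Fact p.Prime]

theorem pw_succ_le {K : Type*} [CommGroup K] (j : ℕ) : pw K p (j + 1) ≤ pw K p j := by
  rintro _ ⟨a, rfl⟩
  exact ⟨a ^ p, by simp only [powMonoidHom_apply, ← pow_mul, pow_succ']⟩

theorem map_mem_pw {K : Type*} [CommGroup K] (α : MulAut K) {j : ℕ} {y : K} (hy : y ∈ pw K p j) :
    α y ∈ pw K p j := by
  obtain ⟨a, rfl⟩ := hy
  exact ⟨α a, (map_pow α a _).symm⟩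

/-- An automorphism of `p`-th power one trivial modulo `Φ` twice is trivial modulo `Φ`. -/
theorem mem_frattini_of_unipotent {K : Type*} [CommGroup K] (hp5 : 5 ≤ p) (u : MulAut K) (hu : u ^ p = 1)
    (h2 : ∀ x : K, u (u x / x) / (u x / x) ∈ pw K p 1)
    (hΩ : ∀ x : K, x ^ p = 1 → x ∈ pw K p 1) (x : K) : u x / x ∈ pw K p 1 := by
  let D : K →* K := MonoidHom.mk' (fun y => u y / y) (fun a b => by
    simp only [map_mul, mul_div_mul_comm])
  have hDval : ∀ y : K, D y = u y / y := fun y => rfl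
  have huD : ∀ y : K, u y = y * D y := fun y => by rw [hDval, mul_div_cancel]
  have hD2 : ∀ y : K, D (D y) ∈ pw K p 1 := h2
  have hD4 : ∀ y : K, D (D (D (D y))) ∈ pw K p 2 := by
    intro y
    obtain ⟨a, ha⟩ := hD2 y
    rw [← ha, powMonoidHom_apply, map_pow, map_pow]
    obtain ⟨b, hb⟩ := hD2 a
    rw [← hb, powMonoidHom_apply, ← pow_mul, ← pow_add]
    exact ⟨b, rfl⟩
  have hmem : ∀ (m : ℕ) (y : K), y ∈ pw K p 2 → y ^ m ∈ pw K p 2 := fun m y hy => pow_mem hy m
  have key : ∀ n : ℕ, ((u ^ n) x)⁻¹ *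
      (x * D x ^ n * D (D x) ^ n.choose 2 * D (D (D x)) ^ n.choose 3) ∈ pw K p 2 := by
    intro n
    induction n with
    | zero => simp
    | succ n ih =>
      have h := map_mem_pw u ih
      simp only [map_mul, map_inv, map_pow] at h
      rw [pow_succ', MulAut.mul_apply]
      rw [huD x, huD (D x), huD (D (D x)), huD (D (D (D x)))] at h
      have h' := Subgroup.mul_mem _ h (inv_mem (hmem (n.choose 3) _ (hD4 x)))
      have e2 : (n + 1).choose 2 = n + n.choose 2 := by rw [Nat.choose_succ_succ', Nat.choose_one_right]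
      have e3 : (n + 1).choose 3 = n.choose 2 + n.choose 3 := by rw [Nat.choose_succ_succ']
      have heq : x * D x * (D x * D (D x)) ^ n * (D (D x) * D (D (D x))) ^ n.choose 2 *
            (D (D (D x)) * D (D (D (D x)))) ^ n.choose 3 =
          x * D x ^ (n + 1) * D (D x) ^ (n + 1).choose 2 * D (D (D x)) ^ (n + 1).choose 3 *
            D (D (D (D x))) ^ n.choose 3 := by
        rw [e2, e3]
        simp only [mul_pow, pow_add, pow_one]
        ac_rfl
      rw [heq, ← mul_assoc, mul_inv_cancel_right] at h'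
      exact h'
  have hp := (Fact.out : p.Prime)
  obtain ⟨c2, hc2⟩ := hp.dvd_choose_self (k := 2) two_ne_zero (by omega)
  obtain ⟨c3, hc3⟩ := hp.dvd_choose_self (k := 3) (by norm_num) (by omega)
  have hsq : ∀ y ∈ pw K p 1, ∀ m : ℕ, y ^ (p * m) ∈ pw K p 2 := by
    rintro _ ⟨a, rfl⟩ m
    exact ⟨a ^ m, by simp only [powMonoidHom_apply, ← pow_mul]; ring_nf⟩
  have hD3 : D (D (D x)) ∈ pw K p 1 := hD2 (D x)
  have h := key p
  rw [hu, MulAut.one_apply, mul_assoc x, mul_assoc x, inv_mul_cancel_left, hc2, hc3] at h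
  have h1 := Subgroup.mul_mem _ (Subgroup.mul_mem _ h (inv_mem (hsq _ hD3 c3))) (inv_mem (hsq _ (hD2 x) c2))
  rw [mul_inv_cancel_right, mul_inv_cancel_right] at h1
  obtain ⟨a, ha⟩ := h1
  have h3 : (D x / a ^ p) ^ p = 1 := by
    rw [div_pow, ← pow_mul, ← sq, show a ^ p ^ 2 = D x ^ p from ha, div_self']
  have h4 := Subgroup.mul_mem _ (hΩ _ h3) (show a ^ p ∈ pw K p 1 from ⟨a, by simp⟩)
  rwa [div_mul_cancel] at h4

/-- A homocyclic group of rank two. -/
theorem exists_equiv {K : Type*} [CommGroup K] [Finite K] (hK : IsPGroup p K) {e : ℕ}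
    (hcard : Nat.card K = (p ^ e) ^ 2) (hexp : ∀ x : K, x ^ p ^ e = 1)
    (hfr : frattini K = pw K p 1) (hidx : Nat.card K = p ^ 2 * Nat.card (pw K p 1)) :
    Nonempty (K ≃* Multiplicative (ZMod (p ^ e) × ZMod (p ^ e))) := by
  have hp := (Fact.out : p.Prime)
  haveI : NeZero (p ^ e) := ⟨pow_ne_zero e hp.ne_zero⟩
  set Φ := pw K p 1
  have hpos : 0 < Nat.card Φ := Nat.card_pos
  obtain ⟨x, -, hx⟩ : ∃ x ∈ (⊤ : Subgroup K), x ∉ Φ := by
    refine (SetLike.lt_iff_le_and_exists.1 (lt_top_iff_ne_top.2 fun h => ?_)).2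
    rw [h, card_top] at hidx
    have := Nat.card_pos (α := K)
    have := Nat.one_lt_pow (two_ne_zero) hp.one_lt
    nlinarith
  set X := Φ ⊔ zpowers x
  obtain ⟨y, hy⟩ : ∃ y, y ∉ X := by
    by_contra h
    push Not at h
    have hple : Nat.card X ≤ p * Nat.card Φ := by
      have h1 := Subgroup.relIndex_sup_left (H := zpowers x) (K := Φ)
      have h2 := Subgroup.relIndex_mul_index (H := Φ) (le_top : Φ ≤ ⊤)
      have hxp : x ^ p ∈ Φ := ⟨x, by simp⟩
      have h3 : Φ.relIndex (zpowers x) ≤ p := by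
        have : Φ.relIndex (zpowers x) ∣ p := by
          rw [Subgroup.relIndex, Subgroup.index_eq_card]
          haveI : IsCyclic (↥(zpowers x) ⧸ Φ.subgroupOf (zpowers x)) :=
            isCyclic_of_surjective (QuotientGroup.mk' _) (QuotientGroup.mk'_surjective _)
          rw [← IsCyclic.exponent_eq_card]
          refine Monoid.exponent_dvd_of_forall_pow_eq_one fun g => ?_
          induction g using QuotientGroup.induction_on with
          | H z =>
            rw [← QuotientGroup.mk_pow, QuotientGroup.eq_one_iff, mem_subgroupOf]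
            obtain ⟨i, hi⟩ := mem_zpowers_iff.1 z.2
            rw [SubmonoidClass.coe_pow, ← hi, ← zpow_natCast, ← zpow_mul, mul_comm, zpow_mul, zpow_natCast]
            exact zpow_mem hxp i
        exact Nat.le_of_dvd hp.pos this
      have h4 := Subgroup.card_mul_index (Φ.subgroupOf X)
      rw [Nat.card_congr (Subgroup.subgroupOfEquivOfLe (le_sup_left : Φ ≤ X)).toEquiv] at h4
      change _ * Φ.relIndex X = _ at h4
      rw [h1] at h4
      rw [← h4, mul_comm]
      exact Nat.mul_le_mul_right _ h3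
    have hXtop : X = ⊤ := eq_top_iff.2 fun z _ => h z
    rw [hXtop, card_top, hidx, sq, mul_assoc] at hple
    have := hp.two_le
    have : 0 < p * Nat.card Φ := Nat.mul_pos hp.pos hpos
    nlinarith
  have hgen : closure ({x, y} : Set K) = ⊤ := by
    apply frattini_nongenerating
    rw [hfr]
    have hX : X < closure ({x, y} : Set K) ⊔ Φ := by
      refine lt_of_le_of_ne (sup_le le_sup_right (le_sup_of_le_left (zpowers_le.2 (subset_closure (by simp))))) ?_
      intro he
      exact hy (by rw [he]; exact mem_sup_left (subset_closure (by simp)))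
    have hΦX : Φ < X := lt_of_le_of_ne le_sup_left fun he => hx (by rw [he]; exact mem_sup_right (mem_zpowers x))
    have h1 := NarrowOdd.card_mul_le_of_lt hK hΦX
    have h2 := NarrowOdd.card_mul_le_of_lt hK hX
    refine eq_top_of_le_card _ ?_
    calc Nat.card K = p * (p * Nat.card Φ) := by rw [hidx]; ring
      _ ≤ p * Nat.card X := Nat.mul_le_mul_left _ h1
      _ ≤ _ := h2
  let fx : Multiplicative (ZMod (p ^ e)) →* K :=
    MonoidHom.mk' (fun a => x ^ (Multiplicative.toAdd a).val) fun a b => by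
      rw [← pow_add, toAdd_mul, ZMod.val_add]
      exact (pow_eq_pow_mod _ (hexp x)).symm
  let fy : Multiplicative (ZMod (p ^ e)) →* K :=
    MonoidHom.mk' (fun a => y ^ (Multiplicative.toAdd a).val) fun a b => by
      rw [← pow_add, toAdd_mul, ZMod.val_add]
      exact (pow_eq_pow_mod _ (hexp y)).symm
  let f : Multiplicative (ZMod (p ^ e) × ZMod (p ^ e)) →* K :=
    (fx.coprod fy).comp (MulEquiv.prodMultiplicative _ _).toMonoidHom
  have hsurj : Function.Surjective f := by
    rw [← MonoidHom.range_eq_top, eq_top_iff, ← hgen, closure_le]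
    intro z hz
    rcases Nat.eq_zero_or_pos e with he | he
    · subst he
      refine ⟨1, ?_⟩
      have := hexp z
      rw [pow_zero, pow_one] at this
      rw [map_one, this]
    haveI : Fact (1 < p ^ e) := ⟨Nat.one_lt_pow (by omega) hp.one_lt⟩
    rcases hz with rfl | rfl
    · exact ⟨Multiplicative.ofAdd (1, 0), by simp [f, fx, fy, MulEquiv.prodMultiplicative, ZMod.val_one]⟩
    · exact ⟨Multiplicative.ofAdd (0, 1), by simp [f, fx, fy, MulEquiv.prodMultiplicative, ZMod.val_one]⟩
  have hbij : Function.Bijective f := (Nat.bijective_iff_surjective_and_card f).2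
    ⟨hsurj, by rw [hcard, Nat.card_congr Multiplicative.toAdd, Nat.card_prod, Nat.card_zmod, sq]⟩
  exact ⟨(MulEquiv.ofBijective f hbij).symm⟩

variable {Ω : Type*} [Group Ω] {S : Subgroup Ω} [Finite S] {F : Cfsg.FusionSystem S} {H : Subgroup Ω}

theorem main (hS : IsPGroup p S) (hF : F.IsSaturated p) (hH : F.IsEssential p H)
    (hab : IsMulCommutative ↥H) (hrk : (frattini ↥H).index ≤ p ^ 2) :
    (Cfsg.IsElementaryAbelian p H ∧ Nat.card H = p ^ 2) ∨
      (p ≤ 3 ∧ ∃ k : ℕ, Nonempty (↥H ≃* Multiplicative (ZMod (p ^ k) × ZMod (p ^ k)))) := by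
  have hp := (Fact.out : p.Prime)
  haveI : Finite ↥H := finite_of_le hH.1.1
  letI : CommGroup ↥H := { (inferInstance : Group ↥H) with mul_comm := hab.is_comm.comm }
  have hHp : IsPGroup p ↥H := isPGroup_of_le hS hH.1.1
  set R := fun j => pw ↥H p j with hRdef
  have hfr : frattini ↥H = R 1 := by
    refine le_antisymm (Cfsg.Lib.Transfer.frattini_le_of_quotient (p := p) ?_ fun x => ⟨x, by simp⟩) ?_
    · rw [_root_.commutator_def, commutator_le]
      intro a _ b _
      rw [commutatorElement_eq_one_iff_mul_comm.2 (mul_comm a b)]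
      exact one_mem _
    · rintro _ ⟨a, rfl⟩
      rw [powMonoidHom_apply, pow_one]
      exact Cfsg.Lib.Solv.pow_mem_frattini hHp a
  -- the normalizing element
  have hlt := lt_top_of_essential hS hF hH
  haveI : Finite ↥(normalizerIn S H) := finite_of_le normalizerIn_le
  set N := normalizerIn S H with hNdef
  have hHN : H ≤ N := le_normalizerIn hH.1.1
  have hNp : IsPGroup p ↥N := isPGroup_of_le hS normalizerIn_le
  haveI hHn : (H.subgroupOf N).Normal :=
    ⟨fun x hx g => Subgroup.mem_subgroupOf.2 (conj_mem_of_mem_normalizerIn (S := S) (P := H) (c := (g : Ω)) g.2 hx)⟩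
  obtain ⟨c, hcH, hcp⟩ : ∃ c : ↥N, (c : Ω) ∉ H ∧ (c : Ω) ^ p ∈ H := by
    obtain ⟨-, d, hdN, hdH⟩ := SetLike.lt_iff_le_and_exists.1 (normalizer_growth hS le_rfl hlt)
    obtain ⟨m, hm⟩ := hNp ⟨d, hdN⟩
    have hm' : d ^ p ^ m = 1 := congrArg Subtype.val hm
    have hex : ∃ i, d ^ p ^ i ∈ H := ⟨m, hm' ▸ one_mem H⟩
    have hi0 : Nat.find hex ≠ 0 := fun h => hdH (by simpa [h] using Nat.find_spec hex)
    obtain ⟨i, hi⟩ := Nat.exists_eq_succ_of_ne_zero hi0
    refine ⟨⟨d ^ p ^ i, pow_mem hdN _⟩, Nat.find_min hex (by omega), ?_⟩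
    show (d ^ p ^ i) ^ p ∈ H
    rw [← pow_mul, ← pow_succ]
    have := Nat.find_spec hex
    rwa [hi] at this
  let u : MulAut ↥H := conjAut S H ⟨c, c.2⟩
  have huval : ∀ x : ↥H, (u x : Ω) = c * x * (c : Ω)⁻¹ := fun x => by
    rw [← autFun_apply u x.2]
    exact autFun_conjAut _ x.2
  -- `u` stabilizes no invariant refinement of the power chain
  have hlayer : ∀ M : Subgroup ↥H, (∀ α : MulAut ↥H, ∀ y ∈ M, α y ∈ M) → (∀ y, u y / y ∈ M) →
      (∀ y ∈ M, u y / y ∈ R 1) → False := by
    intro M hMinv htop hMs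
    obtain ⟨m, hm⟩ := IsPGroup.iff_card.1 hHp
    let W : ℕ → Subgroup ↥H := fun k =>
      if k % 2 = 0 then R (k / 2) else M.map (powMonoidHom (p ^ (k / 2)))
    let V : ℕ → Subgroup Ω := fun i => (W (2 * m - i)).map H.subtype
    have hRm : R m = ⊥ := by
      rw [eq_bot_iff]
      rintro _ ⟨a, rfl⟩
      rw [powMonoidHom_apply, Subgroup.mem_bot, ← hm]
      exact pow_card_eq_one'
    have hR0 : R 0 = ⊤ := eq_top_iff.2 fun a _ => ⟨a, by simp⟩
    have hW0 : W 0 = ⊤ := by simp [W, hR0]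
    have hWinv : ∀ (α : MulAut ↥H) k, ∀ y ∈ W k, α y ∈ W k := by
      intro α k y hy
      simp only [W] at hy ⊢
      split_ifs at hy ⊢
      · exact map_mem_pw α hy
      · obtain ⟨a, ha, rfl⟩ := hy
        exact ⟨α a, hMinv α a ha, by simp⟩
    have hdiv : ∀ (a : ↥H) (n : ℕ), u (a ^ n) / a ^ n = (u a / a) ^ n := fun a n => by
      rw [map_pow, div_pow]
    have hstepW : ∀ k, ∀ y ∈ W k, u y / y ∈ W (k + 1) := by
      intro k y hy
      by_cases hk : k % 2 = 0
      · simp only [W, if_pos hk] at hy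
        simp only [W, if_neg (show ¬ (k + 1) % 2 = 0 by omega), show (k + 1) / 2 = k / 2 by omega]
        obtain ⟨a, rfl⟩ := hy
        exact ⟨_, htop a, (hdiv a _).symm⟩
      · simp only [W, if_neg hk] at hy
        simp only [W, if_pos (show (k + 1) % 2 = 0 by omega), show (k + 1) / 2 = k / 2 + 1 by omega]
        obtain ⟨a, ha, rfl⟩ := hy
        obtain ⟨b, hb⟩ := hMs a ha
        refine ⟨b, ?_⟩
        rw [powMonoidHom_apply, powMonoidHom_apply, hdiv, ← hb, powMonoidHom_apply, ← pow_mul, ← pow_add,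
          add_comm]
    apply hcH
    refine mem_of_chain hS hH.1 (radical_of_essential hS hH) V (2 * m) ?_ ?_ ?_ c.2 ?_
    · simp only [V, Nat.sub_zero, W]
      rw [if_pos (by omega), show 2 * m / 2 = m by omega, hRm, Subgroup.map_bot]
    · intro x hx
      show x ∈ (W (2 * m - (2 * m + 1))).map H.subtype
      rw [show 2 * m - (2 * m + 1) = 0 by omega, hW0]
      exact ⟨⟨x, hx⟩, mem_top _, rfl⟩
    · rintro γ - i x hx ⟨y, hy, rfl⟩
      exact ⟨γ y, hWinv γ _ y hy, (autFun_apply γ y.2).symm⟩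
    · rintro i hi x hx ⟨y, hy, rfl⟩
      show (y : Ω)⁻¹ * (c * y * (c : Ω)⁻¹) ∈ (W (2 * m - i)).map H.subtype
      rw [← huval]
      refine ⟨y⁻¹ * u y, ?_, rfl⟩
      rcases Nat.eq_or_lt_of_le hi with rfl | hlt'
      · rw [Nat.sub_self, hW0]; exact mem_top _
      have := hstepW _ y hy
      rw [show 2 * m - (i + 1) + 1 = 2 * m - i by omega] at this
      simpa only [SetLike.mem_coe, div_eq_mul_inv, mul_comm] using this
  have hmove : ¬ ∀ x : ↥H, u x / x ∈ R 1 := fun hall =>
    hlayer (R 1) (fun α y hy => map_mem_pw α hy) hall fun y _ => hall y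
  -- invariant subgroups with factors of order at most `p`
  have hstab : ∀ (A B : Subgroup ↥H), (∀ y ∈ A, u y ∈ A) → A ≤ B →
      ((A.map H.subtype).subgroupOf N).Normal → ((B.map H.subtype).subgroupOf N).Normal →
      Nat.card B = p * Nat.card A → ∀ y ∈ B, u y / y ∈ A := by
    intro A B _ hAB hA hB hcard y hy
    have hle : ∀ C : Subgroup ↥H, C.map H.subtype ≤ N := fun C => (map_subtype_le C).trans hHN
    have hc2 : Nat.card ((B.map H.subtype).subgroupOf N) = p * Nat.card ((A.map H.subtype).subgroupOf N) := by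
      rw [Nat.card_congr (Subgroup.subgroupOfEquivOfLe (hle B)).toEquiv,
        Nat.card_congr (Subgroup.subgroupOfEquivOfLe (hle A)).toEquiv,
        Subgroup.card_map_of_injective H.subtype_injective, Subgroup.card_map_of_injective H.subtype_injective, hcard]
    have h := @OrderPCubed.stab_of_card p _ ↥N _ _ hNp _ _ hA hB (Subgroup.comap_mono (map_mono hAB)) hc2
      ⟨(y : Ω), hHN y.2⟩ ⟨y, hy, rfl⟩ c
    obtain ⟨z, hz, hze⟩ := h
    have : z = u y / y := by
      rw [div_eq_mul_inv, mul_comm]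
      refine Subtype.ext (hze.trans ?_)
      show (y : Ω)⁻¹ * (c * y * (c : Ω)⁻¹) = _
      rw [← huval]
      rfl
    exact this ▸ hz
  have hcharN : ∀ C : Subgroup ↥H, (∀ α : MulAut ↥H, ∀ y ∈ C, α y ∈ C) → ((C.map H.subtype).subgroupOf N).Normal := by
    intro C hC
    refine ⟨?_⟩
    rintro x ⟨y, hy, hye⟩ g
    refine ⟨conjAut S H ⟨g, g.2⟩ y, hC _ y hy, ?_⟩
    show ((conjAut S H ⟨g, g.2⟩ y : ↥H) : Ω) = (g : Ω) * x * (g : Ω)⁻¹
    rw [← autFun_apply _ y.2, autFun_conjAut _ y.2, show (y : Ω) = (x : Ω) from hye]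
  have hRn := hcharN (R 1) fun α y hy => map_mem_pw α hy
  have hD : ∀ y z : ↥H, u (y * z) / (y * z) = (u y / y) * (u z / z) := fun y z => by
    rw [map_mul, mul_div_mul_comm]
  have hstep : Nat.card ↥H = p ^ 2 * Nat.card (R 1) → ∀ y : ↥H, u (u y / y) / (u y / y) ∈ R 1 := by
    intro hc
    set A := ((R 1).map H.subtype).subgroupOf N with hA
    haveI := hRn
    have hAH : A ≤ H.subgroupOf N := Subgroup.comap_mono (map_subtype_le _)
    set π := QuotientGroup.mk' A
    haveI : ((H.subgroupOf N).map π).Normal := hHn.map π (QuotientGroup.mk'_surjective A)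
    have hne : (H.subgroupOf N).map π ≠ ⊥ := by
      intro h
      rw [Subgroup.map_eq_bot_iff, QuotientGroup.ker_mk'] at h
      have h1 := Subgroup.card_le_of_le h
      rw [Nat.card_congr (Subgroup.subgroupOfEquivOfLe hHN).toEquiv, hA,
        Nat.card_congr (Subgroup.subgroupOfEquivOfLe ((map_subtype_le _).trans hHN)).toEquiv,
        Subgroup.card_map_of_injective H.subtype_injective, hc] at h1
      have := Nat.one_lt_pow two_ne_zero hp.one_lt
      have := Nat.card_pos (α := R 1)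
      nlinarith
    obtain ⟨⟨z, hz⟩, hz1⟩ := Subgroup.ne_bot_iff_exists_ne_one.1
      (Cfsg.Lib.Transfer.inf_center_ne_bot (hNp.to_quotient A) _ hne)
    replace hz1 : z ≠ 1 := fun h => hz1 (Subtype.ext h)
    obtain ⟨⟨w, hw, rfl⟩, hzc⟩ := Subgroup.mem_inf.1 hz
    set y₀ : ↥H := ⟨(w : Ω), hw⟩ with hy₀
    set B := R 1 ⊔ zpowers y₀ with hB
    have hy₀R : y₀ ∉ R 1 := fun h => hz1 ((QuotientGroup.eq_one_iff w).2 ⟨y₀, h, rfl⟩)
    have hconj : ∀ g : ↥N, ∀ y : ↥H, y ∈ B → conjAut S H ⟨g, g.2⟩ y ∈ B := by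
      intro g y hy
      set v : MulAut ↥H := conjAut S H ⟨g, g.2⟩
      refine (show B ≤ B.comap v.toMonoidHom from sup_le (fun r hr => mem_sup_left (map_mem_pw v hr))
        (zpowers_le.2 ?_)) hy
      have h1 : π (g * w * g⁻¹) = π w := by
        rw [map_mul, map_mul, map_inv, mem_center_iff.1 hzc (π g), mul_inv_cancel_right]
      obtain ⟨r, hr, hre⟩ := (QuotientGroup.eq (s := A)).1 h1.symm
      show v y₀ ∈ B
      have : v y₀ = y₀ * r := Subtype.ext (by
        show ((v y₀ : ↥H) : Ω) = (w : Ω) * r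
        rw [← autFun_apply v y₀.2, autFun_conjAut _ y₀.2]
        show (g : Ω) * w * (g : Ω)⁻¹ = (w : Ω) * r
        rw [show (r : Ω) = ((w⁻¹ * (g * w * g⁻¹) : ↥N) : Ω) from hre]
        simp only [Subgroup.coe_mul, Subgroup.coe_inv]
        group)
      rw [this]
      exact mul_mem (mem_sup_right (mem_zpowers _)) (mem_sup_left hr)
    have hBn : ((B.map H.subtype).subgroupOf N).Normal := ⟨by
      rintro x ⟨y, hy, hye⟩ g
      refine ⟨_, hconj g y hy, ?_⟩
      show ((conjAut S H ⟨g, g.2⟩ y : ↥H) : Ω) = (g : Ω) * x * (g : Ω)⁻¹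
      rw [← autFun_apply _ y.2, autFun_conjAut _ y.2, show (y : Ω) = (x : Ω) from hye]⟩
    have hlow : ∀ y ∈ B, u y / y ∈ R 1 := by
      let D : ↥H →* ↥H := MonoidHom.mk' (fun y => u y / y) hD
      refine (show B ≤ (R 1).comap D from sup_le (fun r hr => ?_) (zpowers_le.2 ?_))
      · exact div_mem (map_mem_pw u hr) hr
      · have h1 : π (c * w * c⁻¹) = π w := by
          rw [map_mul, map_mul, map_inv, mem_center_iff.1 hzc (π c), mul_inv_cancel_right]
        obtain ⟨r, hr, hre⟩ := (QuotientGroup.eq (s := A)).1 h1.symm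
        show u y₀ / y₀ ∈ R 1
        have : u y₀ / y₀ = r := by
          rw [div_eq_iff_eq_mul, mul_comm]
          refine Subtype.ext ?_
          show ((u y₀ : ↥H) : Ω) = (w : Ω) * r
          rw [huval, show (r : Ω) = ((w⁻¹ * (c * w * c⁻¹) : ↥N) : Ω) from hre]
          simp only [Subgroup.coe_mul, Subgroup.coe_inv, hy₀]
          group
        exact this ▸ hr
    intro y
    rcases eq_or_ne B ⊤ with hBt | hBt
    · exact hlow _ (hBt ▸ mem_top _)
    refine hlow _ (hstab B ⊤ (hconj c) le_top hBn (hcharN ⊤ fun _ y _ => mem_top _) ?_ y (mem_top y))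
    have h1 := NarrowOdd.card_mul_le_of_lt hHp (lt_top_iff_ne_top.2 hBt)
    have h2 := NarrowOdd.card_mul_le_of_lt hHp (show R 1 < B from lt_of_le_of_ne le_sup_left fun h =>
      hy₀R (by rw [h]; exact mem_sup_right (mem_zpowers _)))
    rw [card_top] at h1 ⊢
    refine le_antisymm ?_ h1
    calc Nat.card ↥H = p * (p * Nat.card (R 1)) := by rw [hc]; ring
      _ ≤ p * Nat.card B := Nat.mul_le_mul_left _ h2
  -- exponent
  obtain ⟨e, he⟩ : ∃ e, Monoid.exponent ↥H = p ^ e := by
    obtain ⟨m, hm⟩ := IsPGroup.iff_card.1 hHp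
    obtain ⟨e, -, he⟩ := (Nat.dvd_prime_pow hp).1 (hm ▸ Group.exponent_dvd_nat_card (G := ↥H))
    exact ⟨e, he⟩
  have hexp : ∀ x : ↥H, x ^ p ^ e = 1 := fun x => he ▸ Monoid.pow_exponent_eq_one x
  obtain ⟨e, rfl⟩ : ∃ e', e = e' + 1 := by
    refine ⟨e - 1, ?_⟩
    rcases Nat.eq_zero_or_pos e with rfl | h
    · exfalso
      exact hmove fun x => by
        have h1 := hexp x
        rw [pow_zero, pow_one] at h1
        subst h1
        simp
    · omega
  set M := (powMonoidHom (p ^ e) : ↥H →* ↥H).ker with hM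
  have hMchar : ∀ α : MulAut ↥H, ∀ y ∈ M, α y ∈ M := fun α y hy => by
    show α y ^ p ^ e = 1
    rw [← map_pow, show y ^ p ^ e = 1 from hy, map_one]
  have hRM : R 1 ≤ M := by
    rintro _ ⟨a, rfl⟩
    show ((powMonoidHom (p ^ 1)) a) ^ p ^ e = 1
    rw [powMonoidHom_apply, ← pow_mul, ← pow_add, add_comm]
    exact hexp a
  have hMR : Nat.card (R e) * Nat.card M = Nat.card ↥H := by
    rw [mul_comm]
    show Nat.card M * Nat.card (powMonoidHom (p ^ e) : ↥H →* ↥H).range = _
    rw [← Subgroup.index_ker, Subgroup.card_mul_index]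
  have hidxR : Nat.card ↥H = (frattini ↥H).index * Nat.card (R 1) := by
    rw [← hfr, mul_comm, Subgroup.card_mul_index]
  have hRne : R e ≠ ⊥ := fun h => by
    have : Monoid.exponent ↥H ∣ p ^ e := Monoid.exponent_dvd_of_forall_pow_eq_one fun x =>
      Subgroup.mem_bot.1 (h ▸ (⟨x, rfl⟩ : x ^ p ^ e ∈ R e))
    rw [he, Nat.pow_dvd_pow_iff_le_right hp.one_lt] at this
    omega
  obtain ⟨a, ha⟩ := IsPGroup.iff_card.1 (hHp.to_subgroup (R e))
  have ha0 : a ≠ 0 := fun h => hRne (by rw [← Subgroup.card_eq_one, ha, h, pow_zero])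
  obtain ⟨b, hb⟩ := IsPGroup.iff_card.1 (hHp.to_subgroup M)
  obtain ⟨d, hd⟩ := IsPGroup.iff_card.1 (hHp.to_subgroup (R 1))
  obtain ⟨m, hm⟩ := IsPGroup.iff_card.1 hHp
  have hsum : a + b = m := Nat.pow_right_injective hp.two_le (by
    simp only [pow_add]; rw [← ha, ← hb, hMR, hm])
  have hdb : d ≤ b := (Nat.pow_le_pow_iff_right hp.one_lt).1 (by
    rw [← hd, ← hb]; exact Subgroup.card_le_of_le hRM)
  have hm2 : m ≤ d + 2 := (Nat.pow_le_pow_iff_right hp.one_lt).1 (by
    rw [← hm, hidxR, hd, pow_add, mul_comm]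
    exact Nat.mul_le_mul_left _ hrk)
  -- the homocyclic case
  obtain ⟨rfl, hbd⟩ : a = 2 ∧ b = d := by
    by_contra hne
    have ha1 : a = 1 := by omega
    subst ha1
    have htop : ∀ y : ↥H, u y / y ∈ M := fun y => hstab M ⊤ (hMchar u) le_top (hcharN M hMchar)
      (hcharN ⊤ fun _ y _ => mem_top _) (by rw [card_top, hm, hb, ← hsum, pow_add, pow_one]) y (mem_top y)
    rcases Nat.eq_or_lt_of_le hdb with hdb' | hdb'
    · refine hmove fun y => ?_
      rw [Subgroup.eq_of_le_of_card_ge hRM (by rw [hd, hb, hdb'])]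
      exact htop y
    have hbd : b = d + 1 := by omega
    exact hlayer M hMchar htop (hstab (R 1) M (fun y hy => map_mem_pw u hy) hRM hRn
      (hcharN M hMchar) (by rw [hb, hd, hbd, pow_succ']))
  have hMΦ : M = R 1 := (Subgroup.eq_of_le_of_card_ge hRM (by rw [hd, hb, hbd])).symm
  have hΩcard : Nat.card (powMonoidHom p : ↥H →* ↥H).ker = p ^ 2 := by
    have h : Nat.card (powMonoidHom p : ↥H →* ↥H).ker * Nat.card (powMonoidHom p : ↥H →* ↥H).range = p ^ 2 * p ^ d := by
      rw [← Subgroup.index_ker, Subgroup.card_mul_index, hm, ← hsum, hbd, pow_add]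
    have h2 : (powMonoidHom p : ↥H →* ↥H).range = R 1 := by
      show _ = (powMonoidHom (p ^ 1) : ↥H →* ↥H).range
      rw [pow_one]
    rw [h2, hd] at h
    exact Nat.eq_of_mul_eq_mul_right (pow_pos hp.pos d) h
  have hRΩ : R e = (powMonoidHom p : ↥H →* ↥H).ker := by
    refine Subgroup.eq_of_le_of_card_ge ?_ (by rw [hΩcard, ha])
    rintro _ ⟨x, rfl⟩
    show ((powMonoidHom (p ^ e)) x) ^ p = 1
    rw [powMonoidHom_apply, ← pow_mul, ← pow_succ]
    exact hexp x
  rcases Nat.eq_zero_or_pos e with rfl | he0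
  · left
    refine ⟨⟨hab, fun x hx => ?_⟩, ?_⟩
    · have := hexp ⟨x, hx⟩
      rw [zero_add, pow_one] at this
      exact congrArg Subtype.val this
    · have hb0 : b = 0 := by
        have hMbot : M = ⊥ := eq_bot_iff.2 fun y hy => by
          rw [mem_bot]
          have : y ^ p ^ 0 = 1 := hy
          simpa using this
        rw [hMbot, card_bot] at hb
        rcases Nat.eq_zero_or_pos b with h | h
        · exact h
        · exact absurd hb.symm (Nat.one_lt_pow h.ne' hp.one_lt).ne'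
      rw [hm, ← hsum, hb0]
  rcases Nat.lt_or_ge p 5 with hp5 | hp5
  · right
    have hp3 : p ≤ 3 := by
      by_contra h
      have : p = 4 := by omega
      subst this
      norm_num at hp
    refine ⟨hp3, e + 1, exists_equiv hHp ?_ hexp hfr ?_⟩
    · have hrec : ∀ j ≤ e, Nat.card (R j) = p ^ (2 * (e + 1 - j)) := by
        intro j hj
        induction' hk : e - j with k ih generalizing j
        · obtain rfl : j = e := by omega
          rw [ha, show 2 * (j + 1 - j) = 2 by omega]
        · have h1 := ih (j + 1) (by omega) (by omega)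
          let g : ↥(R j) →* ↥H := (powMonoidHom p).comp (R j).subtype
          have hgr : g.range = R (j + 1) := by
            ext z
            constructor
            · rintro ⟨⟨_, w, rfl⟩, rfl⟩
              exact ⟨w, by simp [g, ← pow_mul, pow_succ]⟩
            · rintro ⟨w, rfl⟩
              exact ⟨⟨_, w, rfl⟩, by simp [g, ← pow_mul, pow_succ]⟩
          have hle : R e ≤ R j := by
            rintro _ ⟨w, rfl⟩
            exact ⟨w ^ p ^ (e - j), by rw [powMonoidHom_apply, powMonoidHom_apply, ← pow_mul, ← pow_add,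
              show e - j + j = e by omega]⟩
          have hgk : g.ker = (R e).subgroupOf (R j) := by
            rw [hRΩ]; rfl
          have h2 := g.ker.card_mul_index
          rw [Subgroup.index_ker, hgr, h1, hgk, Nat.card_congr (Subgroup.subgroupOfEquivOfLe hle).toEquiv, ha] at h2
          rw [← h2, ← pow_add]
          congr 1
          omega
      have hR0 : R 0 = ⊤ := eq_top_iff.2 fun x _ => ⟨x, by simp⟩
      have h0 := hrec 0 (Nat.zero_le _)
      rw [hR0, card_top] at h0
      rw [h0, ← pow_mul, mul_comm, Nat.sub_zero]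
    · rw [hm, ← hsum, hbd, pow_add, hd]
  exfalso
  apply hmove
  refine fun x => mem_frattini_of_unipotent hp5 u ?_ ?_ ?_ x
  · refine MulEquiv.ext fun y => Subtype.ext ?_
    have hit : ∀ n : ℕ, ((u ^ n) y : Ω) = (c : Ω) ^ n * y * ((c : Ω) ^ n)⁻¹ := by
      intro n
      induction n with
      | zero => simp
      | succ n ih => rw [pow_succ', MulAut.mul_apply, huval, ih, pow_succ']; group
    rw [hit p, MulAut.one_apply]
    have := congrArg Subtype.val (mul_comm (⟨(c : Ω) ^ p, hcp⟩ : ↥H) y)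
    show (c : Ω) ^ p * y * ((c : Ω) ^ p)⁻¹ = y
    rw [show (c : Ω) ^ p * y = y * (c : Ω) ^ p from this]
    group
  · exact hstep (by rw [hm, ← hsum, hbd, pow_add, hd])
  · intro z hz
    have hz' : z ∈ R e := by rw [hRΩ]; exact hz
    obtain ⟨w, rfl⟩ := hz'
    refine ⟨w ^ p ^ (e - 1), ?_⟩
    rw [powMonoidHom_apply, powMonoidHom_apply, ← pow_mul, ← pow_add, show e - 1 + 1 = e by omega]

end Cfsg.Lib.Fusion.RankTwoEssential
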