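import Mathlib
import Cfsg.Agent.Lib.Fusion.GlaubermanControl
import Cfsg.Agent.Lib.Fusion.Hyperfocal
import Cfsg.Agent.Lib.PLocal.TransferDegree

/-!
Control of transfer in fusion systems by a characteristic functor.
-/

set_option autoImplicit false
set_option linter.style.haveILetI false

open scoped Classical commutatorElement

namespace Cfsg.Lib.Fusion

open Cfsg Cfsg.FusionSystem

universe u

section Groups

variable {p : ℕ} [Fact p.Prime]

/-- The local condition gives control of transfer in every group. -/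
theorem ctl_of_local {W : ∀ (Q : Type u) [Group Q], Subgroup Q} (hW : IsCharPFunctor.{u} p W)
    (hT : ∀ (G : Type u) [Group G] [Finite G] (P : Sylow p G),
      Subgroup.centralizer ((Cfsg.pCore p G : Subgroup G) : Set G) ≤ Cfsg.pCore p G →
      Cfsg.pCore p G ⊓ commutator G = Cfsg.pCore p G ⊓
        (commutator ↥(Subgroup.normalizer (((W ↥(P : Subgroup G)).map (P : Subgroup G).subtype :
          Subgroup G) : Set G))).map (Subgroup.normalizer (((W ↥(P : Subgroup G)).map
            (P : Subgroup G).subtype : Subgroup G) : Set G)).subtype)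
    (X : Type u) [Group X] [Finite X] :
    PLocal.TransferControl.Ctl p ({W} : Set (∀ (Q : Type u) [Group Q], Subgroup Q)) X := by
  refine PLocal.TransferControl.ctl_of_involves (fun L _ _ _ hm => ?_) X
    (PLocal.TransferControl.involves_refl X)
  have h𝓦 : ∀ W' ∈ ({W} : Set (∀ (Q : Type u) [Group Q], Subgroup Q)),
      Cfsg.IsCharPFunctor.{u} p W' := fun W' h => by
    rw [Set.mem_singleton_iff.1 h]; exact hW
  have hne : ({W} : Set (∀ (Q : Type u) [Group Q], Subgroup Q)).Nonempty := Set.singleton_nonempty W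
  obtain ⟨S⟩ : Nonempty (Sylow p L) := inferInstance
  refine hm.commutator_not_le h𝓦 hne S ?_
  have h := hT L S (hm.centralizer_le h𝓦 hne)
  rw [Subgroup.map_subtype_commutator] at h
  haveI := Transfer.pCore_normal (G := L) p
  refine le_trans (le_inf (Subgroup.commutator_le_left _ _)
    ((Subgroup.commutator_mono le_top le_rfl).trans (le_of_eq (commutator_def (G := L)).symm))) ?_
  rw [h]
  exact (inf_le_inf_right _ (Transfer.pCore_le_sylow S)).trans
    (PLocal.TransferControl.le_trace (Set.mem_singleton W) _)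

/-- A normal `p`-subgroup on which the group acts as a `p`-group meets the derived group in the
derived group of the Sylow subgroup. -/
theorem inf_commutator_le_of_pAct : ∀ (n : ℕ) (L : Type u) [Group L] [Finite L] (P : Sylow p L)
    (X : Subgroup L) [X.Normal], Nat.card X ≤ n → X ≤ (P : Subgroup L) →
    (∀ g : L, ∃ a : ℕ, g ^ p ^ a ∈ Subgroup.centralizer (X : Set L)) →
    X ⊓ commutator L ≤ ⁅(P : Subgroup L), (P : Subgroup L)⁆ := by
  intro n
  induction n with
  | zero => intro L _ _ P X _ hn; exact absurd hn (Nat.not_le.2 Nat.card_pos)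
  | succ n ih =>
  intro L _ _ P X hXn hn hXP hact
  by_cases hX : X = ⊥
  · subst hX; simp
  set Z := X ⊓ Subgroup.centralizer ((P : Subgroup L) : Set L) with hZdef
  have hXp : IsPGroup p X := P.isPGroup'.to_le hXP
  have hZne : Z ≠ ⊥ := fun e => by
    have h1 := Transfer.card_modEq_card_inf_centralizer (p := p) X (P : Subgroup L) P.isPGroup'
      (by rw [Subgroup.normalizer_eq_top]; exact le_top)
    rw [← hZdef, e, Subgroup.card_bot] at h1
    obtain ⟨m, hm⟩ := IsPGroup.iff_card.1 hXp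
    have hm0 : m ≠ 0 := fun h0 => hX (Subgroup.eq_bot_of_card_eq X (by rw [hm, h0, pow_zero]))
    rw [hm, Nat.ModEq, Nat.mod_eq_zero_of_dvd (dvd_pow_self p hm0),
      Nat.mod_eq_of_lt (Fact.out : p.Prime).one_lt] at h1
    exact zero_ne_one h1
  -- `Z` is central
  have hcent : ∀ z ∈ Z, ∀ g : L, Commute g z := by
    intro z hz g
    have htop : Subgroup.centralizer ({z} : Set L) = ⊤ := by
      refine eq_top_iff.2 ((Transfer.pResidual_sup_sylow P).ge.trans (sup_le ?_ ?_))
      · refine (Subgroup.closure_le _).2 fun y hy => ?_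
        obtain ⟨a, ha⟩ := hact y
        obtain ⟨m, hm⟩ := exists_pow_eq_self_of_coprime
          ((Nat.Coprime.pow_right a hy).symm : (p ^ a).Coprime (orderOf y))
        rw [SetLike.mem_coe, Subgroup.mem_centralizer_singleton_iff, ← hm]
        exact Commute.pow_left (show Commute (y ^ p ^ a) z from (Subgroup.mem_centralizer_iff.1 ha z hz.1).symm) m
      · intro y hy
        rw [Subgroup.mem_centralizer_singleton_iff]
        exact Subgroup.mem_centralizer_iff.1 hz.2 y hy
    exact Subgroup.mem_centralizer_singleton_iff.1 (htop ▸ Subgroup.mem_top g)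
  haveI hZn : Z.Normal := ⟨fun z hz g => by
    rwa [(hcent z hz g).eq, mul_inv_cancel_right]⟩
  set q := QuotientGroup.mk' Z with hq
  have hqs : Function.Surjective q := QuotientGroup.mk'_surjective Z
  set P' := P.mapSurjective hqs
  haveI : (X.map q).Normal := hXn.map q hqs
  have hcard : Nat.card (X.map q) ≤ n := by
    have h1 : Nat.card (X.map q) * Nat.card Z = Nat.card X := by
      rw [Solv.card_map_eq_relIndex, hq, QuotientGroup.ker_mk', mul_comm,
        ← Solv.card_eq_mul_relIndex (inf_le_left : Z ≤ X)]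
    have h2 : 1 < Nat.card Z := (Subgroup.one_lt_card_iff_ne_bot Z).2 hZne
    have h3 : 0 < Nat.card (X.map q) := Nat.card_pos
    nlinarith
  have hih := ih (L ⧸ Z) P' (X.map q) hcard (Subgroup.map_mono hXP) (fun g => by
    obtain ⟨g, rfl⟩ := hqs g
    obtain ⟨a, ha⟩ := hact g
    refine ⟨a, Subgroup.mem_centralizer_iff.2 ?_⟩
    rintro _ ⟨x, hx, rfl⟩
    rw [← map_pow, ← map_mul, ← map_mul, Subgroup.mem_centralizer_iff.1 ha x hx])
  rintro x ⟨hx, hxc⟩
  have h1 : q x ∈ X.map q ⊓ commutator (L ⧸ Z) := by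
    refine ⟨⟨x, hx, rfl⟩, ?_⟩
    have h2 := Subgroup.mem_map_of_mem q hxc
    rw [commutator_def, Subgroup.map_commutator, Subgroup.map_top_of_surjective _ hqs] at h2
    rwa [commutator_def]
  have h2 := hih h1
  rw [show (P' : Subgroup (L ⧸ Z)) = (P : Subgroup L).map q from rfl,
    ← Subgroup.map_commutator] at h2
  obtain ⟨s, hs, hsx⟩ := h2
  have hz : s⁻¹ * x ∈ Z := QuotientGroup.eq.1 hsx
  have hzc : s⁻¹ * x ∈ commutator L := by
    refine mul_mem (inv_mem ?_) hxc
    rw [commutator_def]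
    exact Subgroup.commutator_mono le_top le_top hs
  have hzP : s⁻¹ * x ∈ (P : Subgroup L) := hXP hz.1
  suffices h3 : s⁻¹ * x ∈ ⁅(P : Subgroup L), (P : Subgroup L)⁆ by
    simpa using mul_mem hs h3
  -- transfer of a central element
  open scoped IsMulCommutative in
  let φ : ↥(P : Subgroup L) →* Abelianization ↥(P : Subgroup L) := Abelianization.of
  have hV : MonoidHom.transfer φ (s⁻¹ * x) = φ ⟨_, hzP⟩ ^ (P : Subgroup L).index := by
    rw [MonoidHom.transfer_eq_pow φ (s⁻¹ * x) (fun k g₀ _ => ?_), ← map_pow]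
    · rfl
    · rw [(((hcent _ hz g₀).pow_right k).inv_left).eq, mul_assoc, inv_mul_cancel, mul_one]
  have hV1 : MonoidHom.transfer φ (s⁻¹ * x) = 1 :=
    Abelianization.commutator_subset_ker _ hzc
  rw [hV1] at hV
  obtain ⟨k, hk⟩ := P.isPGroup' ⟨_, hzP⟩
  have hone : φ ⟨_, hzP⟩ = 1 := by
    rw [← orderOf_eq_one_iff]
    refine Nat.eq_one_of_dvd_coprimes
      ((((Fact.out : p.Prime).coprime_iff_not_dvd).2 P.not_dvd_index).pow_left k)
      (orderOf_dvd_of_pow_eq_one ?_) (orderOf_dvd_of_pow_eq_one hV.symm)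
    rw [← map_pow, hk, map_one]
  rw [← MonoidHom.mem_ker, Abelianization.ker_of] at hone
  rw [← Subgroup.map_subtype_commutator]
  exact ⟨_, hone, rfl⟩

end Groups

variable {Ω : Type u} [Group Ω] {T T' Q X D : Subgroup Ω} {p : ℕ} {F : FusionSystem T}

theorem mor_relExt {K : Ω → Ω → Prop} {hK : RelCond T K} {P : Subgroup Ω} {f : Ω → Ω} :
    Mor (relExt F K hK) P f ↔ Mor F P f ∧ ∀ x ∈ P, K x (f x) := by
  constructor
  · rintro ⟨φ, ⟨hφ, hφK⟩, he⟩
    exact ⟨⟨φ, hφ, he⟩, fun x hx => by rw [← he ⟨x, hx⟩]; exact hφK ⟨x, hx⟩⟩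
  · rintro ⟨⟨φ, hφ, he⟩, h⟩
    exact ⟨φ, ⟨hφ, fun x => by rw [he]; exact h x x.2⟩, he⟩

/-- Maps normalizing `V` move elements inside `D`. -/
def NHyp (F : FusionSystem T) (V D : Subgroup Ω) : Prop :=
  ∀ P g, P ≤ T → Mor F (P ⊔ V) g → img V g = V → ∀ x ∈ P, x⁻¹ * g x ∈ D

/-- The claim proved by induction on the number of maps. -/
def FocClaim (Ω : Type u) [Group Ω] (p : ℕ) (W : ∀ (Q : Type u) [Group Q], Subgroup Q) (n : ℕ) :
    Prop :=
  ∀ (T : Subgroup Ω) (F : FusionSystem T), Finite T → IsPGroup p T → F.IsSaturated p →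
    (mapSet F).ncard = n → ∀ X D : Subgroup Ω, F.IsNormal X → PAct F p X →
    ⁅T, T⁆ ≤ D → NHyp F (wQuot W T X) D → ∀ P f, Mor F P f → ∀ x ∈ P, x⁻¹ * f x ∈ D

variable (W : ∀ (Q : Type u) [Group Q], Subgroup Q)
  (hW1 : ∀ (Q : Type u) [Group Q] [Finite Q], IsPGroup p Q → Nontrivial Q → W Q ≠ ⊥)
  (hW2 : ∀ (Q R : Type u) [Group Q] [Group R] [Finite Q], IsPGroup p Q → ∀ φ : Q ≃* R,
    (W Q).map φ.toMonoidHom = W R)

/-- What a local system inherits. -/
theorem foc_child [Finite T] [Fact p.Prime] (hT : IsPGroup p T) (hF : F.IsSaturated p)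
    (ih : ∀ m < (mapSet F).ncard, FocClaim Ω p W m) {E : FusionSystem T'}
    {J : (Ω → Ω) → Prop} (hJ : QCond Q J) (hd : LocalData F E Q J) (hQT : Q ≤ T')
    (hne : ¬ ∀ P f, Mor F P f → Mor E P f) (hX : F.IsNormal X) (hXQ : X ≤ Q)
    (hp : PAct E p X) (hD : ⁅T, T⁆ ≤ D)
    (h : ∀ P g, P ≤ T' → Mor F (P ⊔ wQuot W T' X) g → img (wQuot W T' X) g = wQuot W T' X →
      ∀ x ∈ P, x⁻¹ * g x ∈ D)
    {P : Subgroup Ω} {f : Ω → Ω} (hf : Mor E P f) : ∀ x ∈ P, x⁻¹ * f x ∈ D :=
  ih _ (ncard_mapSet_lt (fun P f hf => hd.sub hf) hne) T' E (finite_of_le (LocalData.T_le hd))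
    (isPGroup_of_le hT (LocalData.T_le hd)) (LocalData.saturated hJ hd hT hF) rfl X D
    (hd.isNormal_of_le hQT (stronglyClosed_of_isNormal hX) hXQ) hp
    ((Subgroup.commutator_mono (LocalData.T_le hd) (LocalData.T_le hd)).trans hD)
    (fun P g hP hg hgi => h P g hP (hd.sub hg) hgi) P f hf

/-- The normalizer of a fully normalized subgroup that is not normal. -/
theorem foc_child_normalizer [Finite T] [Fact p.Prime] (hT : IsPGroup p T) (hF : F.IsSaturated p)
    (ih : ∀ m < (mapSet F).ncard, FocClaim Ω p W m) (hQ : F.IsFullyNormalized Q)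
    (hQn : ¬ F.IsNormal Q) (hX : F.IsNormal X) (hXQ : X ≤ Q) (hp : PAct F p X) (hD : ⁅T, T⁆ ≤ D)
    (h : ∀ P g, P ≤ normalizerIn T Q → Mor F (P ⊔ wQuot W (normalizerIn T Q) X) g →
      img (wQuot W (normalizerIn T Q) X) g = wQuot W (normalizerIn T Q) X →
      ∀ x ∈ P, x⁻¹ * g x ∈ D)
    {P : Subgroup Ω} {g : Ω → Ω} (hP : P ≤ normalizerIn T Q) (hg : Mor F (P ⊔ Q) g)
    (hgQ : img Q g = Q) : ∀ x ∈ P, x⁻¹ * g x ∈ D := by
  have hd := localData_normalizerExt hT hF hQ
  refine foc_child W hT hF ih (qCond_true Q) hd (le_normalizerIn hQ.1)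
    (fun hall => hQn (isNormal_iff.2 ⟨hQ.1, fun P f hf =>
      (mor_normalizerExt_iff.1 (hall P f hf)).2.2⟩))
    hX hXQ (fun f hf => hp f (hd.sub hf)) hD h
    (mor_normalizerExt_iff.2 ⟨hP, fun x hx => ?_, g, hg, fun x _ => rfl, hgQ⟩)
  have h1 := hg.mem_normalizerIn le_sup_right (Subgroup.mem_sup_left hx) (hP hx)
  rwa [hgQ] at h1

include hW2 in
/-- The constrained case, in a model. -/
theorem foc_constrained [Finite T] [Fact p.Prime] (hT : IsPGroup p T) (hF : F.IsSaturated p)
    (hctl : ∀ (L : Type u) [Group L] [Finite L],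
      PLocal.TransferControl.Ctl p ({W} : Set (∀ (Q : Type u) [Group Q], Subgroup Q)) L)
    (hW : IsCharPFunctor.{u} p W)
    (hU : F.IsCentric F.core) (hX : F.IsNormal X) (hp : PAct F p X) (hD : ⁅T, T⁆ ≤ D)
    (h : NHyp F (wQuot W T X) D) {P : Subgroup Ω} {f : Ω → Ω} (hf : Mor F P f) :
    ∀ x ∈ P, x⁻¹ * f x ∈ D := by
  obtain ⟨L, _, ι, ⟨hfin, hι, ⟨S, hS⟩, -⟩, hUL⟩ := exists_model hT hF (isNormal_core F) hU
  set U := F.core
  have hXU : X ≤ U := le_sSup hX
  have hXsc := stronglyClosed_of_isNormal hX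
  have hTX : T ≤ Subgroup.normalizer (X : Set Ω) := StronglyClosed.le_normalizer hXsc
  have hUmap : ∀ (g : L), ∀ x ∈ U, g * iotaFun ι x * g⁻¹ ∈ (U.subgroupOf T).map ι :=
    fun g x hx => hUL.conj_mem _ ((mem_map_iota (hP := (isNormal_core F).1)).2 ⟨x, hx, rfl⟩) g
  have hXconj : ∀ g : L, ∃ k, Mor F X k ∧ ∀ x ∈ X, iotaFun ι (k x) = g * iotaFun ι x * g⁻¹ :=
    fun g => exists_mor_of_conj_mem hι hX.1 g fun x hx =>
      Subgroup.map_le_range ι _ (hUmap g x (hXU hx))
  set Xb := (X.subgroupOf T).map ι with hXb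
  haveI hXL : Xb.Normal := by
    refine ⟨fun y hy g => ?_⟩
    obtain ⟨x, hx, rfl⟩ := (mem_map_iota (hP := hX.1)).1 hy
    obtain ⟨k, hk, hke⟩ := hXconj g
    exact (mem_map_iota (hP := hX.1)).2
      ⟨k x, StronglyClosed.mem hXsc hk hx hx, hke x hx⟩
  have hXbS : Xb ≤ (S : Subgroup L) := by rw [hS]; exact Subgroup.map_le_range ι _
  have hact : ∀ g : L, ∃ a : ℕ, g ^ p ^ a ∈ Subgroup.centralizer (Xb : Set L) := by
    intro g
    obtain ⟨k, hk, hke⟩ := hXconj g
    obtain ⟨a, ha⟩ := hp k hk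
    have hit : ∀ n : ℕ, ∀ x ∈ X, k^[n] x ∈ X ∧
        iotaFun ι (k^[n] x) = g ^ n * iotaFun ι x * (g ^ n)⁻¹ := by
      intro n
      induction n with
      | zero => intro x hx; exact ⟨hx, by simp⟩
      | succ n ihn =>
        intro x hx
        obtain ⟨h1, h2⟩ := ihn x hx
        rw [Function.iterate_succ_apply']
        refine ⟨StronglyClosed.mem hXsc hk h1 h1, ?_⟩
        rw [hke _ h1, h2, pow_succ']
        group
    refine ⟨a, Subgroup.mem_centralizer_iff.2 fun y hy => ?_⟩
    obtain ⟨x, hx, rfl⟩ := (mem_map_iota (hP := hX.1)).1 hy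
    have h1 := (hit (p ^ a) x hx).2
    rw [ha x hx] at h1
    exact (mul_inv_eq_iff_eq_mul.1 h1.symm).symm
  set DL := (D.subgroupOf T).map ι with hDL
  have hder : ⁅(S : Subgroup L), (S : Subgroup L)⁆ ≤ DL := by
    rw [hS, Subgroup.commutator_le]
    rintro _ ⟨a, rfl⟩ _ ⟨b, rfl⟩
    refine ⟨⁅a, b⁆, hD ?_, map_commutatorElement ι a b⟩
    exact Subgroup.commutator_mem_commutator a.2 b.2
  suffices hall : (S : Subgroup L) ⊓ commutator L ≤ DL by
    intro x hx
    obtain ⟨g, hg⟩ := exists_conj_of_mor hι hf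
    set z : T := ⟨x, hf.le hx⟩⁻¹ * ⟨f x, hf.mem hx⟩
    have hz : ι z = ⁅(ι ⟨x, hf.le hx⟩)⁻¹, g⁆ := by
      rw [map_mul, map_inv, ← iotaFun_apply ι (hf.mem hx), hg x hx, iotaFun_apply ι (hf.le hx),
        commutatorElement_def, inv_inv]
      group
    obtain ⟨w, hw, hwz⟩ : ι z ∈ DL := hall ⟨hS.ge ⟨z, rfl⟩, by
      rw [hz, commutator_def]
      exact Subgroup.commutator_mem_commutator (Subgroup.mem_top _) (Subgroup.mem_top _)⟩
    rw [hι.1 hwz] at hw
    exact hw
  -- control in the quotient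
  set q := QuotientGroup.mk' Xb with hq
  have hqs : Function.Surjective q := QuotientGroup.mk'_surjective Xb
  set R := S.mapSurjective hqs
  set Wb := inducedFunctor W (R : Subgroup (L ⧸ Xb))
  set N := (Subgroup.normalizer (Wb : Set (L ⧸ Xb))).comap q with hN
  have hSN : (S : Subgroup L) ≤ N := fun a ha =>
    PLocal.TransferControl.normalizer_le hW (R : Subgroup (L ⧸ Xb)) R.isPGroup'
      (Subgroup.le_normalizer (show q a ∈ (R : Subgroup (L ⧸ Xb)) from ⟨a, ha, rfl⟩))
  -- the preimage of the functor value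
  have hkey : ((wQuot W T X).subgroupOf T).map ι = Wb.comap q := by
    have hRmem : ∀ t : T, q (ι t) ∈ (R : Subgroup (L ⧸ Xb)) := fun t =>
      Subgroup.mem_map_of_mem q (hS.symm ▸ ⟨t, rfl⟩)
    let φ : T →* ↥(R : Subgroup (L ⧸ Xb)) := (q.comp ι).codRestrict _ hRmem
    have hφker : φ.ker = (X.subgroupOf T).normalCore := by
      rw [normalCore_subgroupOf hTX]
      ext t
      rw [MonoidHom.mem_ker, ← Subtype.val_inj]
      show q (ι t) = 1 ↔ _
      rw [hq, QuotientGroup.mk'_apply, QuotientGroup.eq_one_iff, hXb,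
        Subgroup.mem_map_iff_mem hι.1]
    have hφs : Function.Surjective φ := by
      rintro ⟨y, g, hg, rfl⟩
      rw [SetLike.mem_coe, hS] at hg
      obtain ⟨t, rfl⟩ := hg
      exact ⟨t, rfl⟩
    let e : ↥T ⧸ (X.subgroupOf T).normalCore ≃* ↥(R : Subgroup (L ⧸ Xb)) :=
      (QuotientGroup.quotientMulEquivOfEq hφker.symm).trans
        (QuotientGroup.quotientKerEquivOfSurjective φ hφs)
    have he : ∀ t : T, e (t : ↥T ⧸ (X.subgroupOf T).normalCore) = φ t := fun t => rfl
    have hWe := hW2 _ _ (hT.to_quotient _) e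
    ext g
    constructor
    · rintro ⟨t, ht, rfl⟩
      obtain ⟨h, hW⟩ := (mem_wQuot W).1 ht
      exact ⟨φ t, hWe ▸ ⟨_, hW, he t⟩, rfl⟩
    · intro hg
      obtain ⟨y, hy, hyg⟩ := hg
      have hy' := hy
      rw [SetLike.mem_coe, ← hWe] at hy'
      obtain ⟨z, hz, rfl⟩ := hy'
      obtain ⟨t, rfl⟩ := QuotientGroup.mk'_surjective _ z
      have hgt : (ι t)⁻¹ * g ∈ Xb := by
        rw [← QuotientGroup.eq]
        exact ((congrArg Subtype.val (he t)).symm.trans hyg)
      obtain ⟨x, hx, hxe⟩ := hgt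
      refine ⟨t * x, ?_, by rw [map_mul, hxe, mul_inv_cancel_left]⟩
      show (t : Ω) * x ∈ wQuot W T X
      exact mul_mem ((mem_wQuot W).2 ⟨t.2, hz⟩) (le_wQuot W hX.1 hTX hx)
  rintro y ⟨hyS, hyc⟩
  have hqy : q y ∈ (R : Subgroup (L ⧸ Xb)) ⊓ commutator (L ⧸ Xb) := by
    refine ⟨⟨y, hyS, rfl⟩, ?_⟩
    have h2 := Subgroup.mem_map_of_mem q hyc
    rw [commutator_def, Subgroup.map_commutator, Subgroup.map_top_of_surjective _ hqs] at h2
    rwa [commutator_def]
  have h2 := hctl (L ⧸ Xb) R hqy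
  rw [PLocal.TransferControl.trace, iSup_singleton] at h2
  have h3 : q y ∈ ⁅N, N⁆.map q := by
    rw [Subgroup.map_commutator, hN, Subgroup.map_comap_eq_self_of_surjective hqs]
    exact h2.2
  obtain ⟨c, hc, hcy⟩ := h3
  have hx' : c⁻¹ * y ∈ Xb := QuotientGroup.eq.1 hcy
  have hcN : c⁻¹ * y ∈ ⁅N, N⁆ := by
    refine Subgroup.commutator_mono hSN hSN
      (inf_commutator_le_of_pAct _ L S Xb le_rfl hXbS hact ⟨hx', ?_⟩)
    have hc' : c ∈ commutator L := by
      rw [commutator_def]
      exact Subgroup.commutator_mono le_top le_top hc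
    exact (commutator L).mul_mem ((commutator L).inv_mem hc') hyc
  have hyN : y ∈ ⁅N, N⁆ := by simpa using mul_mem hc hcN
  -- focal subgroup in `N`
  let S₀ : Sylow p N := S.subtype hSN
  have hfoc : (⟨y, hSN hyS⟩ : N) ∈ (S₀ : Subgroup N).focalSubgroup := by
    rw [← Subgroup.commutator_inf_eq_focalSubgroup S₀]
    refine ⟨?_, hyS⟩
    rw [← Subgroup.map_subtype_commutator] at hyN
    obtain ⟨w, hw, hwy⟩ := hyN
    exact (Subtype.ext hwy : w = ⟨y, hSN hyS⟩) ▸ hw
  have hle : (S₀ : Subgroup N).focalSubgroup ≤ DL.comap N.subtype := by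
    rw [Subgroup.focalSubgroup_def, Subgroup.closure_le]
    rintro w ⟨hw, a, ha, u, rfl⟩
    have haS : (a : L) ∈ (S : Subgroup L) := ha
    have hconj : (u : L) * (a : L)⁻¹ * (u : L)⁻¹ ∈ (S : Subgroup L) := by
      have h4 : ((a : L) * u * (a : L)⁻¹ * (u : L)⁻¹) ∈ (S : Subgroup L) := hw
      have := mul_mem (inv_mem haS) h4
      simpa [mul_assoc] using this
    rw [hS] at haS hconj
    obtain ⟨t, ht⟩ := (ι.range).inv_mem haS
    set Wt := wQuot W T X
    have hWle : Wt ≤ T := wQuot_le W T X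
    have huW : ∀ z ∈ Wt, (u : L) * iotaFun ι z * (u : L)⁻¹ ∈ (Wt.subgroupOf T).map ι := by
      intro z hz
      have h5 : iotaFun ι z ∈ (Wt.subgroupOf T).map ι := (mem_map_iota (hP := hWle)).2 ⟨z, hz, rfl⟩
      rw [hkey] at h5 ⊢
      show q ((u : L) * iotaFun ι z * (u : L)⁻¹) ∈ Wb
      rw [map_mul, map_mul, map_inv]
      exact (Subgroup.mem_normalizer_iff.1 u.2 _).1 h5
    have htR : Subgroup.zpowers (t : Ω) ≤ T := Subgroup.zpowers_le.2 t.2
    have hgR : ∀ z ∈ Subgroup.zpowers (t : Ω) ⊔ Wt,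
        (u : L) * iotaFun ι z * (u : L)⁻¹ ∈ ι.range := by
      have h1 : (Subgroup.zpowers (t : Ω) ⊔ Wt).subgroupOf T ≤
          ι.range.comap ((MulAut.conj (u : L)).toMonoidHom.comp ι) := by
        rw [Subgroup.subgroupOf_sup htR hWle, sup_le_iff]
        constructor
        · intro z hz
          obtain ⟨i, hi⟩ := Subgroup.mem_zpowers_iff.1 (Subgroup.mem_subgroupOf.1 hz)
          have e : z = t ^ i := Subtype.ext (by rw [SubgroupClass.coe_zpow]; exact hi.symm)
          rw [e, Subgroup.mem_comap, map_zpow]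
          refine zpow_mem ?_ i
          show (u : L) * ι t * (u : L)⁻¹ ∈ ι.range
          rw [ht]
          exact hconj
        · intro z hz
          have h2 := huW z hz
          rw [iotaFun_apply ι z.2] at h2
          exact Subgroup.map_le_range ι _ h2
      intro z hz
      have hzT : z ∈ T := sup_le htR hWle hz
      rw [iotaFun_apply ι hzT]
      exact h1 (show (⟨z, hzT⟩ : T) ∈ _ from hz)
    obtain ⟨k, hk, hke⟩ := exists_mor_of_conj_mem hι (sup_le htR hWle) (u : L) hgR
    have hkW : img Wt k = Wt := by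
      refine (hk.restrict le_sup_right).img_eq_of_card_le hWle (fun z hz => ?_) le_rfl
      obtain ⟨w', hw', hwe⟩ := (mem_map_iota (hP := hWle)).1 (huW z hz)
      rw [← hke z (Subgroup.mem_sup_right hz)] at hwe
      rwa [← iotaFun_injOn hι (hWle hw') (hk.mem (Subgroup.mem_sup_right hz)) hwe]
    have htm : (t : Ω) ∈ Subgroup.zpowers (t : Ω) := Subgroup.mem_zpowers _
    have hrel := h _ k htR hk hkW t htm
    refine ⟨t⁻¹ * ⟨k t, hk.mem (Subgroup.mem_sup_left htm)⟩, hrel, ?_⟩
    rw [map_mul, map_inv, ← iotaFun_apply ι (hk.mem (Subgroup.mem_sup_left htm)),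
      hke _ (Subgroup.mem_sup_left htm), iotaFun_apply ι t.2]
    show (ι t)⁻¹ * ((u : L) * ι t * (u : L)⁻¹) = ((⁅a, u⁆ : N) : L)
    rw [ht, commutatorElement_def]
    simp [mul_assoc]
  exact hle hfoc

include hW1 hW2 in
theorem foc_climb [Finite T] [Fact p.Prime] (hT : IsPGroup p T)
    (hF : F.IsSaturated p) (ih : ∀ m < (mapSet F).ncard, FocClaim Ω p W m)
    (hnc : ¬ F.IsCentric F.core) (hpY : PAct F p F.core) {X₀ : Subgroup Ω} (hX : F.IsNormal X₀)
    (hp : PAct F p X₀) (hD : ⁅T, T⁆ ≤ D) (h : NHyp F (wQuot W T X₀) D) :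
    ∀ P f, Mor F P f → ∀ x ∈ P, x⁻¹ * f x ∈ D := by
  set Y := F.core with hYdef
  have hYn : F.IsNormal Y := isNormal_core F
  have hYsc := stronglyClosed_of_isNormal hYn
  have hTY : T ≤ Subgroup.normalizer (Y : Set Ω) := StronglyClosed.le_normalizer hYsc
  have hXT : Y < T := lt_of_le_of_ne hYn.1 fun e =>
    hnc (centric_of_isNormal hYn (e ▸ centralizerIn_le))
  suffices hall : ∀ P f, Mor F P f → Mor (relExt F _ (relCond_diff hD)) P f from
    fun P f hf => (mor_relExt.1 (hall P f hf)).2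
  refine mor_le_of_centric_radical_ih hT hF fun R hR hRc hRr ihR α hα => ?_
  have hYR : Y ≤ R := le_of_isNormal_of_centricRadical hT hYn hRc hRr
  have hRn : ¬ F.IsNormal R := fun hn =>
    hnc ((le_antisymm (le_sSup (a := R) hn) hYR : R = Y) ▸ hRc)
  have hαm : Mor F R (autFun α) := (mem_autGroup_iff hR.1).1 hα
  have climb : ∀ P1, P1 ≤ T → Y ≤ P1 → (P1 = T ∨ (Y < P1 ∧ Nat.card R < Nat.card P1)) →
      ∀ P g, P ≤ normalizerIn T (wQuot W P1 Y) → Mor F (P ⊔ wQuot W P1 Y) g →
        img (wQuot W P1 Y) g = wQuot W P1 Y → ∀ x ∈ P, x⁻¹ * g x ∈ D := by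
    intro P1
    induction' hm : Nat.card T - Nat.card P1 using Nat.strong_induction_on with m ihm
      generalizing P1
    intro hP1 hYP1 hor P g hPV hg hgV
    set V := wQuot W P1 Y with hV
    have hVT : V ≤ T := (wQuot_le W P1 Y).trans hP1
    by_cases hP1T : P1 = T
    · -- the normalizer of the value on `T`
      have hNV : normalizerIn T V = T := by
        refine le_antisymm normalizerIn_le ?_
        have h1 := normalizerIn_le_normalizerIn_wQuot W hW2 hT hP1 hYP1 hTY
        rw [hP1T, normalizerIn_self] at h1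
        rwa [hV, hP1T]
      have hVn : ¬ F.IsNormal V := fun hn => by
        have h1 := lt_wQuot W hW1 hT hXT hTY
        rw [← hP1T] at h1
        exact h1.not_ge (le_sSup (a := V) hn)
      have hVfn : F.IsFullyNormalized V := ⟨hVT, fun R' _ => by
        rw [hNV]
        exact Nat.card_le_card_of_injective _ (Subgroup.inclusion_injective normalizerIn_le)⟩
      refine foc_child_normalizer W hT hF ih hVfn hVn hX
        ((le_sSup hX : X₀ ≤ Y).trans (le_wQuot W hYP1 (hP1.trans hTY))) hp hD ?_ hPV hg hgV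
      rw [hNV]
      exact h
    obtain ⟨hYlt, hcard⟩ := hor.resolve_left hP1T
    have := finite_of_le hP1
    have hYV : Y < V := lt_wQuot W hW1 (isPGroup_of_le hT hP1) hYlt (hP1.trans hTY)
    obtain ⟨V', hV', hV'n⟩ := exists_fullyNormalized F hVT
    obtain ⟨m', hm', hmN, hmi⟩ :=
      exists_normalizerIn_map_of_fullyNormalized hT hF hV'n hV'
    have hgrow : Nat.card P1 < Nat.card (normalizerIn T V) := by
      refine lt_of_lt_of_le (card_lt_of_lt normalizerIn_le (normalizer_growth hT le_rfl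
        (lt_of_le_of_ne hP1 hP1T))) ?_
      exact card_le_of_le normalizerIn_le
        (normalizerIn_le_normalizerIn_wQuot W hW2 hT hP1 hYP1 hTY)
    have hm'E := (mor_relExt.1 (ihR _ m' (by omega) hm')).2
    have hYN : Y ≤ normalizerIn T V := hYV.le.trans (le_normalizerIn hVT)
    have hYV' : Y ≤ V' := by
      have h1 : img Y m' = Y := (hm'.restrict hYN).img_eq_of_card_le hYn.1
        (fun x hx => StronglyClosed.mem hYsc hm' (hYN hx) hx) le_rfl
      rw [← h1, ← hmi]
      exact img_mono hYV.le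
    have hV'nn : ¬ F.IsNormal V' := fun hn => by
      have h2 : V' = Y := le_antisymm (le_sSup (a := V') hn) hYV'
      have h3 := (hm'.restrict (le_normalizerIn hVT)).card_img
      rw [hmi, h2] at h3
      exact (card_lt_of_lt hVT hYV).ne h3
    have hD' : P ⊔ V ≤ normalizerIn T V := sup_le hPV (le_normalizerIn hVT)
    have hgD : ∀ x ∈ P ⊔ V, g x ∈ normalizerIn T V := fun x hx => by
      have h1 := hg.mem_normalizerIn le_sup_right hx (hD' hx)
      rwa [hgV] at h1
    have hmD : Mor F (P ⊔ V) m' := hm'.restrict hD'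
    obtain ⟨j, hj, hj1, hj2, -⟩ := hmD.exists_inv
    have hsupD : img P m' ⊔ V' = img (P ⊔ V) m' := by
      rw [hmD.img_sup le_sup_left le_sup_right, hmi]
    have hg' : Mor F (img (P ⊔ V) m') (fun y => m' (g (j y))) :=
      hm'.comp (hg.comp hj fun y hy => (hj2 y hy).2) fun y hy => hgD _ (hj2 y hy).2
    have hg'V : img V' (fun y => m' (g (j y))) = V' := by
      refine (hg'.restrict (hsupD ▸ le_sup_right)).img_eq_of_card_le hV'n.1 (fun y hy => ?_) le_rfl
      rw [← hmi] at hy ⊢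
      obtain ⟨v, hv, rfl⟩ := (hm'.restrict (le_normalizerIn hVT)).mem_img.1 hy
      rw [hj1 v (Subgroup.mem_sup_right hv)]
      exact mem_img_of_mem (hgV ▸ mem_img_of_mem hv)
    have hPimg : img P m' ≤ normalizerIn T V' := img_le fun x hx => hmN x (hPV hx)
    have hcard2 : Nat.card P1 < Nat.card (normalizerIn T V') :=
      lt_of_lt_of_le hgrow (hm'.card_le_of_maps normalizerIn_le hmN)
    have hle2 := card_le_of_le le_rfl (normalizerIn_le : normalizerIn T V' ≤ T)
    have hY2 : Y < normalizerIn T V' := by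
      refine lt_of_le_of_ne (hYV'.trans (le_normalizerIn hV'n.1)) fun e => ?_
      have h4 := card_lt_of_lt hP1 hYlt
      rw [e] at h4
      omega
    have hrel := foc_child_normalizer W hT hF ih hV'n hV'nn hYn hYV' hpY hD
      (fun P' k hP' hk hki => ihm _ (by omega) _ rfl normalizerIn_le hY2.le
        (Or.inr ⟨hY2, by omega⟩) P' k
        (hP'.trans ((le_normalizerIn normalizerIn_le).trans
          (normalizerIn_le_normalizerIn_wQuot W hW2 hT normalizerIn_le hY2.le hTY))) hk hki)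
      hPimg (hg'.source_congr hsupD.symm) hg'V
    intro x hx
    have h1 := hm'E x (hPV hx)
    have h2 := hrel (m' x) (mem_img_of_mem hx)
    rw [hj1 x (Subgroup.mem_sup_left hx)] at h2
    have h3 := hm'E (g x) (hgD x (Subgroup.mem_sup_left hx))
    have h4 := D.mul_mem (D.mul_mem h1 h2) (D.inv_mem h3)
    simpa [mul_assoc] using h4
  -- the automorphism
  have hP1 : R ≤ normalizerIn T R := le_normalizerIn hR.1
  refine mor_relExt.2 ⟨hαm, foc_child_normalizer W hT hF ih hR hRn hYn hYR hpY hD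
    (fun P g hP hg hgi => climb _ normalizerIn_le (hYR.trans hP1) ?_ P g
      (hP.trans ((le_normalizerIn normalizerIn_le).trans
        (normalizerIn_le_normalizerIn_wQuot W hW2 hT normalizerIn_le (hYR.trans hP1) hTY))) hg hgi)
    hP1 (hαm.source_congr (sup_idem R).symm) (img_autFun α)⟩
  by_cases hRT : R = T
  · left
    rw [hRT, normalizerIn_self]
  · right
    have h1 := normalizer_growth hT le_rfl (lt_of_le_of_ne hR.1 hRT)
    exact ⟨lt_of_le_of_lt hYR h1, card_lt_of_lt normalizerIn_le h1⟩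

include hW1 hW2 in
theorem focClaim [Fact p.Prime] (hctl : ∀ (L : Type u) [Group L] [Finite L],
      PLocal.TransferControl.Ctl p ({W} : Set (∀ (Q : Type u) [Group Q], Subgroup Q)) L) :
    ∀ n, FocClaim Ω p W n := by
  intro n
  induction n using Nat.strong_induction_on with
  | _ n ih =>
  intro T F hfinT hT hF hn X D hX hp hD h
  subst hn
  by_cases hc : F.IsCentric F.core
  · exact fun P f hf => foc_constrained W hW2 hT hF hctl ⟨hW1, hW2⟩ hc hX hp hD h hf
  set Y := F.core with hYdef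
  by_cases hpY : PAct F p Y
  · exact foc_climb W hW1 hW2 hT hF ih hc hpY hX hp hD h
  intro P f hf
  have hYn : F.IsNormal Y := isNormal_core F
  have hYsc := stronglyClosed_of_isNormal hYn
  have hXY : X ≤ Y := le_sSup hX
  have hTY : T ≤ normalizerIn T Y := le_inf le_rfl (StronglyClosed.le_normalizer hYsc)
  -- the product with the centralizer
  set C := centralizerIn T Y with hC
  set U := Y ⊔ C with hU
  have hUT : U ≤ T := sup_le hYn.1 centralizerIn_le
  have hNU : normalizerIn T U = T := by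
    refine le_antisymm normalizerIn_le fun c hc =>
      mem_normalizerIn_of_conj hUT hc fun y hy => ?_
    have hconj : Mor F T (fun x => c * x * c⁻¹) := mor_conj le_rfl hc
    have h1 : img U (fun x => c * x * c⁻¹) ≤ U := by
      rw [hconj.img_sup hYn.1 centralizerIn_le]
      refine sup_le_sup (img_le fun y hy => StronglyClosed.conj_mem hYsc hc hy)
        (img_le fun y hy => ?_)
      have h2 := hconj.mem_centralizerIn hYn.1 (centralizerIn_le hy) hy
      rwa [hconj.restrict hYn.1 |>.img_eq_of_card_le hYn.1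
        (fun y hy => StronglyClosed.conj_mem hYsc hc hy) le_rfl] at h2
    exact h1 (mem_img_of_mem hy)
  have hUfn : F.IsFullyNormalized U := ⟨hUT, fun R _ => by
    rw [hNU]
    exact Nat.card_le_card_of_injective _ (Subgroup.inclusion_injective normalizerIn_le)⟩
  have hUn : ¬ F.IsNormal U := fun hn => by
    have hUc : F.IsCentric U := centric_of_isNormal hn
      (le_trans (inf_le_inf_left T (Subgroup.centralizer_le (SetLike.coe_subset_coe.2 le_sup_left)))
        le_sup_right)
    exact hc (centric_of_le hUc (le_sSup (a := U) hn) hYn.1)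
  have hYfn : F.IsFullyNormalized Y := ⟨hYn.1, fun R hR => by
    obtain ⟨g, hg, rfl⟩ := isConj_iff.1 hR
    rw [hg.img_eq_of_card_le hYn.1 (fun x hx => StronglyClosed.mem hYsc hg hx hx) le_rfl]⟩
  have hd := localData_innerOn hT hF hYsc hTY
  set EC := localExt F Y T (InnerOn T Y) hYsc.1 (qCond_innerOn T Y) (innerOn_conj_mem hTY) with hEC
  have hECp : PAct EC p Y := by
    intro f hf
    obtain ⟨-, -, k, -, hke, -, t, ht, hte⟩ := mor_localExt_iff.1 hf
    obtain ⟨a, ha⟩ := hT ⟨t, ht⟩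
    have hit : ∀ n : ℕ, ∀ x ∈ Y, f^[n] x = t ^ n * x * (t ^ n)⁻¹ := by
      intro n
      induction n with
      | zero => intro x _; simp
      | succ n ihn =>
        intro x hx
        have h1 : t ^ n * x * (t ^ n)⁻¹ ∈ Y := StronglyClosed.conj_mem hYsc (T.pow_mem ht n) hx
        rw [Function.iterate_succ_apply', ihn x hx, ← hke _ h1, hte _ h1, pow_succ']
        group
    refine ⟨a, fun x hx => ?_⟩
    rw [hit _ x hx, show t ^ p ^ a = 1 from congrArg Subtype.val ha]
    simp
  obtain ⟨k, hk, hke, hkY⟩ := (isNormal_iff.1 hYn).2 P f hf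
  obtain ⟨j, hj, hj1, hj2, hji⟩ := (hk.restrict le_sup_right).exists_inv
  rw [hkY] at hj hj2 hji
  obtain ⟨γ, hγ, hγe⟩ :=
    (isReceptive_iff.1 (receptive_of_fullyNormalized hT hF hYfn)).2 Y j hj hji
  set N := extN T Y j with hN
  have hUD : U ≤ N := sup_le hj.le_extN centralizerIn_le_extN
  have hγY : img Y γ = Y := (img_congr hγe).trans hji
  have hγU : img U γ = U := by
    refine (hγ.restrict hUD).img_eq_of_card_le hUT (fun y hy => ?_) le_rfl
    have h1 : img U γ ≤ U := by
      rw [(hγ.restrict hUD).img_sup le_sup_left le_sup_right]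
      refine sup_le_sup hγY.le (img_le fun y hy => ?_)
      have h2 := hγ.mem_centralizerIn hj.le_extN (hUD (Subgroup.mem_sup_right hy)) hy
      rwa [hγY] at h2
    exact h1 (mem_img_of_mem hy)
  have hγrel := foc_child_normalizer W hT hF ih hUfn hUn hX (hXY.trans le_sup_left) hp hD
    (by rw [hNU]; exact h) (P := N) (hNU.symm ▸ extN_le)
    (hγ.source_congr (sup_eq_left.2 hUD).symm) hγU
  have hkD : ∀ x ∈ P ⊔ Y, k x ∈ N := by
    intro c hc
    refine ⟨hTY (hk.mem hc), c, hk.le hc, fun y hy => ?_⟩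
    obtain ⟨hjy, hjY⟩ := hj2 y hy
    have hcy : c * j y * c⁻¹ ∈ Y := StronglyClosed.conj_mem hYsc (hk.le hc) hjY
    rw [← hj1 _ hcy, hk.map_conj hc (Subgroup.mem_sup_right hjY), hjy]
  have hδ : Mor F (P ⊔ Y) (fun x => γ (k x)) := hγ.comp hk hkD
  have hδY : ∀ x ∈ Y, γ (k x) = x := fun x hx => by
    rw [hγe _ (hkY ▸ mem_img_of_mem hx), hj1 x hx]
  have hδC : Mor EC (P ⊔ Y) (fun x => γ (k x)) :=
    mor_localExt_iff.2 ⟨hk.le, fun x hx => hδ.mem hx, _,
      hδ.source_congr (sup_eq_left.2 le_sup_right).symm, fun x _ => rfl,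
      (img_congr hδY).trans (img_id Y), 1, T.one_mem, fun x hx => by
        show γ (k x) = _
        rw [hδY x hx]
        simp⟩
  have hδrel := foc_child W hT hF ih (qCond_innerOn T Y) hd hYn.1
    (fun hall => hpY fun f hf => hECp f (hall Y f hf)) hX hXY (fun f hf => hp f (hd.sub hf)) hD h
    hδC
  intro x hx
  have h1 := hδrel x (Subgroup.mem_sup_left hx)
  have h2 := hγrel (k x) (hkD x (Subgroup.mem_sup_left hx))
  rw [hke x hx] at h1 h2
  have h3 := D.mul_mem h1 (D.inv_mem h2)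
  simpa [mul_assoc] using h3

include hW1 hW2 in
/-- A functor with the local condition controls transfer. -/
theorem focal_eq_of_ctl [Finite T] [Fact p.Prime] (hT : IsPGroup p T) (hF : F.IsSaturated p)
    (hctl : ∀ (L : Type u) [Group L] [Finite L],
      PLocal.TransferControl.Ctl p ({W} : Set (∀ (Q : Type u) [Group Q], Subgroup Q)) L)
    (N : FusionSystem (normalizerIn T (wSub W T))) (hN : F.IsNormalizerSystem (wSub W T) N) :
    N.focalSubgroup = F.focalSubgroup := by
  have hWT : wSub W T ≤ T := wSub_le W T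
  have hNT : normalizerIn T (wSub W T) = T := by
    refine le_antisymm normalizerIn_le ?_
    have h1 := normalizerIn_le_normalizerIn_wSub W hW2 hT (le_rfl : T ≤ T)
    rwa [normalizerIn_self] at h1
  have hmor : ∀ P g, Mor N P g ↔
      Mor (normalizerExt F (wSub W T) (normalizerIn T (wSub W T)) hWT le_rfl) P g := fun P g => by
    rw [mor_of_isNormalizerSystem hN hWT, mor_normalizerExt_iff]
  refine le_antisymm (focal_le_iff.2 fun P g hg x hx => ?_) (focal_le_iff.2 ?_)
  · obtain ⟨-, -, k, hk, hke, -⟩ := mor_normalizerExt_iff.1 ((hmor P g).1 hg)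
    exact mem_focal ((hk.restrict le_sup_left).congr hke) hx
  · refine fun P f hf x hx => focClaim W hW1 hW2 hctl _ T F inferInstance hT hF rfl ⊥
      N.focalSubgroup isNormal_bot (fun g hg => ⟨0, fun x hx => ?_⟩) ?_ ?_ P f hf x hx
    · rw [Subgroup.mem_bot] at hx
      subst hx
      simpa using hg.map_one
    · refine le_trans (le_of_eq ?_) (commutator_le_focal (F := N))
      rw [hNT]
    · intro P g hP hg hgi x hx
      rw [wQuot_bot W hW2 hT] at hg hgi
      refine mem_focal ((hmor P g).2 (mor_normalizerExt_iff.2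
        ⟨hP.trans hNT.ge, fun y hy => hNT.ge (hg.mem (Subgroup.mem_sup_left hy)), g, hg,
          fun y _ => rfl, hgi⟩)) hx

end Cfsg.Lib.Fusion
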