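import Mathlib
import Cfsg.Agent.Lib.Fusion.FocalControl
import Cfsg.Agent.Lib.PLocal.KInfTransfer
import Cfsg.Agent.Lib.PLocal.TransferApplications

/-!
For `p ≥ 5` a `p`-group as automizer of the Sylow subgroup makes the focal subgroup proper.
-/

set_option autoImplicit false
set_option linter.style.haveILetI false

open scoped Classical commutatorElement

namespace Cfsg.Lib.Fusion

open Cfsg Cfsg.FusionSystem Cfsg.Lib.PLocal.TransferControl

universe u

variable {Ω : Type u} [Group Ω] {S : Subgroup Ω} {F : FusionSystem S} {p : ℕ}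

theorem focal_lt_of_autP [Finite S] [Fact p.Prime] (hS : IsPGroup p S) (hF : F.IsSaturated p)
    (hp : 5 ≤ p) (hS1 : S ≠ ⊥) (haut : IsPGroup p ↥(F.autGroup S)) : F.focalSubgroup < S := by
  set W : ∀ (Q : Type u) [Group Q], Subgroup Q := fun Q _ => kInfLower Q with hWdef
  have hW : IsCharPFunctor.{u} p W := PLocal.KInfSmall.isCharPFunctor_lower p
  have hctl : ∀ (L : Type u) [Group L] [Finite L],
      Ctl p ({W} : Set (∀ (Q : Type u) [Group Q], Subgroup Q)) L := fun L _ _ =>
    PLocal.KInfSmall.ctl_kInf hp W hW (fun L _ _ S h => h.1) L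
  set K := wSub W S
  have hKS : K ≤ S := wSub_le W S
  set T := normalizerIn S K
  have hTS : T = S := by
    refine le_antisymm normalizerIn_le ?_
    have h1 := normalizerIn_le_normalizerIn_wSub W hW.2 hS (le_rfl : S ≤ S)
    rwa [normalizerIn_self] at h1
  have hKfn : F.IsFullyNormalized K := ⟨hKS, fun R _ => by
    show Nat.card (normalizerIn S R) ≤ Nat.card T
    rw [hTS]
    exact Nat.card_le_card_of_injective _ (Subgroup.inclusion_injective normalizerIn_le)⟩
  set N := normalizerExt F K T hKS le_rfl with hN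
  have hfoc := focal_eq_of_ctl W hW.1 hW.2 hS hF hctl N (isNormalizerSystem_normalizerExt hKS)
  have := finite_of_le (normalizerIn_le : T ≤ S)
  have hT : IsPGroup p T := isPGroup_of_le hS normalizerIn_le
  have hd := localData_normalizerExt hS hF hKfn
  have hNsat : N.IsSaturated p := LocalData.saturated (qCond_true K) hd hS hF
  have hKT : K ≤ T := le_normalizerIn hKS
  have hKn : N.IsNormal K := by
    refine isNormal_iff.2 ⟨hKT, fun P f hf => ?_⟩
    obtain ⟨hP, hfT, k, hk, hke, hkQ⟩ := mor_normalizerExt_iff.1 hf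
    refine ⟨k, mor_normalizerExt_iff.2 ⟨sup_le hP hKT, fun x hx => ?_, k,
      hk.source_congr (sup_eq_left.2 le_sup_right).symm, fun x _ => rfl, hkQ⟩, hke, hkQ⟩
    have h1 : img (P ⊔ K) k ≤ T := by
      rw [hk.img_sup le_sup_left le_sup_right, hkQ]
      exact sup_le (img_le fun y hy => hke y hy ▸ hfT y hy) hKT
    exact h1 (mem_img_of_mem hx)
  have hKc : N.IsCentric K := by
    refine centric_of_isNormal hKn fun c hc => ?_
    have hcS : c ∈ S := normalizerIn_le (centralizerIn_le hc)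
    refine ⟨⟨c, hcS⟩, (PLocal.KInf.centralizer_kInf_le hS).1
      (Subgroup.mem_centralizer_iff.2 fun y hy => Subtype.ext ?_), rfl⟩
    exact Subgroup.mem_centralizer_iff.1 (Subgroup.mem_inf.1 hc).2 (y : Ω) ⟨y, hy, rfl⟩
  obtain ⟨L, _, ι, ⟨hfin, hι, ⟨P, hP⟩, -⟩, -⟩ := exists_model hT hNsat hKn hKc
  have hPne : (P : Subgroup L) ≠ ⊥ := fun e => hS1 (by
    rw [← hTS, eq_bot_iff]
    intro x hx
    have h1 : ι ⟨x, hx⟩ = 1 := Subgroup.mem_bot.1 (e ▸ hP.ge ⟨_, rfl⟩)
    exact congrArg Subtype.val (hι.1 (h1.trans (map_one ι).symm)))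
  have hNP : ∀ g ∈ Subgroup.normalizer ((P : Subgroup L) : Set L), (orderOf g).Coprime p →
      g ∈ Subgroup.centralizer ((P : Subgroup L) : Set L) := by
    intro g hg hgc
    have hgR : ∀ x ∈ T, g * iotaFun ι x * g⁻¹ ∈ ι.range := fun x hx => by
      rw [← hP]
      refine (Subgroup.mem_normalizer_iff.1 hg _).1 ?_
      rw [hP, iotaFun_apply ι hx]
      exact ⟨_, rfl⟩
    obtain ⟨k, hk, hke⟩ := exists_mor_of_conj_mem hι le_rfl g hgR
    have hkF : Mor F S k := (hd.sub hk).source_congr hTS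
    obtain ⟨α, hα, hαe⟩ := hkF.exists_aut (hkF.img_eq_of_card_le le_rfl (fun z hz => hkF.mem hz) le_rfl)
    obtain ⟨a, ha⟩ := haut ⟨α, hα⟩
    have hit : ∀ n : ℕ, ∀ x ∈ T, autFun (α ^ n) x ∈ T ∧
        iotaFun ι (autFun (α ^ n) x) = g ^ n * iotaFun ι x * (g ^ n)⁻¹ := by
      intro n
      induction n with
      | zero =>
        intro x hx
        have e : autFun (α ^ 0) x = x := by simp [autFun_apply _ (normalizerIn_le hx)]
        rw [e]
        exact ⟨hx, by simp⟩
      | succ n ih =>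
        intro x hx
        obtain ⟨h1, h2⟩ := ih x hx
        rw [pow_succ' α, autFun_mul _ _ (normalizerIn_le hx), hαe _ (normalizerIn_le h1)]
        refine ⟨hk.mem h1, ?_⟩
        rw [hke _ h1, h2, pow_succ']
        group
    have hgp : g ^ p ^ a ∈ Subgroup.centralizer ((P : Subgroup L) : Set L) := by
      refine Subgroup.mem_centralizer_iff.2 fun y hy => ?_
      rw [SetLike.mem_coe, hP] at hy
      obtain ⟨⟨x, hx⟩, rfl⟩ := hy
      have h1 := (hit (p ^ a) x hx).2
      rw [show α ^ p ^ a = 1 from congrArg Subtype.val ha,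
        show autFun (1 : MulAut ↥S) x = x by simp [autFun_apply _ (normalizerIn_le hx)],
        iotaFun_apply ι hx] at h1
      exact (mul_inv_eq_iff_eq_mul.1 h1.symm).symm
    obtain ⟨m, hm⟩ := exists_pow_eq_self_of_coprime
      ((Nat.Coprime.pow_right a hgc).symm : (p ^ a).Coprime (orderOf g))
    exact hm ▸ pow_mem hgp m
  obtain ⟨M, hMn, hMi⟩ := exists_index_prime_of_ctl hW (fun L _ _ _ => hctl L) L (involves_refl L)
    P hPne hNP
  have hcom : commutator L ≤ M := by
    haveI := hMn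
    have hc : Nat.card (L ⧸ M) = p := by rw [← Subgroup.index_eq_card, hMi]
    haveI : IsCyclic (L ⧸ M) := isCyclic_of_prime_card hc
    rw [commutator_def, Subgroup.commutator_le]
    intro a _ b _
    rw [← QuotientGroup.eq_one_iff, ← QuotientGroup.mk'_apply, map_commutatorElement,
      commutatorElement_eq_one_iff_commute]
    haveI : IsMulCommutative (L ⧸ M) := IsCyclic.isMulCommutative
    exact IsMulCommutative.is_comm.comm _ _
  have hle : N.focalSubgroup ≤ ((M ⊓ ι.range).comap ι).map T.subtype := by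
    refine focal_le_iff.2 fun R f hf x hx => ?_
    obtain ⟨g, hg⟩ := exists_conj_of_mor hι hf
    refine ⟨⟨x, hf.le hx⟩⁻¹ * ⟨f x, hf.mem hx⟩, ⟨hcom ?_, ⟨_, rfl⟩⟩, rfl⟩
    rw [map_mul, map_inv, ← iotaFun_apply ι (hf.mem hx), hg x hx, iotaFun_apply ι (hf.le hx),
      show (ι ⟨x, hf.le hx⟩)⁻¹ * (g * ι ⟨x, hf.le hx⟩ * g⁻¹) = ⁅(ι ⟨x, hf.le hx⟩)⁻¹, g⁆ by
        simp [commutatorElement_def, mul_assoc], commutator_def]
    exact Subgroup.commutator_mem_commutator (Subgroup.mem_top _) (Subgroup.mem_top _)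
  rw [← hfoc]
  refine lt_of_le_of_ne (hle.trans ((Subgroup.map_subtype_le _).trans normalizerIn_le)) fun e => ?_
  refine P.not_dvd_index ?_
  have hPM : (P : Subgroup L) ≤ M := by
    rw [hP]
    rintro _ ⟨⟨x, hx⟩, rfl⟩
    obtain ⟨w, hw, hwx⟩ := hle (e.ge (normalizerIn_le hx))
    exact (Subtype.ext hwx : w = ⟨x, hx⟩) ▸ hw.1
  exact (hMi.symm.dvd).trans (Subgroup.index_dvd_of_le hPM)

end Cfsg.Lib.Fusion
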