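import Mathlib
import Cfsg.Agent.Lib.Fusion.QdFree
import Cfsg.Agent.Lib.Fusion.GlaubermanControl
import Cfsg.Agent.Lib.Fusion.Normal
import Cfsg.Agent.Lib.PLocal.ZJ

/-!
Control of fusion by the normalizer of `Z(J(S))` when no local subgroup has an `SL(2,p)` section.
-/

set_option autoImplicit false
set_option linter.style.haveILetI false

open scoped Matrix

namespace Cfsg.Lib.Fusion.LocalFree

open Cfsg Cfsg.FusionSystem Cfsg.Lib.PStable

universe u

variable {G : Type u} [Group G] [Finite G] {p : ℕ} [hp : Fact p.Prime]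

/-- `SL(2,p)` induced on a section gives a section of the acting subgroup. -/
theorem section_of_act (N Q : Subgroup G) (π : Q → (Fin 2 → ZMod p)) (hπ : Function.Surjective π)
    (hall : ∀ m, ∃ y ∈ N, Acts Q π y m) :
    ∃ (H K : Subgroup G) (_ : (K.subgroupOf H).Normal), H ≤ N ∧
      Nonempty ((H ⧸ K.subgroupOf H) ≃* Matrix.SpecialLinearGroup (Fin 2) (ZMod p)) := by
  classical
  let H : Subgroup G :=
    { carrier := {y | y ∈ N ∧ ∃ m, Acts Q π y m}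
      one_mem' := ⟨one_mem N, 1, fun v => ⟨by simp, by simp⟩⟩
      mul_mem' := by
        rintro a b ⟨ha, m, hm⟩ ⟨hb, m', hm'⟩
        refine ⟨mul_mem ha hb, m * m', fun v => ?_⟩
        obtain ⟨h1, e1⟩ := hm' v
        obtain ⟨h2, e2⟩ := hm ⟨_, h1⟩
        have e : a * b * (v : G) * (a * b)⁻¹ = a * (b * v * b⁻¹) * a⁻¹ := by group
        refine ⟨e ▸ h2, ?_⟩
        rw [Matrix.SpecialLinearGroup.coe_mul, ← Matrix.mulVec_mulVec, ← e1, ← e2]
        exact congrArg π (Subtype.ext e)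
      inv_mem' := by
        rintro a ⟨ha, m, hm⟩
        refine ⟨inv_mem ha, m⁻¹, fun v => ?_⟩
        have hN : a ∈ Subgroup.normalizer (Q : Set G) :=
          PLocal.mem_normalizer_of_conj_le fun x hx => (hm ⟨x, hx⟩).1
        have h1 : a⁻¹ * (v : G) * a⁻¹⁻¹ ∈ Q := (Subgroup.mem_normalizer_iff.1 (inv_mem hN) v).1 v.2
        refine ⟨h1, ?_⟩
        obtain ⟨h2, e2⟩ := hm ⟨_, h1⟩
        have e3 : (⟨_, h2⟩ : Q) = v := Subtype.ext (by simp [mul_assoc])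
        rw [← congrArg π e3, e2, Matrix.mulVec_mulVec, ← Matrix.SpecialLinearGroup.coe_mul, inv_mul_cancel,
          Matrix.SpecialLinearGroup.coe_one, Matrix.one_mulVec] }
  have huniq : ∀ (y : G) (m m' : Matrix.SpecialLinearGroup (Fin 2) (ZMod p)),
      Acts Q π y m → Acts Q π y m' → m = m' := by
    intro y m m' h h'
    refine Subtype.ext (Matrix.ext_iff_mulVec.2 fun w => ?_)
    obtain ⟨v, rfl⟩ := hπ w
    obtain ⟨_, e⟩ := h v
    obtain ⟨_, e'⟩ := h' v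
    exact e.symm.trans e'
  have hex : ∀ y : H, ∃ m, Acts Q π (y : G) m := fun y => y.2.2
  choose ρ hρ using hex
  let f : H →* Matrix.SpecialLinearGroup (Fin 2) (ZMod p) := MonoidHom.mk' ρ fun a b => by
    refine huniq _ _ _ (hρ (a * b)) fun v => ?_
    obtain ⟨h1, e1⟩ := hρ b v
    obtain ⟨h2, e2⟩ := hρ a ⟨_, h1⟩
    have e : ((a * b : H) : G) * (v : G) * ((a * b : H) : G)⁻¹ = (a : G) * ((b : G) * v * (b : G)⁻¹) * (a : G)⁻¹ := by
      rw [Subgroup.coe_mul]; group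
    refine ⟨e ▸ h2, ?_⟩
    rw [Matrix.SpecialLinearGroup.coe_mul, ← Matrix.mulVec_mulVec, ← e1, ← e2]
    exact congrArg π (Subtype.ext e)
  have hf : Function.Surjective f := fun m => by
    obtain ⟨y, hyN, hy⟩ := hall m
    exact ⟨⟨y, hyN, m, hy⟩, huniq y _ _ (hρ ⟨y, hyN, m, hy⟩) hy⟩
  have hK : (f.ker.map H.subtype).subgroupOf H = f.ker :=
    Subgroup.comap_map_eq_self_of_injective H.subtype_injective _
  haveI hn : ((f.ker.map H.subtype).subgroupOf H).Normal := by rw [hK]; infer_instance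
  exact ⟨H, f.ker.map H.subtype, hn, fun y hy => hy.1,
    ⟨(QuotientGroup.quotientMulEquivOfEq hK).trans (QuotientGroup.quotientKerEquivOfSurjective f hf)⟩⟩

theorem sectionFree (S : Sylow p G)
    (hfree : ∀ P : Subgroup G, (S : Subgroup G) ⊓ Subgroup.centralizer ((S : Subgroup G) : Set G) ≤ P → P ≤ S →
      ¬ ∃ (H K : Subgroup G) (_ : (K.subgroupOf H).Normal), H ≤ Subgroup.normalizer (P : Set G) ∧
        Nonempty ((H ⧸ K.subgroupOf H) ≃* Matrix.SpecialLinearGroup (Fin 2) (ZMod p))) :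
    (groupFusionSystem (S : Subgroup G)).IsSectionFree p ↥(Cfsg.qd p) := by
  intro Q hQ hQc N hN L _ ι hmodel hinv
  obtain ⟨hfin, ⟨hι, hreal⟩, ⟨TL, hTL⟩, -⟩ := hmodel
  haveI := hfin
  obtain ⟨Q1, π, hQ1, hπ, hadd, hall⟩ := act_of_involves TL hinv
  rw [hTL] at hQ1
  set Q2 : Subgroup ↥(normalizerIn (S : Subgroup G) Q) := Q1.comap ι with hQ2
  set Q3 : Subgroup G := Q2.map (normalizerIn (S : Subgroup G) Q).subtype with hQ3
  have hmemQ : ∀ v : Q3, ∃ t : ↥(normalizerIn (S : Subgroup G) Q), (t : G) = v ∧ ι t ∈ Q1 := by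
    rintro ⟨_, ⟨t, ht, rfl⟩⟩
    exact ⟨t, rfl, ht⟩
  choose tv htv htQ using hmemQ
  have huniq : ∀ (v : Q3) (t : ↥(normalizerIn (S : Subgroup G) Q)), (t : G) = v → t = tv v := fun v t h =>
    Subtype.ext (h.trans (htv v).symm)
  have hZQ : (S : Subgroup G) ⊓ Subgroup.centralizer ((S : Subgroup G) : Set G) ≤ Q := by
    intro z hz
    refine hQc.2 Q (isConj_refl hQc.1) ?_
    exact Subgroup.mem_inf.2 ⟨hz.1, Subgroup.centralizer_le hQc.1 hz.2⟩
  refine hfree Q hZQ hQc.1 (section_of_act (Subgroup.normalizer (Q : Set G)) Q3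
    (fun v => π ⟨ι (tv v), htQ v⟩) ?_ ?_)
  · intro c
    obtain ⟨⟨w, hw⟩, hwc⟩ := hπ c
    obtain ⟨t, rfl⟩ := hQ1 hw
    refine ⟨⟨t, ⟨t, hw, rfl⟩⟩, ?_⟩
    rw [← hwc]
    exact congrArg π (Subtype.ext (congrArg ι (huniq ⟨t, ⟨t, hw, rfl⟩⟩ t rfl).symm))
  · intro m
    obtain ⟨y, hy⟩ := hall m
    have hin : ∀ v : Q3, ∃ t : ↥(normalizerIn (S : Subgroup G) Q), ι t = y * ι (tv v) * y⁻¹ := fun v =>
      (hQ1 (hy ⟨_, htQ v⟩).1)
    choose t' ht' using hin
    let φ : Q3 →* G := MonoidHom.mk' (fun v => (t' v : G)) fun v w => by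
      show (t' (v * w) : G) = ((t' v * t' w : ↥(normalizerIn (S : Subgroup G) Q)) : G)
      refine congrArg Subtype.val (hι ?_)
      rw [map_mul, ht', ht', ht', ← huniq (v * w) (tv v * tv w) (by simp [htv]), map_mul]
      group
    have hφ : φ ∈ N.Hom Q3 := by
      refine (hreal Q3 (Subgroup.map_subtype_le _) φ fun v => (t' v).2).2 ⟨y, fun v => ?_⟩
      show ι (t' v) = _
      rw [ht', huniq v ⟨(v : G), _⟩ rfl]
    obtain ⟨-, -, k, hk, hke, hkQ⟩ := (mor_of_isNormalizerSystem hN hQ.1 Q3 _).1 (mor_extFun hφ)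
    obtain ⟨-, g, hg⟩ := mor_group_iff.1 hk
    have hgN : g ∈ Subgroup.normalizer (Q : Set G) := PLocal.mem_normalizer_of_conj_le fun x hx => by
      have h1 := mem_img_of_mem (f := k) hx
      rw [hkQ, (hg x (Subgroup.mem_sup_right hx)).1] at h1
      exact h1
    refine ⟨g, hgN, fun v => ?_⟩
    have hgv : g * (v : G) * g⁻¹ = (t' v : G) := by
      rw [← (hg v (Subgroup.mem_sup_left v.2)).1, hke v v.2, extFun_coe]
      rfl
    obtain ⟨h1, h2⟩ := hy ⟨_, htQ v⟩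
    have h3 : g * (v : G) * g⁻¹ ∈ Q3 := hgv ▸ ⟨t' v, show ι (t' v) ∈ Q1 from (ht' v).symm ▸ h1, rfl⟩
    refine ⟨h3, ?_⟩
    rw [← h2]
    refine congrArg π (Subtype.ext ?_)
    show ι (tv ⟨_, h3⟩) = _
    rw [← huniq ⟨_, h3⟩ (t' v) hgv.symm, ht']

/-- S3071. -/
theorem fusion_controlled (hp2 : p ≠ 2) (S : Sylow p G)
    (hfree : ∀ P : Subgroup G, (S : Subgroup G) ⊓ Subgroup.centralizer ((S : Subgroup G) : Set G) ≤ P → P ≤ S →
      ¬ ∃ (H K : Subgroup G) (_ : (K.subgroupOf H).Normal), H ≤ Subgroup.normalizer (P : Set G) ∧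
        Nonempty ((H ⧸ K.subgroupOf H) ≃* Matrix.SpecialLinearGroup (Fin 2) (ZMod p))) :
    ∀ x ∈ S, ∀ y ∈ S, (∃ g : G, g * x * g⁻¹ = y) ↔
      ∃ n ∈ Subgroup.normalizer (Cfsg.centerThompsonAOf (S : Subgroup G) : Set G), n * x * n⁻¹ = y := by
  have hF := saturated_group S
  have hn := isNormal_wSub_of_free (fun Q => fZJ Q) (fun Q _ _ hQ hn => fZJ_ne_bot Q hQ hn)
    (fun Q R _ _ _ hQ φ => fZJ_map Q R hQ φ) S.isPGroup' hF (sectionFree S hfree)
    (functorControl_fZJ hp2)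
  rw [show wSub (fun Q => fZJ Q) (S : Subgroup G) = Cfsg.centerThompsonAOf (S : Subgroup G) from
    (fZJ_map_subtype _).trans (PLocal.centerThompsonAOf_eq _).symm] at hn
  obtain ⟨hWS, hext⟩ := isNormal_iff.1 hn
  intro x hx y hy
  refine ⟨fun ⟨g, hg⟩ => ?_, fun ⟨n, _, hn⟩ => ⟨n, hn⟩⟩
  have hz : ∀ w ∈ Subgroup.zpowers x, g * w * g⁻¹ ∈ (S : Subgroup G) := by
    intro w hw
    obtain ⟨i, rfl⟩ := Subgroup.mem_zpowers_iff.1 hw
    rw [← conj_zpow, hg]
    exact zpow_mem hy i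
  have hmor : Mor (groupFusionSystem (S : Subgroup G)) (Subgroup.zpowers x) (fun w => g * w * g⁻¹) :=
    mor_group_iff.2 ⟨Subgroup.zpowers_le.2 hx, g, fun w hw => ⟨rfl, hz w hw⟩⟩
  obtain ⟨k, hk, hke, hkW⟩ := hext _ _ hmor
  obtain ⟨-, c, hc⟩ := mor_group_iff.1 hk
  refine ⟨c, PLocal.mem_normalizer_of_conj_le fun w hw => ?_, ?_⟩
  · have h1 := mem_img_of_mem (f := k) hw
    rw [hkW, (hc w (Subgroup.mem_sup_right hw)).1] at h1
    exact h1
  · rw [← (hc x (Subgroup.mem_sup_left (Subgroup.mem_zpowers x))).1,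
      hke x (Subgroup.mem_zpowers x)]
    exact hg

end Cfsg.Lib.Fusion.LocalFree
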