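import Mathlib
import Cfsg.Agent.Lib.Fusion.NormalCriteria

/-!
A fixed line of a two-dimensional section of a strongly closed subgroup is strongly closed as soon
as the torus contradiction applies.
-/

set_option autoImplicit false

open scoped Classical

namespace Cfsg.Lib.Fusion

open Cfsg Cfsg.FusionSystem

variable {Ω : Type*} [Group Ω] {S : Subgroup Ω} {F : FusionSystem S}

theorem Mor.map_pow' {P : Subgroup Ω} {f : Ω → Ω} (h : Mor F P f) {x : Ω} (hx : x ∈ P) (n : ℕ) :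
    f (x ^ n) = f x ^ n := by
  induction n with
  | zero => simp [h.map_one]
  | succ n ih => rw [pow_succ, h.map_mul (P.pow_mem hx n) hx, ih, pow_succ]

theorem Mor.map_zpow' {P : Subgroup Ω} {f : Ω → Ω} (h : Mor F P f) {x : Ω} (hx : x ∈ P) (n : ℤ) :
    f (x ^ n) = f x ^ n := by
  obtain ⟨m, rfl | rfl⟩ := Int.eq_nat_or_neg n
  · rw [zpow_natCast, zpow_natCast, h.map_pow' hx]
  · rw [zpow_neg, zpow_natCast, h.map_inv (P.pow_mem hx m), h.map_pow' hx, zpow_neg, zpow_natCast]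

theorem zpow_eq_of_dvd {x : Ω} {p : ℕ} (hx : x ^ p = 1) {i j : ℤ} (h : (p : ℤ) ∣ i - j) :
    x ^ i = x ^ j := by
  obtain ⟨c, hc⟩ := h
  rw [show i = j + p * c by linarith, zpow_add, zpow_mul, zpow_natCast, hx, one_zpow, mul_one]

/-- Maps of a fully normalized `V` onto itself extend to its centralizer. -/
theorem exists_extend_selfmap [Finite S] {p : ℕ} [Fact p.Prime] (hS : IsPGroup p S)
    (hF : F.IsSaturated p) {V : Subgroup Ω} (hVS : V ≤ S) (hVn : S ≤ normalizerIn S V)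
    {f : Ω → Ω} (hf : Mor F V f) (hfV : ∀ x ∈ V, f x ∈ V) :
    ∃ e, Mor F (extN S V f) e ∧ ∀ x ∈ V, e x = f x := by
  have hfn : F.IsFullyNormalized V := ⟨hVS, fun Q hQ => by
    have := finite_of_le (normalizerIn_le (S := S) (P := V))
    exact Nat.card_le_card_of_injective _ (Subgroup.inclusion_injective
      ((normalizerIn_le (S := S) (P := Q)).trans hVn))⟩
  have hi : img V f = V := hf.img_eq_of_card_le hVS hfV le_rfl
  exact (isReceptive_iff.1 (receptive_of_fullyNormalized hS hF hfn)).2 V f hf hi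

/-- The torus: if some map sends `v` to `z`, then some self-map of `V = ⟨z, v⟩` squares `z`,
takes a square root of `v`, and normalizes the transvection group generated by `g`. -/
theorem exists_torus [Finite S] {p : ℕ} [hp : Fact p.Prime] (hp2 : p ≠ 2)
    {V : Subgroup Ω} (hVS : V ≤ S) {g z v : Ω} (hgS : g ∈ S) (hzV : z ∈ V) (hvV : v ∈ V)
    (hz : z ^ p = 1) (hv : v ^ p = 1) (hzv : Commute z v)
    (hgen : ∀ x ∈ V, ∃ i j : ℤ, x = z ^ i * v ^ j)
    (hgz : g * z * g⁻¹ = z) (hgv : g * v * g⁻¹ = v * z) (hv1 : v ∉ Subgroup.zpowers z)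
    {α : Ω → Ω} (hα : Mor F V α) (hαV : ∀ x ∈ V, α x ∈ V) (hαv : α v = z) :
    ∃ h, Mor F V h ∧ (∀ x ∈ V, h x ∈ V) ∧ h z = z ^ (2 : ℤ) ∧
      h v = v ^ (((p : ℤ) + 1) / 2) := by
  have hzj : ∀ i j : ℤ, z ^ i * v ^ j ∈ V := fun i j =>
    V.mul_mem (V.zpow_mem hzV i) (V.zpow_mem hvV j)
  obtain ⟨e, f, hef⟩ := hgen _ (hαV z hzV)
  obtain ⟨β, hβ, hβ1, hβ2, -⟩ := hα.exists_inv
  have himg : img V α = V := hα.img_eq_of_card_le hVS hαV le_rfl
  rw [himg] at hβ hβ2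
  have hβV : ∀ x ∈ V, β x ∈ V := by
    intro x hx
    rw [← himg] at hx
    obtain ⟨y, hy, rfl⟩ := hα.mem_img.1 hx
    rw [hβ1 y hy]; exact hy
  have hβz : β z = v := by rw [← hαv, hβ1 v hvV]
  have hf : ¬ (p : ℤ) ∣ f := by
    intro hd
    rw [zpow_eq_of_dvd hv (i := f) (j := 0) (by simpa using hd), zpow_zero, mul_one] at hef
    obtain ⟨c, hc⟩ | he := em (∃ c : ℤ, (p : ℤ) ∣ e * c - 1)
    · have h1 : α (z ^ c) = α v := by
        rw [hα.map_zpow' hzV, hef, hαv, ← zpow_mul, zpow_eq_of_dvd hz hc, zpow_one]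
      exact hv1 (hα.eq_of_eq (V.zpow_mem hzV c) hvV h1 ▸ Subgroup.zpow_mem _ (Subgroup.mem_zpowers z) c)
    · have hd' : (p : ℤ) ∣ e := by
        by_contra hne
        obtain ⟨x, y, hxy⟩ := ((Nat.prime_iff_prime_int.1 hp.out).coprime_iff_not_dvd).2 hne
        exact he ⟨y, -x, by linear_combination hxy⟩
      rw [zpow_eq_of_dvd hz (i := e) (j := 0) (by simpa using hd'), zpow_zero] at hef
      have := hα.eq_of_eq hzV V.one_mem (hef.trans hα.map_one.symm)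
      subst this
      have h1 := hα.map_one
      have h2 : v = 1 := hα.eq_of_eq hvV V.one_mem (by rw [hαv, h1])
      exact hv1 (by rw [h2]; exact one_mem _)
  -- conjugation by powers of `g`
  have hU : ∀ (k : ℕ) (i j : ℤ), g ^ k * (z ^ i * v ^ j) * (g ^ k)⁻¹ = z ^ (i + k * j) * v ^ j := by
    intro k
    induction k with
    | zero => intro i j; simp
    | succ k ih =>
      intro i j
      calc g ^ (k + 1) * (z ^ i * v ^ j) * (g ^ (k + 1))⁻¹
          = g * (g ^ k * (z ^ i * v ^ j) * (g ^ k)⁻¹) * g⁻¹ := by rw [pow_succ']; group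
        _ = g * (z ^ (i + k * j)) * g⁻¹ * (g * v ^ j * g⁻¹) := by rw [ih]; group
        _ = z ^ (i + k * j) * (v * z) ^ j := by rw [← conj_zpow, ← conj_zpow, hgz, hgv]
        _ = _ := by
          rw [hzv.symm.mul_zpow, (hzv.zpow_zpow j j).symm.eq, ← mul_assoc, ← zpow_add]
          push_cast; ring_nf
  have hUmor : ∀ k : ℕ, Mor F V (fun x => g ^ k * x * (g ^ k)⁻¹) ∧
      ∀ x ∈ V, g ^ k * x * (g ^ k)⁻¹ ∈ V := fun k =>
    ⟨mor_conj hVS (S.pow_mem hgS k), fun x hx => by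
      obtain ⟨i, j, rfl⟩ := hgen x hx
      rw [hU]; exact hzj _ _⟩
  -- the opposite transvections
  let σ : Ω → Ω := fun x => β (g ^ 1 * α x * (g ^ 1)⁻¹)
  have hσV : ∀ x ∈ V, σ x ∈ V := fun x hx => hβV _ ((hUmor 1).2 _ (hαV x hx))
  have hσ : Mor F V σ := hβ.comp ((hUmor 1).1.comp hα hαV) fun x hx => (hUmor 1).2 _ (hαV x hx)
  have hσz : σ z = z * v ^ f := by
    show β (g ^ 1 * α z * (g ^ 1)⁻¹) = _
    rw [hef, hU, Nat.cast_one, one_mul, add_comm e f, zpow_add, mul_assoc, ← hef,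
      hβ.map_mul (V.zpow_mem hzV f) (hαV z hzV), hβ.map_zpow' hzV, hβz, hβ1 z hzV]
    exact ((hzv.zpow_right f).eq).symm
  have hσv : σ v = v := by
    show β (g ^ 1 * α v * (g ^ 1)⁻¹) = _
    rw [hαv, pow_one, hgz, hβz]
  have hσk : ∀ k : ℕ, Mor F V (σ^[k]) ∧ (∀ x ∈ V, σ^[k] x ∈ V) ∧
      ∀ i j : ℤ, σ^[k] (z ^ i * v ^ j) = z ^ i * v ^ (j + k * f * i) := by
    intro k
    induction k with
    | zero => exact ⟨mor_id hVS, fun x hx => hx, fun i j => by simp⟩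
    | succ k ih =>
      rw [Function.iterate_succ']
      refine ⟨hσ.comp ih.1 ih.2.1, fun x hx => hσV _ (ih.2.1 x hx), fun i j => ?_⟩
      rw [Function.comp_apply, ih.2.2, hσ.map_mul (V.zpow_mem hzV _) (V.zpow_mem hvV _),
        hσ.map_zpow' hzV, hσ.map_zpow' hvV, hσz, hσv, (hzv.zpow_right f).mul_zpow, ← zpow_mul,
        mul_assoc, ← zpow_add]
      push_cast; ring_nf
  obtain ⟨x₀, y₀, hxy⟩ := ((Nat.prime_iff_prime_int.1 hp.out).coprime_iff_not_dvd).2 hf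
  have hL : ∀ y : ℤ, ∃ k : ℕ, ∀ i j : ℤ, σ^[k] (z ^ i * v ^ j) = z ^ i * v ^ (j + y * i) := by
    intro y
    refine ⟨((y * y₀) % p).toNat, fun i j => ?_⟩
    rw [(hσk _).2.2, Int.toNat_of_nonneg (Int.emod_nonneg _ (Int.natCast_ne_zero.2 hp.out.ne_zero))]
    congr 1
    refine zpow_eq_of_dvd hv ⟨-((y * y₀ / p) * f * i) - y * x₀ * i, ?_⟩
    rw [Int.emod_def]
    linear_combination y * i * hxy
  obtain ⟨k1, hk1⟩ := hL 1
  obtain ⟨k2, hk2⟩ := hL (-2)
  obtain ⟨m, hm⟩ := hp.out.odd_of_ne_two hp2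
  set A := fun x => g ^ 1 * σ^[k1] (g ^ m * σ^[k2] x * (g ^ m)⁻¹) * (g ^ 1)⁻¹
  have hA : ∀ i j : ℤ, A (z ^ i * v ^ j) =
      z ^ (i + m * (j + -2 * i) + (j + -2 * i + 1 * (i + m * (j + -2 * i)))) *
        v ^ (j + -2 * i + 1 * (i + m * (j + -2 * i))) := by
    intro i j
    simp only [A, hk2, hU, hk1]
    push_cast; ring_nf
  refine ⟨A, ((hUmor 1).1.comp ((hσk k1).1.comp ((hUmor m).1.comp (hσk k2).1 (hσk k2).2.1)
    fun x hx => (hUmor m).2 _ ((hσk k2).2.1 x hx)) fun x hx =>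
      (hσk k1).2.1 _ ((hUmor m).2 _ ((hσk k2).2.1 x hx))), fun x hx =>
    (hUmor 1).2 _ ((hσk k1).2.1 _ ((hUmor m).2 _ ((hσk k2).2.1 x hx))), ?_, ?_⟩
  · have := hA 1 0
    simp only [zpow_one, zpow_zero, mul_one] at this
    rw [this]
    have e1 : z ^ ((1 : ℤ) + m * (0 + -2 * 1) + (0 + -2 * 1 + (1 + m * (0 + -2 * 1)))) = z ^ (2 : ℤ) :=
      zpow_eq_of_dvd hz ⟨-2, by rw [hm]; push_cast; ring⟩
    have e2 : v ^ ((0 : ℤ) + -2 * 1 + (1 + m * (0 + -2 * 1))) = v ^ (0 : ℤ) :=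
      zpow_eq_of_dvd hv ⟨-1, by rw [hm]; push_cast; ring⟩
    simp only [one_mul, mul_one] at e1 e2 ⊢
    rw [e1, e2, zpow_zero, mul_one]
  · have := hA 0 1
    simp only [zpow_one, zpow_zero, one_mul] at this
    rw [this, show ((p : ℤ) + 1) / 2 = m + 1 by omega]
    have e1 : z ^ ((0 : ℤ) + m * (1 + -2 * 0) + (1 + -2 * 0 + (0 + m * (1 + -2 * 0)))) = z ^ (0 : ℤ) :=
      zpow_eq_of_dvd hz ⟨1, by rw [hm]; push_cast; ring⟩
    simp only [mul_zero, add_zero, mul_one, zero_add] at e1 ⊢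
    rw [e1, zpow_zero, one_mul, add_comm]

end Cfsg.Lib.Fusion
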