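import Mathlib
import Cfsg.Prelude.Def_OddOrderLocal
import Cfsg.Agent.Lib.Fusion.DerivedOrderP
import Cfsg.Agent.Lib.Fusion.NormalCriteria
import Cfsg.Agent.Lib.Transfer.PGroupFrattini
import Cfsg.Agent.Lib.TwoFus.Presentations

/-!
A strongly closed metacyclic `2`-subgroup that is neither dihedral, semidihedral nor quaternion is
normal in a saturated fusion system.

If `P` is not inside the centric radical subgroup `R`, then some `c` in the cyclic normal subgroup
of `P` acts nontrivially on the Frattini quotient of `W = R ∩ P`, and a conjugate `d` of `u = c²`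
under `Aut_F(R)` satisfies `d c d⁻¹ = c ^ r` with `r ≡ 3 (mod 4)`; this forces maximal class.
-/

set_option autoImplicit false
set_option maxHeartbeats 1600000

open scoped Classical

namespace Cfsg.Lib.Fusion.MetaTwo

open Cfsg Cfsg.FusionSystem

section Groups

variable {G : Type*} [Group G] [Finite G]

/-- In a cyclic `p`-group the cyclic subgroups form a chain. -/
theorem mem_zpowers_or [IsCyclic G] {p : ℕ} [Fact p.Prime] (hG : IsPGroup p G) (a b : G) :
    a ∈ Subgroup.zpowers b ∨ b ∈ Subgroup.zpowers a := by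
  have key : ∀ x y : G, x ^ orderOf y = 1 → x ∈ Subgroup.zpowers y := by
    intro x y h
    let _ := Fintype.ofFinite G
    have hsub : (Finset.univ.filter fun z : G => z ∈ Subgroup.zpowers y) ⊆
        Finset.univ.filter fun z : G => z ^ orderOf y = 1 := by
      intro z hz
      simp only [Finset.mem_filter, Finset.mem_univ, true_and] at hz ⊢
      obtain ⟨i, rfl⟩ := hz
      show (y ^ i) ^ orderOf y = 1
      rw [← zpow_natCast, ← zpow_mul, mul_comm, zpow_mul, zpow_natCast, pow_orderOf_eq_one, one_zpow]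
    have hcard : (Finset.univ.filter fun z : G => z ∈ Subgroup.zpowers y).card = orderOf y := by
      rw [← Nat.card_zpowers, Nat.card_eq_fintype_card, ← Fintype.card_subtype]
    have heq := Finset.eq_of_subset_of_card_le hsub
      (hcard.symm ▸ IsCyclic.card_pow_eq_one_le (orderOf_pos y))
    have hx : x ∈ Finset.univ.filter fun z : G => z ^ orderOf y = 1 := by simp [h]
    rw [← heq] at hx
    simpa using hx
  obtain ⟨i, hi⟩ := IsPGroup.iff_orderOf.1 hG a
  obtain ⟨j, hj⟩ := IsPGroup.iff_orderOf.1 hG b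
  rcases le_total i j with h | h
  · exact Or.inl (key a b (orderOf_dvd_iff_pow_eq_one.1 (by rw [hi, hj]; exact pow_dvd_pow p h)))
  · exact Or.inr (key b a (orderOf_dvd_iff_pow_eq_one.1 (by rw [hi, hj]; exact pow_dvd_pow p h)))

/-- A power of `x` with exponent prime to `p` generates the same cyclic subgroup. -/
theorem mem_zpowers_zpow_of_not_dvd {p : ℕ} [hp : Fact p.Prime] (hG : IsPGroup p G) (x : G) {i : ℤ}
    (hi : ¬ (p : ℤ) ∣ i) : x ∈ Subgroup.zpowers (x ^ i) := by
  obtain ⟨k, hk⟩ := IsPGroup.iff_orderOf.1 hG x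
  have hcop : IsCoprime ((p : ℤ) ^ k) i :=
    (((Nat.prime_iff_prime_int.1 hp.out).coprime_iff_not_dvd).2 hi).pow_left
  obtain ⟨a, b, hab⟩ := hcop
  refine ⟨b, ?_⟩
  show (x ^ i) ^ b = x
  have h1 : x ^ ((p : ℤ) ^ k) = 1 := by
    rw [← Nat.cast_pow, zpow_natCast, ← hk, pow_orderOf_eq_one]
  calc (x ^ i) ^ b = x ^ (a * (p : ℤ) ^ k + b * i) := by
        rw [zpow_add, mul_comm a, zpow_mul x _ a, h1, one_zpow, one_mul, mul_comm b, zpow_mul]
    _ = x := by rw [hab, zpow_one]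

/-- Automorphisms trivial modulo the Frattini subgroup of a `p`-group have `p`-power order. -/
theorem pow_eq_one_of_trivial_mod_frattini {p : ℕ} [hp : Fact p.Prime] (hG : IsPGroup p G)
    (γ : MulAut G) (h : ∀ x, x⁻¹ * γ x ∈ frattini G) : ∃ k : ℕ, γ ^ p ^ k = 1 := by
  have : Finite (MulAut G) :=
    Finite.of_injective (fun f : MulAut G => ((f : G → G))) fun f g e => MulEquiv.ext (congrFun e)
  have hchar := Subgroup.characteristic_iff_map_le.1 (inferInstance : (frattini G).Characteristic)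
  let A : Subgroup (MulAut G) :=
    { carrier := {δ | ∀ x, x⁻¹ * δ x ∈ frattini G}
      one_mem' := fun x => by simp
      mul_mem' := fun {a b} ha hb x => by
        have h1 : a (x⁻¹ * b x) ∈ frattini G := hchar a ⟨_, hb x, rfl⟩
        have h2 := (frattini G).mul_mem (ha x) h1
        rwa [map_mul, map_inv, mul_assoc, mul_inv_cancel_left] at h2
      inv_mem' := fun {a} ha x => by
        have h1 := (frattini G).inv_mem (ha (a⁻¹ x))
        rw [mul_inv_rev, inv_inv, MulAut.apply_inv_self] at h1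
        exact h1 }
  have hA : IsPGroup p A := by
    refine IsPGroup.of_card (n := (Nat.card A).primeFactorsList.length) ?_
    by_contra hne
    obtain ⟨q, hq, hqd, hqp⟩ : ∃ q, q.Prime ∧ q ∣ Nat.card A ∧ q ≠ p := by
      by_contra hall
      push Not at hall
      exact hne (Nat.eq_prime_pow_of_unique_prime_dvd Nat.card_pos.ne' fun {d} hd hd' => hall d hd hd')
    haveI := Fact.mk hq
    obtain ⟨⟨δ, hδ⟩, hord⟩ := exists_prime_orderOf_dvd_card' q hqd
    rw [← Subgroup.orderOf_coe] at hord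
    have hord' : orderOf δ = q := hord
    have hHle : Subgroup.zpowers δ ≤ A := Subgroup.zpowers_le.2 hδ
    have hH : IsPGroup q (Subgroup.zpowers δ) :=
      IsPGroup.of_card (n := 1) (by rw [Nat.card_zpowers, hord', pow_one])
    have hfix : ∀ x : G, x ∈ ({y | δ y = y} : Set G) := by
      let Fx : Subgroup G :=
        { carrier := {y | δ y = y}
          one_mem' := map_one δ
          mul_mem' := fun {a b} ha hb => by
            show δ (a * b) = a * b
            rw [map_mul, ha, hb]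
          inv_mem' := fun {a} ha => by
            show δ a⁻¹ = a⁻¹
            rw [map_inv, ha] }
      have htop : Fx ⊔ frattini G = ⊤ := by
        refine eq_top_iff.2 fun x _ => ?_
        let _act : MulAction (Subgroup.zpowers δ) {y : G // x⁻¹ * y ∈ frattini G} :=
          { smul := fun a y => ⟨(a : MulAut G) y.1, by
              have h1 : (a : MulAut G) (x⁻¹ * y.1) ∈ frattini G := hchar _ ⟨_, y.2, rfl⟩
              have h2 := (frattini G).mul_mem (hHle a.2 x) h1
              rwa [map_mul, map_inv, mul_assoc, mul_inv_cancel_left] at h2⟩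
            one_smul := fun y => Subtype.ext rfl
            mul_smul := fun a b y => Subtype.ext rfl }
        have hcard : Nat.card {y : G // x⁻¹ * y ∈ frattini G} = Nat.card (frattini G) :=
          Nat.card_congr
            { toFun := fun y => ⟨x⁻¹ * y.1, y.2⟩
              invFun := fun z => ⟨x * z.1, by simpa using z.2⟩
              left_inv := fun y => Subtype.ext (by simp)
              right_inv := fun z => Subtype.ext (by simp) }
        obtain ⟨k, hk⟩ := IsPGroup.iff_card.1 (hG.to_subgroup (frattini G))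
        obtain ⟨⟨y, hy⟩, hfy⟩ := hH.nonempty_fixed_point_of_prime_not_dvd_card
          {y : G // x⁻¹ * y ∈ frattini G} (by
            rw [hcard, hk]
            exact fun hd => hqp ((Nat.prime_dvd_prime_iff_eq hq hp.out).1 (hq.dvd_of_dvd_pow hd)))
        have hyF : y ∈ Fx := congrArg Subtype.val (hfy ⟨δ, Subgroup.mem_zpowers δ⟩)
        have h3 := Subgroup.mul_mem _ (Subgroup.mem_sup_left (T := frattini G) hyF)
          (Subgroup.mem_sup_right (S := Fx) ((frattini G).inv_mem hy))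
        rwa [mul_inv_rev, inv_inv, mul_inv_cancel_left] at h3
      intro x
      have := frattini_nongenerating htop
      exact (this ▸ Subgroup.mem_top x : x ∈ Fx)
    have : δ = 1 := MulEquiv.ext hfix
    rw [this, orderOf_one] at hord'
    exact hq.one_lt.ne hord'
  obtain ⟨k, hk⟩ := hA ⟨γ, h⟩
  exact ⟨k, congrArg Subtype.val hk⟩

/-- The shapes of maximal class: a cyclic normal subgroup with cyclic quotient, on which some
element with square in it acts by a power congruent to `3` modulo `4`. -/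
theorem maxClass_shape (hG : IsPGroup 2 G) (N : Subgroup G) [N.Normal] [IsCyclic (G ⧸ N)] {g d : G}
    (hN : N = Subgroup.zpowers g) (hg4 : 4 ∣ orderOf g) {r : ℤ} (hr : r % 4 = 3)
    (hdg : d * g * d⁻¹ = g ^ r) (hd2 : d ^ 2 ∈ N) (hd4 : d ^ 4 = 1) (hdN : d ∉ N) :
    (∃ m : ℕ, Nonempty (G ≃* DihedralGroup m)) ∨ (∃ m : ℕ, Nonempty (G ≃* QuaternionGroup m)) ∨
      Cfsg.IsQuasiDihedral G := by
  haveI : Fact (Nat.Prime 2) := ⟨Nat.prime_two⟩
  have hconjN : ∀ x : G, ∃ s : ℤ, x * g * x⁻¹ = g ^ s := fun x => by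
    have h := (inferInstance : N.Normal).conj_mem g (hN ▸ Subgroup.mem_zpowers g) x
    rw [hN] at h
    obtain ⟨s, hs⟩ := h
    exact ⟨s, hs.symm⟩
  have hcover : ∀ x : G, x ∈ N ∨ x * d⁻¹ ∈ N := by
    intro x
    set π := QuotientGroup.mk' N
    by_contra hx
    push Not at hx
    have hπ : IsPGroup 2 (G ⧸ N) := hG.to_quotient N
    have hdne : π d ≠ 1 := fun e => hdN ((QuotientGroup.eq_one_iff d).1 e)
    have hd2' : π d ^ 2 = 1 := by
      rw [← map_pow]
      exact (QuotientGroup.eq_one_iff _).2 hd2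
    rcases mem_zpowers_or hπ (π x) (π d) with ⟨i, hi⟩ | ⟨i, hi⟩
    · rcases Int.even_or_odd' i with ⟨k, rfl | rfl⟩
      · refine hx.1 ((QuotientGroup.eq_one_iff x).1 ?_)
        have h1 : π d ^ (2 * k) = π x := hi
        rw [zpow_mul, zpow_two, ← pow_two, hd2', one_zpow] at h1
        exact h1.symm
      · refine hx.2 ((QuotientGroup.eq_one_iff (x * d⁻¹)).1 ?_)
        have h1 : π d ^ (2 * k + 1) = π x := hi
        rw [zpow_add, zpow_mul, zpow_two, ← pow_two, hd2', one_zpow, one_mul, zpow_one] at h1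
        show π (x * d⁻¹) = 1
        rw [map_mul, map_inv, ← h1, mul_inv_cancel]
    · have h1 : π x ^ i = π d := hi
      rcases Int.even_or_odd' i with ⟨k, rfl | rfl⟩
      · -- then `r` is a square modulo the order of `g`
        have hn : (x ^ k * x ^ k)⁻¹ * d ∈ N := by
          refine (QuotientGroup.eq_one_iff _).1 ?_
          show π ((x ^ k * x ^ k)⁻¹ * d) = 1
          rw [map_mul, map_inv, map_mul, map_zpow, ← zpow_add, ← two_mul, h1, inv_mul_cancel]
        rw [hN] at hn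
        obtain ⟨a, ha⟩ := hn
        obtain ⟨s, hs⟩ := hconjN (x ^ k)
        have hd : d = x ^ k * x ^ k * g ^ a := by
          rw [show g ^ a = (x ^ k * x ^ k)⁻¹ * d from ha, mul_inv_cancel_left]
        have h2 : d * g * d⁻¹ = g ^ (s * s) := by
          rw [zpow_mul, ← hs, conj_zpow, ← hs, hd]
          group
        rw [hdg, zpow_eq_zpow_iff_modEq] at h2
        have h3 : r ≡ s * s [ZMOD 4] := Int.ModEq.of_dvd (by exact_mod_cast hg4) h2
        have h4 : (s * s) % 4 = 0 ∨ (s * s) % 4 = 1 := by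
          rcases Int.even_or_odd' s with ⟨e, rfl | rfl⟩
          · left
            rw [show (2 * e) * (2 * e) = 4 * (e * e) by ring]
            omega
          · right
            rw [show (2 * e + 1) * (2 * e + 1) = 4 * (e * e + e) + 1 by ring]
            omega
        rw [Int.ModEq, hr] at h3
        omega
      · -- then `x` is in `⟨d⟩ N`
        have hodd : ¬ (2 : ℤ) ∣ 2 * k + 1 := by omega
        obtain ⟨e, he⟩ := mem_zpowers_zpow_of_not_dvd hπ (π x) (p := 2) (i := 2 * k + 1) (by exact_mod_cast hodd)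
        rw [h1] at he
        have he' : π d ^ e = π x := he
        rcases Int.even_or_odd' e with ⟨l, rfl | rfl⟩
        · refine hx.1 ((QuotientGroup.eq_one_iff x).1 ?_)
          rw [zpow_mul, zpow_two, ← pow_two, hd2', one_zpow] at he'
          exact he'.symm
        · refine hx.2 ((QuotientGroup.eq_one_iff (x * d⁻¹)).1 ?_)
          rw [zpow_add, zpow_mul, zpow_two, ← pow_two, hd2', one_zpow, one_mul, zpow_one] at he'
          show π (x * d⁻¹) = 1
          rw [map_mul, map_inv, ← he', mul_inv_cancel]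
  -- the order of `g` and the two possibilities for `r`
  obtain ⟨m, hm⟩ := IsPGroup.iff_orderOf.1 hG g
  obtain ⟨l, rfl⟩ : ∃ l, m = l + 2 := by
    refine ⟨m - 2, ?_⟩
    by_contra hh
    have : m = 0 ∨ m = 1 := by omega
    rcases this with rfl | rfl <;> (rw [hm] at hg4; omega)
  have hz : (2 : ℕ) ^ (l + 2) = 2 * 2 ^ (l + 1) := by ring
  set z := g ^ (2 ^ (l + 1)) with hzdef
  have hz2 : z ^ 2 = 1 := by
    rw [hzdef, ← pow_mul, mul_comm, ← hz, ← hm, pow_orderOf_eq_one]
  have hcov2 : ∀ H : Subgroup G, g ∈ H → d ∈ H → H = ⊤ := fun H hgH hdH => eq_top_iff.2 fun x _ => by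
    have hNH : N ≤ H := hN ▸ Subgroup.zpowers_le.2 hgH
    rcases hcover x with h | h
    · exact hNH h
    · have := H.mul_mem (hNH h) hdH
      rwa [inv_mul_cancel_right] at this
  have hr2 : g ^ (r * r) = g := by
    obtain ⟨a, ha⟩ : d ^ 2 ∈ Subgroup.zpowers g := hN ▸ hd2
    have ha' : g ^ a = d ^ 2 := ha
    have h1 : d ^ 2 * g * (d ^ 2)⁻¹ = g := by rw [← ha']; group
    rw [zpow_mul, ← hdg, conj_zpow, ← hdg]
    conv_rhs => rw [← h1]
    rw [pow_two]
    group
  have hinv : g ^ r = g⁻¹ ∨ (g ^ r = g⁻¹ * z ∧ 1 ≤ l) := by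
    have h1 : g ^ ((r - 1) * (r + 1)) = 1 := by
      rw [show (r - 1) * (r + 1) = r * r - 1 by ring, zpow_sub, hr2, zpow_one, mul_inv_cancel]
    rw [← orderOf_dvd_iff_zpow_eq_one, hm] at h1
    obtain ⟨o, ho⟩ : ∃ o, r - 1 = 2 * o ∧ ¬ (2 : ℤ) ∣ o := ⟨(r - 1) / 2, by omega, by omega⟩
    have h2 : ((2 : ℤ) ^ (l + 1)) ∣ o * (r + 1) := by
      rw [ho.1] at h1
      push_cast at h1
      rw [show (2 : ℤ) ^ (l + 2) = 2 * 2 ^ (l + 1) by ring, mul_assoc] at h1
      exact (mul_dvd_mul_iff_left two_ne_zero).1 h1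
    have h3 : ((2 : ℤ) ^ (l + 1)) ∣ r + 1 :=
      ((((Nat.prime_iff_prime_int.1 Nat.prime_two).coprime_iff_not_dvd).2
        (by exact_mod_cast ho.2)).pow_left).dvd_of_dvd_mul_left (by exact_mod_cast h2)
    obtain ⟨e, he⟩ := h3
    have h4 : g ^ r = g⁻¹ * z ^ e := by
      rw [hzdef, ← zpow_natCast g, ← zpow_mul, ← zpow_neg_one, ← zpow_add]
      congr 1
      push_cast
      omega
    rcases Int.even_or_odd' e with ⟨e', rfl | rfl⟩
    · left
      rw [h4, zpow_mul, zpow_two, ← pow_two, hz2, one_zpow, mul_one]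
    · by_cases hl : 1 ≤ l
      · right
        refine ⟨?_, hl⟩
        rw [h4, zpow_add, zpow_mul, zpow_two, ← pow_two, hz2, one_zpow, one_mul, zpow_one]
      · exfalso
        obtain rfl : l = 0 := by omega
        simp only [zero_add, pow_one] at he
        omega
  have hd2z : d ^ 2 = 1 ∨ d ^ 2 = z := by
    obtain ⟨a, ha⟩ : d ^ 2 ∈ Subgroup.zpowers g := hN ▸ hd2
    have ha' : g ^ a = d ^ 2 := ha
    have h1 : g ^ (a * 2) = 1 := by
      rw [zpow_mul, ha', zpow_two, ← pow_add]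
      exact hd4
    rw [← orderOf_dvd_iff_zpow_eq_one, hm, hz, mul_comm a] at h1
    push_cast at h1
    obtain ⟨e, he⟩ := (mul_dvd_mul_iff_left (two_ne_zero (α := ℤ))).1 h1
    rcases Int.even_or_odd' e with ⟨e', rfl | rfl⟩
    · left
      rw [← ha', he, show ((2 : ℤ) ^ (l + 1)) * (2 * e') = (((2 : ℕ) ^ (l + 2) : ℕ) : ℤ) * e' by push_cast; ring,
        zpow_mul, zpow_natCast, ← hm, pow_orderOf_eq_one, one_zpow]
    · right
      rw [← ha', he, show ((2 : ℤ) ^ (l + 1)) * (2 * e' + 1) =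
          (((2 : ℕ) ^ (l + 2) : ℕ) : ℤ) * e' + (((2 : ℕ) ^ (l + 1) : ℕ) : ℤ) by push_cast; ring,
        zpow_add, zpow_mul, zpow_natCast, ← hm, pow_orderOf_eq_one, one_zpow, one_mul, zpow_natCast]
  have hcard : Nat.card G = 2 ^ (l + 3) := by
    have hidx : N.index = 2 := by
      rw [Subgroup.index_eq_two_iff]
      refine ⟨d⁻¹, fun b => ?_⟩
      rcases hcover b with h | h
      · refine Or.inr ⟨h, fun h' => hdN ?_⟩
        have := N.mul_mem (N.inv_mem h) h'
        rw [inv_mul_cancel_left] at this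
        simpa using N.inv_mem this
      · refine Or.inl ⟨h, fun h' => hdN ?_⟩
        have := N.mul_mem (N.inv_mem h) h'
        rw [mul_inv_rev, inv_inv, inv_mul_cancel_right] at this
        exact this
    rw [← N.card_mul_index, hidx, hN, Nat.card_zpowers, hm]
    ring
  rcases hinv with hi | ⟨hi, hl⟩
  · rw [hi] at hdg
    have hgenT : Subgroup.closure ({g, d} : Set G) = ⊤ :=
      hcov2 _ (Subgroup.subset_closure (by simp)) (Subgroup.subset_closure (by simp))
    rcases hd2z with h | h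
    · obtain ⟨e⟩ := Cfsg.Lib.TwoFus.nonempty_dihedral (m := 2 ^ (l + 2)) hm (by rw [← pow_two, h]) hdg
        (hN ▸ hdN)
      exact Or.inl ⟨_, ⟨(Subgroup.topEquiv.symm.trans (MulEquiv.subgroupCongr hgenT.symm)).trans e⟩⟩
    · obtain ⟨e⟩ := Cfsg.Lib.TwoFus.nonempty_quaternion (m := 2 ^ (l + 1)) (hm.trans hz)
        (by rw [← pow_two, h]) hdg (hN ▸ hdN)
      exact Or.inr (Or.inl
        ⟨_, ⟨(Subgroup.topEquiv.symm.trans (MulEquiv.subgroupCongr hgenT.symm)).trans e⟩⟩)
  · refine Or.inr (Or.inr ⟨l + 2, by omega, hcard, ?_⟩)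
    rw [hi] at hdg
    have hsd : g ^ (2 ^ (l + 2 - 1) - 1) = g⁻¹ * z := by
      rw [hzdef, show l + 2 - 1 = l + 1 by omega, eq_inv_mul_iff_mul_eq, ← pow_succ',
        Nat.sub_add_cancel Nat.one_le_two_pow]
    rcases hd2z with h | h
    · exact ⟨g, d, hm, orderOf_eq_prime h (fun e => hdN (e ▸ N.one_mem)), by rw [hdg, hsd]⟩
    · refine ⟨g, d * g, hm, orderOf_eq_prime ?_ (fun e => hdN ?_), ?_⟩
      · calc (d * g) ^ 2 = (d * g * d⁻¹) * d ^ 2 * g := by rw [pow_two, pow_two]; group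
          _ = g⁻¹ * (z * z) * g := by rw [hdg, h]; group
          _ = 1 := by rw [← pow_two, hz2]; group
      · rw [eq_inv_of_mul_eq_one_left e, hN]
        exact inv_mem (Subgroup.mem_zpowers g)
      · rw [hsd, ← hdg]
        group

end Groups

variable {Ω : Type*} [Group Ω] {S : Subgroup Ω} {F : FusionSystem S} {P R : Subgroup Ω}

/-- The restriction of `Aut_F(R)` to `R ∩ P`. -/
noncomputable def resAut (hP : F.StronglyClosed P) (hR : R ≤ S) :
    F.autGroup R →* MulAut ↥(R ⊓ P) where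
  toFun γ :=
    { toFun := fun x => ⟨autFun (γ : MulAut R) x, autFun_mem _ x.2.1,
        StronglyClosed.mem hP ((mem_autGroup_iff hR).1 γ.2) x.2.1 x.2.2⟩
      invFun := fun x => ⟨autFun (γ : MulAut R)⁻¹ x, autFun_mem _ x.2.1,
        StronglyClosed.mem hP ((mem_autGroup_iff hR).1 ((F.autGroup R).inv_mem γ.2)) x.2.1 x.2.2⟩
      left_inv := fun x => Subtype.ext (by
        show autFun (γ : MulAut R)⁻¹ (autFun (γ : MulAut R) x) = x
        rw [← autFun_mul _ _ x.2.1, inv_mul_cancel, autFun_apply _ x.2.1]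
        rfl)
      right_inv := fun x => Subtype.ext (by
        show autFun (γ : MulAut R) (autFun (γ : MulAut R)⁻¹ x) = x
        rw [← autFun_mul _ _ x.2.1, mul_inv_cancel, autFun_apply _ x.2.1]
        rfl)
      map_mul' := fun x y => Subtype.ext
        (((mem_autGroup_iff hR).1 γ.2).map_mul x.2.1 y.2.1) }
  map_one' := MulEquiv.ext fun x => Subtype.ext (by
    show autFun ((1 : F.autGroup R) : MulAut R) x = x
    rw [autFun_apply _ x.2.1]
    rfl)
  map_mul' a b := MulEquiv.ext fun x => Subtype.ext (autFun_mul _ _ x.2.1)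

theorem coe_resAut (hP : F.StronglyClosed P) (hR : R ≤ S) (γ : F.autGroup R) (x : ↥(R ⊓ P)) :
    ((resAut hP hR γ x : ↥(R ⊓ P)) : Ω) = autFun (γ : MulAut R) x := rfl

/-- A strongly closed metacyclic `2`-subgroup of maximal class excepted lies in every centric
radical subgroup. -/
theorem le_of_centricRadical [Finite S] (hS : IsPGroup 2 S) (hP : F.StronglyClosed P)
    (hm : Cfsg.IsMetacyclic ↥P) (hd : ¬ ∃ m : ℕ, Nonempty (↥P ≃* DihedralGroup m))
    (hq : ¬ ∃ m : ℕ, Nonempty (↥P ≃* QuaternionGroup m)) (hsd : ¬ Cfsg.IsQuasiDihedral ↥P)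
    (hc : F.IsCentric R) (hr : F.IsRadical 2 R) : P ≤ R := by
  haveI : Fact (Nat.Prime 2) := ⟨Nat.prime_two⟩
  have hRS := hc.1
  have hPS := hP.1
  refine le_of_normalizing_le hS hPS hRS (StronglyClosed.le_normalizer hP) fun t htP htN => ?_
  by_contra htR
  have := finite_of_le hPS
  have := finite_of_le hRS
  have := finite_mulAut_of_le hRS
  set W := R ⊓ P with hW
  have : Finite W := finite_of_le (inf_le_left.trans hRS)
  have hWp : IsPGroup 2 W := isPGroup_of_le hS (inf_le_left.trans hRS)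
  have hPp : IsPGroup 2 P := isPGroup_of_le hS hPS
  set π := QuotientGroup.mk' (frattini ↥W) with hπ
  have hπeq : ∀ {x y : W}, π x = π y ↔ x⁻¹ * y ∈ frattini ↥W := fun {x y} => QuotientGroup.eq
  have hsq : ∀ a : ↥W ⧸ frattini ↥W, a * a = 1 := fun a => by
    obtain ⟨x, rfl⟩ := QuotientGroup.mk'_surjective _ a
    rw [← map_mul, ← pow_two]
    exact (QuotientGroup.eq_one_iff _).2 (Cfsg.Lib.Transfer.pow_mem_frattini hWp x)
  let _ : CommGroup (↥W ⧸ frattini ↥W) :=
    { (inferInstance : Group (↥W ⧸ frattini ↥W)) with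
      mul_comm := fun a b => by
        calc a * b = (a * b)⁻¹ := eq_inv_of_mul_eq_one_left (hsq _)
          _ = b⁻¹ * a⁻¹ := mul_inv_rev _ _
          _ = b * a := by rw [← eq_inv_of_mul_eq_one_left (hsq a), ← eq_inv_of_mul_eq_one_left (hsq b)] }
  have hodd : ∀ (a : ↥W ⧸ frattini ↥W) (i : ℤ), a ^ (2 * i + 1) = a := fun a i => by
    rw [zpow_add, zpow_mul, zpow_two, hsq, one_zpow, one_mul, zpow_one]
  have heven : ∀ (a : ↥W ⧸ frattini ↥W) (i : ℤ), a ^ (2 * i) = 1 := fun a i => by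
    rw [zpow_mul, zpow_two, hsq, one_zpow]
  let ρ := resAut (F := F) hP hRS
  -- `A`: trivial on `R / W`
  let A : Subgroup (F.autGroup R) :=
    { carrier := {γ | ∀ x ∈ R, x⁻¹ * autFun (γ : MulAut R) x ∈ W}
      one_mem' := fun x hx => by simp [autFun_apply _ hx, W.one_mem]
      mul_mem' := fun {a b} ha hb x hx => by
        have h1 := autFun_mem (b : MulAut R) hx
        have h2 := W.mul_mem (hb x hx) (ha _ h1)
        rw [mul_assoc, mul_inv_cancel_left, ← autFun_mul _ _ hx] at h2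
        exact h2
      inv_mem' := fun {a} ha x hx => by
        have h1 := autFun_mem ((a⁻¹ : F.autGroup R) : MulAut R) hx
        have h2 := W.inv_mem (ha _ h1)
        rw [← autFun_mul _ _ hx, mul_inv_rev, inv_inv] at h2
        simpa [autFun_apply _ hx] using h2 }
  have hAn : A.Normal := ⟨fun a ha g x hx => by
    have hy := autFun_mem ((g⁻¹ : F.autGroup R) : MulAut R) hx
    have h1 := ha _ hy
    have hg := (mem_autGroup_iff hRS).1 g.2
    have h2 : autFun (g : MulAut R) ((autFun ((g⁻¹ : F.autGroup R) : MulAut R) x)⁻¹ *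
        autFun (a : MulAut R) (autFun ((g⁻¹ : F.autGroup R) : MulAut R) x)) ∈ W :=
      ⟨autFun_mem _ h1.1, StronglyClosed.mem hP hg h1.1 h1.2⟩
    rw [hg.map_mul (R.inv_mem hy) (autFun_mem _ hy), hg.map_inv hy, ← autFun_mul _ _ hx] at h2
    simp only [autFun_apply _ hx] at h2 ⊢
    simp only [autFun_coe, Subgroup.coe_inv, MulAut.mul_apply] at h2 ⊢
    simpa [Subgroup.coe_mul, MulAut.mul_apply] using h2⟩
  -- a normal subgroup of `A` acting as a `2`-group on `W` consists of inner automorphisms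
  have hkey : ∀ B : Subgroup (F.autGroup R), B.Normal → B ≤ A →
      (∀ b ∈ B, ∃ k : ℕ, ρ b ^ 2 ^ k = 1) → ∀ y (hy : y ∈ normalizerIn S R),
        (⟨conjAut S R ⟨y, hy⟩, autInducedBy_le_autGroup hRS (range_conjAut S R ▸ ⟨_, rfl⟩)⟩ :
          F.autGroup R) ∈ B → y ∈ R := by
    intro B hBn hBA hBρ y hy hyB
    have hBp : IsPGroup 2 (B.map (F.autGroup R).subtype) := by
      rintro ⟨_, b, hb, rfl⟩
      obtain ⟨k, hk⟩ := hBρ b hb
      have hstab : IsPGroup 2 (Subgroup.zpowers ((b : MulAut R) ^ 2 ^ k)) := by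
        refine isPGroup_of_stabilizes hS hRS
          (fun i => if i = 0 then ⊥ else if i = 1 then W else R) 2 (if_pos rfl)
          (fun x hx => by simpa using hx) fun γ hγ i hi x hx hxW => ?_
        obtain ⟨e, rfl⟩ := hγ
        have hbk : ((b ^ 2 ^ k) ^ e : F.autGroup R) ∈ A := A.zpow_mem (A.pow_mem (hBA hb) _) e
        interval_cases i
        · simp only [zero_add, one_ne_zero, if_false, if_true] at hxW
          have h1 : ρ ((b ^ 2 ^ k) ^ e) = 1 := by rw [map_zpow, map_pow, hk, one_zpow]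
          have h2 := congrArg Subtype.val (MulEquiv.congr_fun h1 ⟨x, hxW⟩)
          rw [coe_resAut] at h2
          simp only [MulAut.one_apply, SubgroupClass.coe_zpow, SubgroupClass.coe_pow] at h2
          simp [h2]
        · simpa using hbk x hx
      obtain ⟨j, hj⟩ := hstab ⟨_, Subgroup.mem_zpowers _⟩
      refine ⟨k + j, Subtype.ext ?_⟩
      have h3 := congrArg Subtype.val hj
      show (b : MulAut R) ^ 2 ^ (k + j) = 1
      rw [pow_add, pow_mul]
      exact h3
    refine mem_of_conjAut_mem_inn hc hy (le_inn_of_radical hr ?_ hBp ?_ ⟨_, hyB, rfl⟩)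
    · rintro _ ⟨b, -, rfl⟩
      exact b.2
    · rintro γ hγ _ ⟨b, hb, rfl⟩
      exact ⟨⟨γ, hγ⟩ * b * ⟨γ, hγ⟩⁻¹, hBn.conj_mem b hb _, rfl⟩
  -- the elements of `P` normalizing `R`
  let M : Subgroup Ω := P ⊓ normalizerIn S R
  have hMW : ∀ y ∈ M, ∀ x : W, y * (x : Ω) * y⁻¹ ∈ W := fun y hy x =>
    ⟨conj_mem_of_mem_normalizerIn hy.2 x.2.1, StronglyClosed.conj_mem hP (hPS hy.1) x.2.2⟩
  have hconjA : ∀ y (hy : y ∈ M),
      (⟨conjAut S R ⟨y, hy.2⟩, autInducedBy_le_autGroup hRS (range_conjAut S R ▸ ⟨_, rfl⟩)⟩ :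
          F.autGroup R) ∈ A := fun y hy x hx => by
    show x⁻¹ * autFun (conjAut S R ⟨y, hy.2⟩) x ∈ W
    rw [autFun_conjAut _ hx]
    refine ⟨R.mul_mem (R.inv_mem hx) (conj_mem_of_mem_normalizerIn hy.2 hx), ?_⟩
    rw [show x⁻¹ * (y * x * y⁻¹) = (x⁻¹ * y * x⁻¹⁻¹) * y⁻¹ by group]
    exact P.mul_mem (StronglyClosed.conj_mem hP (S.inv_mem (hRS hx)) hy.1) (P.inv_mem hy.1)
  let cM : ∀ y, y ∈ M → W → W := fun y hy x => ⟨y * x * y⁻¹, hMW y hy x⟩
  have hρc : ∀ y (hy : y ∈ M) (w : W), cM y hy w = ρ ⟨conjAut S R ⟨y, hy.2⟩,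
      autInducedBy_le_autGroup hRS (range_conjAut S R ▸ ⟨_, rfl⟩)⟩ w := fun y hy w =>
    Subtype.ext (by
      rw [coe_resAut]
      exact (autFun_conjAut (K := S) ⟨y, hy.2⟩ w.2.1).symm)
  -- nontrivial action on the Frattini quotient
  have hmove : ∀ y (hy : y ∈ M), (∀ x : W, π (cM y hy x) = π x) → y ∈ R := by
    intro y hy htriv
    let B : Subgroup (F.autGroup R) := A ⊓
      { carrier := {γ | ∀ x : W, π (ρ γ x) = π x}
        one_mem' := fun x => by rw [map_one]; rfl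
        mul_mem' := fun {a b} ha hb x => by rw [map_mul, MulAut.mul_apply, ha, hb]
        inv_mem' := fun {a} ha x => by
          conv_rhs => rw [← MulAut.apply_inv_self W (ρ a) x, ha]
          rw [map_inv] }
    have hBn : B.Normal := by
      constructor
      rintro b ⟨hbA, hb⟩ g
      refine ⟨hAn.conj_mem b hbA g, fun x => ?_⟩
      have h1 : π (ρ b ((ρ g)⁻¹ x)) = π ((ρ g)⁻¹ x) := hb _
      rw [hπeq] at h1
      have h2 := Subgroup.characteristic_iff_map_le.1 (inferInstance : (frattini ↥W).Characteristic)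
        (ρ g) ⟨_, h1, rfl⟩
      refine hπeq.2 ?_
      rw [map_mul, map_mul, map_inv, MulAut.mul_apply, MulAut.mul_apply]
      simpa using h2
    refine hkey B hBn inf_le_left (fun b hb => pow_eq_one_of_trivial_mod_frattini hWp (ρ b)
      fun x => hπeq.1 (hb.2 x).symm) y hy.2 ⟨hconjA y hy, fun x => ?_⟩
    refine Eq.trans ?_ (htriv x)
    exact congrArg π (Subtype.ext (autFun_conjAut _ x.2.1))
  -- the metacyclic structure
  obtain ⟨N, hN, hNc, hQc⟩ := hm
  obtain ⟨g₀, hg₀⟩ := hNc.exists_zpow_surjective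
  have hNg : N = Subgroup.zpowers (g₀ : P) := le_antisymm (fun x hx => by
    obtain ⟨i, hi⟩ := hg₀ ⟨x, hx⟩
    exact ⟨i, congrArg Subtype.val hi⟩) (Subgroup.zpowers_le.2 g₀.2)
  let q := QuotientGroup.mk' N
  have hq2 : IsPGroup 2 (↥P ⧸ N) := hPp.to_quotient N
  let C : Subgroup Ω := N.map P.subtype
  have hC : ∀ {x : Ω} (hx : x ∈ P), x ∈ C ↔ q ⟨x, hx⟩ = 1 := fun {x} hx => by
    rw [show q ⟨x, hx⟩ = 1 ↔ (⟨x, hx⟩ : P) ∈ N from QuotientGroup.eq_one_iff _]
    exact ⟨fun ⟨z, hz, hze⟩ => by rwa [show z = ⟨x, hx⟩ from Subtype.ext hze] at hz,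
      fun h => ⟨_, h, rfl⟩⟩
  have hCP : C ≤ P := Subgroup.map_subtype_le _
  have hCcyc : ∀ {a b : Ω}, a ∈ C → b ∈ C →
      a ∈ Subgroup.zpowers b ∨ b ∈ Subgroup.zpowers a := by
    rintro _ _ ⟨a, ha, rfl⟩ ⟨b, hb, rfl⟩
    rcases mem_zpowers_or (hPp.to_subgroup N) ⟨a, ha⟩ ⟨b, hb⟩ with ⟨i, hi⟩ | ⟨i, hi⟩
    · exact Or.inl ⟨i, congrArg (fun z : N => ((z : P) : Ω)) hi⟩
    · exact Or.inr ⟨i, congrArg (fun z : N => ((z : P) : Ω)) hi⟩
  have hcomC : ∀ {x y : Ω}, x ∈ P → y ∈ P → x * y * x⁻¹ * y⁻¹ ∈ C := fun {x y} hx hy => by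
    refine (hC (P.mul_mem (P.mul_mem (P.mul_mem hx hy) (P.inv_mem hx)) (P.inv_mem hy))).2 ?_
    show q (⟨x, hx⟩ * ⟨y, hy⟩ * (⟨x, hx⟩ : P)⁻¹ * (⟨y, hy⟩ : P)⁻¹) = 1
    let _ := IsCyclic.commGroup (α := ↥P ⧸ N)
    rw [map_mul, map_mul, map_mul, map_inv, map_inv, mul_inv_cancel_comm, mul_inv_cancel]
  -- generators of `C ∩ W`
  have hgenCW : ∀ w : W, (w : Ω) ∈ C → π w ≠ 1 → ∀ z : W, (z : Ω) ∈ C → z ∈ Subgroup.zpowers w := by
    intro w hwC hw z hzC
    rcases hCcyc hzC hwC with ⟨i, hi⟩ | ⟨i, hi⟩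
    · exact ⟨i, Subtype.ext hi⟩
    · have h1 : z ^ i = w := Subtype.ext hi
      rcases Int.even_or_odd' i with ⟨j, rfl | rfl⟩
      · exact absurd (by rw [← h1, map_zpow, heven]) hw
      · rw [← h1]
        exact mem_zpowers_zpow_of_not_dvd (p := 2) hWp z (by omega)
  have hCfix : ∀ y (hy : y ∈ M) (w : W), (w : Ω) ∈ C → π (cM y hy w) = π w := by
    intro y hy w hw
    have h1 : ((cM y hy w : W) : Ω) ∈ C := by
      have := C.mul_mem (hcomC hy.1 (hCP hw)) hw
      rwa [inv_mul_cancel_right] at this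
    let φ : W →* W :=
      { toFun := cM y hy
        map_one' := Subtype.ext (by simp [cM])
        map_mul' := fun a b => Subtype.ext (by simp [cM, mul_assoc]) }
    by_cases hw1 : π w = 1
    · rw [hw1]
      refine (QuotientGroup.eq_one_iff _).2 ?_
      have h2 : w ∈ frattini ↥W := (QuotientGroup.eq_one_iff _).1 hw1
      have h3 := Subgroup.characteristic_iff_map_le.1 (inferInstance : (frattini ↥W).Characteristic)
        (ρ ⟨conjAut S R ⟨y, hy.2⟩, autInducedBy_le_autGroup hRS (range_conjAut S R ▸ ⟨_, rfl⟩)⟩)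
        ⟨w, h2, rfl⟩
      rwa [hρc y hy w]
    obtain ⟨i, hi⟩ := hgenCW w hw hw1 _ h1
    have hi' : w ^ i = cM y hy w := hi
    rcases Int.even_or_odd' i with ⟨j, rfl | rfl⟩
    · exfalso
      refine hw1 ((QuotientGroup.eq_one_iff _).2 ?_)
      have h2 : cM y hy w ∈ frattini ↥W := by
        refine (QuotientGroup.eq_one_iff _).1 ?_
        show π (cM y hy w) = 1
        rw [← hi', map_zpow, heven]
      have h3 := Subgroup.characteristic_iff_map_le.1 (inferInstance : (frattini ↥W).Characteristic)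
        (ρ ⟨conjAut S R ⟨y, hy.2⟩, autInducedBy_le_autGroup hRS (range_conjAut S R ▸ ⟨_, rfl⟩)⟩)⁻¹
        ⟨_, h2, rfl⟩
      rw [hρc y hy w] at h3
      simpa using h3
    · rw [← hi', map_zpow, hodd]
  -- commutators and squares
  have hcomW : ∀ y (hy : y ∈ M) (x : W), ((cM y hy x * x⁻¹ : W) : Ω) ∈ C := fun y hy x =>
    hcomC hy.1 x.2.2
  have hsqR : ∀ y ∈ M, y * y ∈ R := by
    intro y hy
    refine hmove _ (M.mul_mem hy hy) fun x => ?_
    have h1 : cM (y * y) (M.mul_mem hy hy) x = cM y hy (cM y hy x * x⁻¹) * cM y hy x := by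
      refine Subtype.ext ?_
      simp only [cM, Subgroup.coe_mul, Subgroup.coe_inv]
      group
    rw [h1, map_mul, hCfix y hy _ (hcomW y hy x), map_mul, map_inv, mul_assoc,
      mul_comm (π x)⁻¹]
    calc π (cM y hy x) * (π (cM y hy x) * (π x)⁻¹)
        = (π (cM y hy x) * π (cM y hy x)) * (π x)⁻¹ := (mul_assoc _ _ _).symm
      _ = π x := by rw [hsq, one_mul, inv_eq_iff_mul_eq_one, hsq]
  have htM : t ∈ M := ⟨htP, htN⟩
  obtain ⟨x₀, hx₀⟩ : ∃ x₀ : W, π (cM t htM x₀) ≠ π x₀ := by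
    by_contra hall
    push Not at hall
    exact htR (hmove t htM hall)
  obtain ⟨c, hcM, hcC, hcR⟩ : ∃ c, c ∈ M ∧ c ∈ C ∧ c ∉ R := by
    have hx₀M : (x₀ : Ω) ∈ M := ⟨x₀.2.2, le_normalizerIn hRS x₀.2.1⟩
    have hfind : ∀ k : ℤ, q ⟨x₀, x₀.2.2⟩ ^ k = q ⟨t, htP⟩ → ∃ c, c ∈ M ∧ c ∈ C ∧ c ∉ R := by
      intro k hk
      refine ⟨((x₀ : Ω) ^ k)⁻¹ * t, M.mul_mem (M.inv_mem (M.zpow_mem hx₀M k)) htM,
        (hC (P.mul_mem (P.inv_mem (P.zpow_mem x₀.2.2 k)) htP)).2 ?_, fun hR' => htR ?_⟩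
      · show q (((⟨x₀, x₀.2.2⟩ : P) ^ k)⁻¹ * ⟨t, htP⟩) = 1
        rw [map_mul, map_inv, map_zpow, hk, inv_mul_cancel]
      · have := R.mul_mem (R.zpow_mem x₀.2.1 k) hR'
        rwa [mul_inv_cancel_left] at this
    rcases mem_zpowers_or hq2 (q ⟨t, htP⟩) (q ⟨x₀, x₀.2.2⟩) with ⟨k, hk⟩ | ⟨j, hj⟩
    · exact hfind k hk
    · have hj' : q ⟨t, htP⟩ ^ j = q ⟨x₀, x₀.2.2⟩ := hj
      rcases Int.even_or_odd' j with ⟨i, rfl | rfl⟩
      · exfalso
        have htW : t ^ (2 * i) ∈ W := by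
          rw [zpow_mul, zpow_two]
          exact W.zpow_mem ⟨hsqR t htM, P.mul_mem htP htP⟩ i
        have hcC : (((⟨t ^ (2 * i), htW⟩ : W)⁻¹ * x₀ : W) : Ω) ∈ C := by
          refine (hC ((⟨t ^ (2 * i), htW⟩ : W)⁻¹ * x₀).2.2).2 ?_
          show q (((⟨t, htP⟩ : P) ^ (2 * i))⁻¹ * ⟨x₀, x₀.2.2⟩) = 1
          rw [map_mul, map_inv, map_zpow, hj', inv_mul_cancel]
        refine hx₀ ?_
        have h1 : cM t htM x₀ = ⟨t ^ (2 * i), htW⟩ *
            cM t htM ((⟨t ^ (2 * i), htW⟩ : W)⁻¹ * x₀) := by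
          refine Subtype.ext ?_
          simp only [cM, Subgroup.coe_mul, Subgroup.coe_inv]
          group
        rw [h1, map_mul, hCfix t htM _ hcC, ← map_mul, mul_inv_cancel_left]
      · obtain ⟨k, hk⟩ := mem_zpowers_zpow_of_not_dvd (p := 2) hq2 (q ⟨t, htP⟩) (i := 2 * i + 1) (by omega)
        rw [hj'] at hk
        exact hfind k hk
  -- `u = c ^ 2`
  let u : W := ⟨c * c, hsqR c hcM, P.mul_mem hcM.1 hcM.1⟩
  have huC : (u : Ω) ∈ C := C.mul_mem hcC hcC
  obtain ⟨x₁, hx₁⟩ : ∃ x₁ : W, π (cM c hcM x₁) ≠ π x₁ := by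
    by_contra hall
    push Not at hall
    exact hcR (hmove c hcM hall)
  have hu1 : π u ≠ 1 := by
    intro hu
    set w := cM c hcM x₁ * x₁⁻¹ with hwdef
    have hw : π w ≠ 1 := fun e => hx₁ (mul_inv_eq_one.1 (by rw [← e, hwdef, map_mul, map_inv]))
    rcases hCcyc hcC (hcomW c hcM x₁) with ⟨j, hj⟩ | ⟨j, hj⟩
    · exact hcR (hj ▸ R.zpow_mem w.2.1 j)
    · have hj' : c ^ j = (w : Ω) := hj
      rcases Int.even_or_odd' j with ⟨i, rfl | rfl⟩
      · refine hw ?_
        rw [show w = u ^ i from Subtype.ext (by rw [← hj', zpow_mul, zpow_two]; rfl), map_zpow, hu,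
          one_zpow]
      · refine hcR ?_
        have h1 : c = ((u : W) : Ω) ^ (-i) * w := by
          rw [← hj', show ((u : W) : Ω) = c ^ (2 : ℤ) from (zpow_two c).symm, ← zpow_mul, ← zpow_add]
          simp
        rw [h1]
        exact R.mul_mem (R.zpow_mem u.2.1 _) w.2.1
  have hgenu : ∀ z : W, (z : Ω) ∈ C → ∃ i : ℤ, u ^ i = z := fun z hz => hgenCW u huC hu1 z hz
  -- a generator of `W` modulo `C`
  obtain ⟨g₁, hg₁⟩ : ∃ g₁ : W, ∀ x : W, ∃ i j : ℤ, x = u ^ i * g₁ ^ j := by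
    obtain ⟨⟨_, ⟨y, rfl⟩⟩, hy⟩ := (inferInstance : IsCyclic
      (q.comp (Subgroup.inclusion (inf_le_right : W ≤ P))).range).exists_zpow_surjective
    refine ⟨y, fun x => ?_⟩
    obtain ⟨j, hj⟩ := hy ⟨_, x, rfl⟩
    have hj' := congrArg Subtype.val hj
    have hxC : ((x * (y ^ j)⁻¹ : W) : Ω) ∈ C := by
      refine (hC (x * (y ^ j)⁻¹).2.2).2 ?_
      show (q.comp (Subgroup.inclusion (inf_le_right : W ≤ P))) (x * (y ^ j)⁻¹) = 1
      rw [map_mul, map_inv, map_zpow, mul_inv_eq_one]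
      exact hj'.symm
    obtain ⟨i, hi⟩ := hgenu _ hxC
    exact ⟨i, j, by rw [hi, inv_mul_cancel_right]⟩
  have hπval : ∀ x : W, π x = 1 ∨ π x = π u ∨ π x = π g₁ ∨ π x = π u * π g₁ := by
    intro x
    obtain ⟨i, j, rfl⟩ := hg₁ x
    rw [map_mul, map_zpow, map_zpow]
    rcases Int.even_or_odd' i with ⟨a, rfl | rfl⟩ <;> rcases Int.even_or_odd' j with ⟨b, rfl | rfl⟩ <;>
      simp [heven, hodd]
  -- an element moving `u` off its line
  obtain ⟨γ, hγA, hγ1⟩ : ∃ γ ∈ A, π (ρ γ u) ≠ π u := by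
    by_contra hall
    push Not at hall
    refine hcR (hkey A hAn le_rfl (fun b hb => ?_) c hcM.2 (hconjA c hcM))
    obtain ⟨k, hk⟩ := pow_eq_one_of_trivial_mod_frattini hWp (ρ b * ρ b) (fun x => hπeq.1 (by
      have hres : ∀ z : W, π z = 1 → π (ρ b z) = 1 := fun z hz =>
        (QuotientGroup.eq_one_iff _).2 (Subgroup.characteristic_iff_map_le.1
          (inferInstance : (frattini ↥W).Characteristic) (ρ b)
            ⟨z, (QuotientGroup.eq_one_iff _).1 hz, rfl⟩)
      have hcongr : ∀ {z z' : W}, π z = π z' → π (ρ b z) = π (ρ b z') := fun {z z'} h => by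
        have h1 := hres (z⁻¹ * z') (by rw [map_mul, map_inv, h, inv_mul_cancel])
        rw [map_mul, map_inv, map_mul, map_inv, inv_mul_eq_one] at h1
        exact h1
      have hu' : π (ρ b u) = π u := hall b hb
      have hg' : π (ρ b (ρ b g₁)) = π g₁ := by
        rcases hπval (ρ b g₁) with h | h | h | h
        · have h1 := hcongr (z := g₁) (z' := 1)
          by_cases hg : π g₁ = 1
          · rw [hres _ (hres _ hg), hg]
          · exfalso
            refine hg ?_
            have h2 : π ((ρ b)⁻¹ (ρ b g₁)) = 1 := (QuotientGroup.eq_one_iff _).2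
              (Subgroup.characteristic_iff_map_le.1 (inferInstance : (frattini ↥W).Characteristic)
                (ρ b)⁻¹ ⟨_, (QuotientGroup.eq_one_iff _).1 h, rfl⟩)
            rwa [MulAut.inv_apply_self] at h2
        · have h2 : π (ρ b (g₁ * u)) = 1 := by rw [map_mul, map_mul, h, hu', hsq]
          have h3 : π (g₁ * u) = 1 := by
            have h4 : π ((ρ b)⁻¹ (ρ b (g₁ * u))) = 1 := (QuotientGroup.eq_one_iff _).2
              (Subgroup.characteristic_iff_map_le.1 (inferInstance : (frattini ↥W).Characteristic)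
                (ρ b)⁻¹ ⟨_, (QuotientGroup.eq_one_iff _).1 h2, rfl⟩)
            rwa [MulAut.inv_apply_self] at h4
          rw [map_mul, mul_eq_one_iff_eq_inv, inv_eq_of_mul_eq_one_right (hsq (π u))] at h3
          rw [hcongr (h.trans h3.symm), h, h3]
        · rw [hcongr h, h]
        · have h2 : π (ρ b g₁) = π (u * g₁) := by rw [map_mul]; exact h
          rw [hcongr h2, map_mul, map_mul, hu', h, ← mul_assoc, hsq, one_mul]
      obtain ⟨i, j, rfl⟩ := hg₁ x
      rw [MulAut.mul_apply]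
      simp only [map_mul, map_zpow]
      rw [hcongr hu', hu', hg']))
    refine ⟨k + 1, ?_⟩
    rw [pow_succ', pow_mul, pow_two]
    exact hk
  set d := ρ γ u with hddef
  have hd1 : π d ≠ 1 := fun e => hu1 (by
    have h2 : π ((ρ γ)⁻¹ d) = 1 := (QuotientGroup.eq_one_iff _).2
      (Subgroup.characteristic_iff_map_le.1 (inferInstance : (frattini ↥W).Characteristic)
        (ρ γ)⁻¹ ⟨_, (QuotientGroup.eq_one_iff _).1 e, rfl⟩)
    rwa [hddef, MulAut.inv_apply_self] at h2)
  have hdC : (d : Ω) ∉ C := fun h => by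
    obtain ⟨i, hi⟩ := hgenu d h
    rcases Int.even_or_odd' i with ⟨j, rfl | rfl⟩
    · exact hd1 (by rw [← hi, map_zpow, heven])
    · exact hγ1 (by rw [← hi, map_zpow, hodd])
  have hcd : π (cM c hcM d) ≠ π d := by
    intro h
    refine hcR (hmove c hcM fun x => ?_)
    let φ : W →* ↥W ⧸ frattini ↥W :=
      { toFun := fun x => π (cM c hcM x)
        map_one' := by rw [show cM c hcM 1 = 1 from Subtype.ext (by simp [cM]), map_one]
        map_mul' := fun a b => by
          rw [show cM c hcM (a * b) = cM c hcM a * cM c hcM b from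
            Subtype.ext (by simp [cM, mul_assoc]), map_mul] }
    have hφu : φ u = π u := hCfix c hcM u huC
    have hφg : φ g₁ = π g₁ := by
      obtain ⟨i, j, hij⟩ := hg₁ d
      have h1 : φ d = π d := h
      rw [hij, map_mul, map_mul, map_zpow, map_zpow, map_zpow, map_zpow, hφu, mul_right_inj] at h1
      rcases Int.even_or_odd' j with ⟨b, rfl | rfl⟩
      · exfalso
        rcases Int.even_or_odd' i with ⟨a, rfl | rfl⟩
        · exact hd1 (by rw [hij, map_mul, map_zpow, map_zpow, heven, heven, mul_one])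
        · exact hγ1 (by rw [hij, map_mul, map_zpow, map_zpow, hodd, heven, mul_one])
      · rwa [hodd, hodd] at h1
    obtain ⟨i, j, rfl⟩ := hg₁ x
    show φ (u ^ i * g₁ ^ j) = _
    rw [map_mul, map_zpow, map_zpow, hφu, hφg, map_mul, map_zpow, map_zpow]
  -- the power `r`
  have hdN : ∀ z : W, ∃ i : ℤ, d ^ i = z * d * z⁻¹ := fun z => by
    have h1 : (((ρ γ)⁻¹ z * u * ((ρ γ)⁻¹ z)⁻¹ : W) : Ω) ∈ C := by
      have h0 := C.mul_mem (hcomC ((ρ γ)⁻¹ z).2.2 u.2.2) huC
      simpa [Subgroup.coe_mul, Subgroup.coe_inv] using h0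
    obtain ⟨i, hi⟩ := hgenu _ h1
    refine ⟨i, ?_⟩
    have h2 := congrArg (ρ γ) hi
    rwa [map_zpow, map_mul, map_mul, map_inv, MulAut.apply_inv_self] at h2
  obtain ⟨r, hr⟩ : ∃ r : ℤ, (⟨d, d.2.2⟩ : P) * (g₀ : P) * (⟨d, d.2.2⟩ : P)⁻¹ = (g₀ : P) ^ r := by
    have h := hN.conj_mem _ g₀.2 ⟨d, d.2.2⟩
    obtain ⟨r, hr⟩ := hNg.le h
    exact ⟨r, hr.symm⟩
  have hrC : ∀ z ∈ C, (d : Ω) * z * (d : Ω)⁻¹ = z ^ r := by
    rintro _ ⟨z, hz, rfl⟩
    obtain ⟨a, rfl⟩ := hNg.le hz
    have h1 : (d : Ω) * ((g₀ : P) : Ω) * (d : Ω)⁻¹ = ((g₀ : P) : Ω) ^ r := by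
      have := congrArg Subtype.val hr
      simpa using this
    show (d : Ω) * (((g₀ : P) ^ a : P) : Ω) * (d : Ω)⁻¹ = (((g₀ : P) ^ a : P) : Ω) ^ r
    rw [SubgroupClass.coe_zpow, ← conj_zpow, h1, ← zpow_mul, ← zpow_mul, mul_comm]
  have hcd' : ((cM c hcM d * d⁻¹ : W) : Ω) = c ^ (1 - r) := by
    show c * d * c⁻¹ * (d : Ω)⁻¹ = c ^ (1 - r)
    rw [zpow_sub, zpow_one, ← hrC c hcC]
    group
  have hr4 : r % 4 = 3 := by
    have hne : π (cM c hcM d * d⁻¹) ≠ 1 := fun e => hcd (mul_inv_eq_one.1 (by rwa [map_mul, map_inv] at e))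
    rcases Int.even_or_odd' r with ⟨a, rfl | rfl⟩
    · exfalso
      refine hcR ?_
      have h1 : c = ((cM c hcM d * d⁻¹ : W) : Ω) * ((u : W) : Ω) ^ a := by
        rw [hcd', show ((u : W) : Ω) = c ^ (2 : ℤ) from (zpow_two c).symm, ← zpow_mul, ← zpow_add]
        simp
      rw [h1]
      exact R.mul_mem (cM c hcM d * d⁻¹).2.1 (R.zpow_mem u.2.1 a)
    · rcases Int.even_or_odd' a with ⟨b, rfl | rfl⟩
      · exfalso
        refine hne ?_
        rw [show cM c hcM d * d⁻¹ = u ^ (2 * (-b)) from Subtype.ext (by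
          rw [hcd', SubgroupClass.coe_zpow, show ((u : W) : Ω) = c ^ (2 : ℤ) from (zpow_two c).symm,
            ← zpow_mul]
          congr 1
          ring), map_zpow, heven]
      · omega
  have hdu : d * u * d⁻¹ = u ^ r := Subtype.ext (by
    rw [SubgroupClass.coe_zpow]
    exact hrC _ huC)
  have hu4 : u ^ 4 = 1 := by
    obtain ⟨i, hi⟩ : ∃ i : ℤ, d ^ i = u ^ (r - 1) := by
      obtain ⟨i, hi⟩ := hdN u
      refine ⟨1 - i, ?_⟩
      rw [zpow_sub, zpow_one, hi, zpow_sub, zpow_one, ← hdu]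
      group
    have h1 : d * u ^ (r - 1) * d⁻¹ = u ^ (r - 1) := by rw [← hi]; group
    rw [← conj_zpow, hdu, ← zpow_mul] at h1
    have h2 : u ^ ((r - 1) * (r - 1)) = 1 := by
      rw [show (r - 1) * (r - 1) = r * (r - 1) - (r - 1) by ring, zpow_sub, h1, mul_inv_cancel]
    obtain ⟨o, ho⟩ : ∃ o, r - 1 = 2 * o ∧ ¬ (2 : ℤ) ∣ o := ⟨(r - 1) / 2, by omega, by omega⟩
    have h3 : ¬ (2 : ℤ) ∣ o * o := fun h =>
      ho.2 (((Nat.prime_iff_prime_int.1 Nat.prime_two).dvd_mul.1 h).elim id id)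
    obtain ⟨e, he⟩ := mem_zpowers_zpow_of_not_dvd (p := 2) hWp (u ^ (4 : ℕ)) h3
    rw [← he]
    show ((u ^ 4) ^ (o * o)) ^ e = 1
    rw [← zpow_natCast u 4, ← zpow_mul u, show ((4 : ℕ) : ℤ) * (o * o) = (r - 1) * (r - 1) by
      rw [ho.1]; push_cast; ring, h2, one_zpow]
  have hd4 : d ^ 4 = 1 := by rw [hddef, ← map_pow, hu4, map_one]
  have hd2C : ((d ^ 2 : W) : Ω) ∈ C := by
    suffices d ^ 2 = u ^ 2 ∨ d ^ 2 = 1 by
      rcases this with h | h <;> rw [h]
      · exact SubmonoidClass.coe_pow u 2 ▸ C.pow_mem huC 2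
      · exact C.one_mem
    by_cases hu2 : u ^ 2 = 1
    · right
      rw [hddef, ← map_pow, hu2, map_one]
    · left
      obtain ⟨i, hi⟩ : ∃ i : ℤ, d ^ i = u ^ (r - 1) := by
        obtain ⟨i, hi⟩ := hdN u
        refine ⟨1 - i, ?_⟩
        rw [zpow_sub, zpow_one, hi, zpow_sub, zpow_one, ← hdu]
        group
      have hu4' : u ^ (4 : ℤ) = 1 := by rw [show (4 : ℤ) = ((4 : ℕ) : ℤ) from rfl, zpow_natCast, hu4]
      have hd4' : d ^ (4 : ℤ) = 1 := by rw [show (4 : ℤ) = ((4 : ℕ) : ℤ) from rfl, zpow_natCast, hd4]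
      have hi2 : d ^ i = u ^ 2 := by
        rw [hi, show r - 1 = 4 * ((r - 1) / 4) + 2 by omega, zpow_add, zpow_mul, hu4', one_zpow,
          one_mul]
        exact zpow_natCast u 2
      have hmod : d ^ i = d ^ (i % 4) := by
        conv_lhs => rw [show i = 4 * (i / 4) + i % 4 by omega, zpow_add, zpow_mul, hd4', one_zpow, one_mul]
      rcases (show i % 4 = 0 ∨ i % 4 = 1 ∨ i % 4 = 2 ∨ i % 4 = 3 by omega) with h | h | h | h <;>
        rw [h, hi2] at hmod
      · exact absurd (by rw [hmod, zpow_zero]) hu2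
      · exfalso
        refine hdC ?_
        rw [zpow_one] at hmod
        rw [← hmod, SubmonoidClass.coe_pow]
        exact C.pow_mem huC 2
      · rw [hmod]
        exact (zpow_natCast d 2).symm
      · exfalso
        refine hdC ?_
        have h5 : d = (u ^ 2)⁻¹ := by
          rw [hmod, eq_inv_iff_mul_eq_one, ← zpow_one_add]
          exact hd4'
        rw [h5, Subgroup.coe_inv, SubmonoidClass.coe_pow]
        exact C.inv_mem (C.pow_mem huC 2)
  have hg4 : 4 ∣ orderOf (g₀ : P) := by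
    have hcN : (⟨c, hcM.1⟩ : P) ∈ N := (QuotientGroup.eq_one_iff _).1 ((hC hcM.1).1 hcC)
    have hdvd : orderOf (⟨c, hcM.1⟩ : P) ∣ orderOf (g₀ : P) := by
      exact orderOf_dvd_of_mem_zpowers (hNg.le hcN)
    obtain ⟨k, hk⟩ := IsPGroup.iff_orderOf.1 hPp (⟨c, hcM.1⟩ : P)
    refine dvd_trans ?_ hdvd
    rw [hk]
    have hne : ¬ k ≤ 1 := fun hk1 => hu1 (by
      have h1 : (⟨c, hcM.1⟩ : P) ^ 2 = 1 :=
        orderOf_dvd_iff_pow_eq_one.1 (hk ▸ by simpa using pow_dvd_pow 2 hk1)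
      rw [show u = 1 from Subtype.ext (by
        show c * c = 1
        have := congrArg Subtype.val h1
        simpa [pow_two] using this), map_one])
    exact (by norm_num : (4 : ℕ) = 2 ^ 2) ▸ pow_dvd_pow 2 (by omega)
  have hcoe : ((⟨d, d.2.2⟩ : P) ^ 2 : P) = ⟨((d ^ 2 : W) : Ω), (d ^ 2).2.2⟩ :=
    Subtype.ext (by simp)
  have := hQc
  rcases maxClass_shape hPp N hNg hg4 hr4 hr
    ((QuotientGroup.eq_one_iff _).1 (by rw [hcoe]; exact (hC (d ^ 2).2.2).1 hd2C))
    (Subtype.ext (by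
      have := congrArg Subtype.val hd4
      simpa using this))
    (fun h => hdC ((hC d.2.2).2 ((QuotientGroup.eq_one_iff _).2 h))) with h | h | h
  · exact hd h
  · exact hq h
  · exact hsd h

end Cfsg.Lib.Fusion.MetaTwo
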