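import Mathlib
import Cfsg.Prelude.Def_FusionSystem
import Cfsg.Agent.Lib.Fusion.WeakControl
import Cfsg.Agent.Lib.Solv.Cores
import Cfsg.Agent.Lib.Solv.Subnormal

/-!
Quadratically acting elements control `p`-th powers of central elements.
-/

set_option autoImplicit false

open scoped Classical commutatorElement

namespace Cfsg.Lib.Fusion

universe u

variable {p : ℕ} [Fact p.Prime] (W : ∀ (Q : Type u) [Group Q], Subgroup Q)
  (hW2 : ∀ (Q R : Type u) [Group Q] [Group R] [Finite Q], IsPGroup p Q → ∀ φ : Q ≃* R,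
    (W Q).map φ.toMonoidHom = W R)

/-- A quadratic element with `p`-th power in the kernel fixes `p`-th powers. -/
theorem conj_pow_eq_of_quadratic {L : Type*} [Group L] {g v : L} {n : ℕ}
    (h1 : ⁅⁅v, g⁆, g⁆ = 1) (h2 : Commute ⁅v, g⁆ v) (h3 : g ^ n * v * (g ^ n)⁻¹ = v) :
    g * v ^ n * g⁻¹ = v ^ n := by
  set c := ⁅v, g⁆ with hc
  have hcg : Commute c g := commutatorElement_eq_one_iff_commute.1 h1
  have hstep : g * v * g⁻¹ = c⁻¹ * v := by
    rw [hc, commutatorElement_def]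
    group
  have hit : ∀ k : ℕ, g ^ k * v * (g ^ k)⁻¹ = (c⁻¹) ^ k * v := by
    intro k
    induction k with
    | zero => simp
    | succ k ih =>
      have hcg' : Commute (c⁻¹ ^ k) g := (hcg.inv_left).pow_left k
      calc g ^ (k + 1) * v * (g ^ (k + 1))⁻¹ = g * (g ^ k * v * (g ^ k)⁻¹) * g⁻¹ := by
            rw [pow_succ']
            group
        _ = g * (c⁻¹ ^ k * v) * g⁻¹ := by rw [ih]
        _ = c⁻¹ ^ k * (g * v * g⁻¹) := by
            rw [← mul_assoc, ← hcg'.eq]
            group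
        _ = c⁻¹ ^ (k + 1) * v := by rw [hstep, ← mul_assoc, ← pow_succ]
  have hcn : c⁻¹ ^ n = 1 := by
    have h4 := (hit n).symm.trans h3
    exact mul_eq_right.1 h4
  rw [← conj_pow, hstep, (h2.inv_left).mul_pow, hcn, one_mul]

omit [Fact p.Prime] in
theorem exists_pow_mem_core {L : Type*} [Group L] {Q : Subgroup L} {g : L} {m : ℕ}
    (hm : g ^ p ^ m = 1) (hg : g ∉ Q) : ∃ k : ℕ, g ^ p ^ k ∉ Q ∧ (g ^ p ^ k) ^ p ∈ Q := by
  induction m generalizing g with
  | zero =>
    rw [pow_zero, pow_one] at hm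
    exact absurd (hm ▸ Q.one_mem) hg
  | succ m ih =>
    by_cases hgp : g ^ p ∈ Q
    · exact ⟨0, by simpa using hg, by simpa using hgp⟩
    · obtain ⟨k, hk1, hk2⟩ := ih (g := g ^ p) (by rw [← pow_mul, ← pow_succ']; exact hm) hgp
      refine ⟨k + 1, ?_, ?_⟩
      · rwa [pow_succ', pow_mul]
      · rwa [pow_succ', pow_mul]

include hW2 in
theorem quadratic_fixes (hq : ∀ (G : Type u) [Group G] [Finite G] (P : Sylow p G),
      ¬ (((W ↥(P : Subgroup G)).map (P : Subgroup G).subtype : Subgroup G)).Normal →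
      ∃ g : G, g ∈ (P : Subgroup G) ∧ g ∉ Cfsg.pCore p G ∧
        ⁅⁅Subgroup.center ↥(Cfsg.pCore p G) |>.map (Cfsg.pCore p G).subtype,
          Subgroup.zpowers g⁆, Subgroup.zpowers g⁆ = ⊥) :
    ∀ (n : ℕ) (L : Type u) [Group L] [Finite L], Nat.card L = n → ∀ (P : Sylow p L) (z : L),
    Subgroup.centralizer ((Cfsg.pCore p L : Subgroup L) : Set L) ≤ Cfsg.pCore p L →
    z ∈ (P : Subgroup L) → (∀ t ∈ (P : Subgroup L), t * z * t⁻¹ = z) →
    (∀ g ∈ Subgroup.normalizer
        (((W ↥(P : Subgroup L)).map (P : Subgroup L).subtype : Subgroup L) : Set L),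
      g * z ^ p * g⁻¹ = z ^ p) →
    ∀ g, g * z ^ p * g⁻¹ = z ^ p := by
  intro n
  induction n using Nat.strong_induction_on with
  | _ n ih =>
  intro L _ _ hn P z hcore hzP hzc hzN g
  set V₀ := (W ↥(P : Subgroup L)).map (P : Subgroup L).subtype with hV₀
  by_cases hV : (V₀ : Subgroup L).Normal
  · exact hzN g (by rw [Subgroup.normalizer_eq_top]; trivial)
  set O := Cfsg.pCore p L with hO
  obtain ⟨a, haP, haO, haq⟩ := hq L P hV
  set V := (Subgroup.center ↥O).map O.subtype with hVdef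
  have hVle : ∀ v ∈ V, v ∈ O := fun v hv => Subgroup.map_subtype_le _ hv
  have hVc : ∀ v ∈ V, ∀ t ∈ O, Commute t v := by
    rintro _ ⟨v, hv, rfl⟩ t ht
    exact congrArg Subtype.val (Subgroup.mem_center_iff.1 hv ⟨t, ht⟩)
  have hOP : O ≤ (P : Subgroup L) := Cfsg.Lib.Solv.pCore_le_sylow p P
  have hzO : z ∈ O := hcore (Subgroup.mem_centralizer_iff.2 fun t ht =>
    mul_inv_eq_iff_eq_mul.1 (hzc t (hOP ht)))
  have hzV : z ∈ V := ⟨⟨z, hzO⟩, Subgroup.mem_center_iff.2 fun t =>
    Subtype.ext (mul_inv_eq_iff_eq_mul.1 (hzc t (hOP t.2))), rfl⟩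
  -- reduce the element
  obtain ⟨m, hm⟩ : ∃ m : ℕ, a ^ p ^ m = 1 := by
    obtain ⟨m, hm⟩ := P.isPGroup' ⟨a, haP⟩
    exact ⟨m, congrArg Subtype.val hm⟩
  obtain ⟨k, hb, hbp⟩ := exists_pow_mem_core hm haO
  set b := a ^ p ^ k with hbdef
  -- the centralizer of the `p`-th powers
  set C := Subgroup.centralizer ((fun v => v ^ p) '' (V : Set L)) with hC
  have hbC : b ∈ C := by
    refine Subgroup.mem_centralizer_iff.2 ?_
    rintro _ ⟨v, hv, rfl⟩
    have hbz : b ∈ Subgroup.zpowers a := Subgroup.npow_mem_zpowers a _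
    have h1 : ⁅v, b⁆ ∈ ⁅V, Subgroup.zpowers a⁆ :=
      Subgroup.commutator_mem_commutator hv hbz
    have h2 : ⁅⁅v, b⁆, b⁆ = 1 := by
      rw [← Subgroup.mem_bot, ← haq]
      exact Subgroup.commutator_mem_commutator h1 hbz
    have hcO : ⁅v, b⁆ ∈ O := by
      rw [commutatorElement_def, mul_assoc, mul_assoc, ← mul_assoc b]
      exact O.mul_mem (hVle v hv)
        ((inferInstance : O.Normal).conj_mem _ (O.inv_mem (hVle v hv)) b)
    have h3 := conj_pow_eq_of_quadratic (n := p) h2 (hVc v hv _ hcO)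
      (by rw [(hVc v hv _ hbp).eq, mul_inv_cancel_right])
    exact (mul_inv_eq_iff_eq_mul.1 h3).symm
  have hCn : C.Normal := by
    refine ⟨fun c hc d => Subgroup.mem_centralizer_iff.2 ?_⟩
    rintro _ ⟨v, hv, rfl⟩
    have hv' : d⁻¹ * v * d ∈ V := by
      obtain ⟨w, hw, rfl⟩ := hv
      have hmem : d⁻¹ * (w : L) * d ∈ O := by
        simpa using (inferInstance : O.Normal).conj_mem _ w.2 d⁻¹
      refine ⟨⟨_, hmem⟩, Subgroup.mem_center_iff.2 fun t => Subtype.ext ?_, rfl⟩
      have h5 := congrArg Subtype.val (Subgroup.mem_center_iff.1 hw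
        ⟨_, (inferInstance : O.Normal).conj_mem _ t.2 d⟩)
      simp only [Subgroup.coe_mul] at h5 ⊢
      calc (t : L) * (d⁻¹ * w * d) = d⁻¹ * ((d * t * d⁻¹) * w) * d := by group
        _ = d⁻¹ * (w * (d * t * d⁻¹)) * d := by rw [h5]
        _ = d⁻¹ * w * d * t := by group
    have h6 := Subgroup.mem_centralizer_iff.1 hc _ ⟨_, hv', rfl⟩
    have h7 : (d⁻¹ * v * d) ^ p = d⁻¹ * v ^ p * d := by
      have h10 := conj_pow (i := p) (a := d⁻¹) (b := v)
      rwa [inv_inv] at h10
    simp only [h7] at h6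
    calc v ^ p * (d * c * d⁻¹) = d * ((d⁻¹ * v ^ p * d) * c) * d⁻¹ := by group
      _ = d * (c * (d⁻¹ * v ^ p * d)) * d⁻¹ := by rw [h6]
      _ = d * c * d⁻¹ * v ^ p := by group
  -- Frattini argument
  set P0 := (P : Subgroup L) ⊓ C with hP0
  have hbP0 : b ∈ P0 := ⟨pow_mem haP _, hbC⟩
  set H := Subgroup.normalizer (P0 : Set L) with hH
  have hPH : (P : Subgroup L) ≤ H := by
    intro t ht
    refine Subgroup.mem_normalizer_iff.2 fun y => ⟨fun hy => ?_, fun hy => ?_⟩
    · exact ⟨(P : Subgroup L).mul_mem ((P : Subgroup L).mul_mem ht hy.1)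
        ((P : Subgroup L).inv_mem ht), hCn.conj_mem _ hy.2 t⟩
    · refine ⟨?_, ?_⟩
      · have := (P : Subgroup L).mul_mem ((P : Subgroup L).mul_mem
          ((P : Subgroup L).inv_mem ht) hy.1) ht
        have h11 : t⁻¹ * (t * y * t⁻¹) * t = y := by group
        exact h11 ▸ this
      · simpa [mul_assoc] using hCn.conj_mem _ hy.2 t⁻¹
  have hsup : H ⊔ C = ⊤ := by
    obtain ⟨Q, hQ⟩ := Cfsg.Lib.Solv.sylow_inf_subnormal hCn.isSubnormal P
    have h8 := Sylow.normalizer_sup_eq_top Q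
    rwa [hQ, Subgroup.subgroupOf_map_subtype] at h8
  have hHlt : H ≠ ⊤ := by
    intro htop
    have hP0n : P0.Normal := Subgroup.normalizer_eq_top_iff.1 htop
    exact hb (Cfsg.Lib.Solv.le_pCore hP0n (P.isPGroup'.to_le inf_le_left) hbP0)
  have hHfix : ∀ t ∈ H, t * z ^ p * t⁻¹ = z ^ p := by
    intro t ht
    let PH : Sylow p H := P.subtype hPH
    have hPH' : (PH : Subgroup H).map H.subtype = P := by
      rw [Sylow.coe_subtype, Subgroup.subgroupOf_map_subtype, inf_eq_left.2 hPH]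
    have hle : O.subgroupOf H ≤ Cfsg.pCore p H :=
      Cfsg.Lib.Solv.le_pCore inferInstance (Cfsg.Lib.Solv.isPGroup_pCore p).comap_subtype
    have hcoreH : Subgroup.centralizer ((Cfsg.pCore p H : Subgroup H) : Set H) ≤
        Cfsg.pCore p H := by
      intro c hc
      refine hle (hcore (Subgroup.mem_centralizer_iff.2 fun y hy => ?_))
      exact congrArg Subtype.val
        (Subgroup.mem_centralizer_iff.1 hc ⟨y, hPH (hOP hy)⟩ (hle hy))
    have hWH : ((W ↥(PH : Subgroup H)).map (PH : Subgroup H).subtype).map H.subtype = V₀ := by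
      let e : ↥(PH : Subgroup H) ≃* ↥(P : Subgroup L) :=
        (Subgroup.equivMapOfInjective _ _ H.subtype_injective).trans (MulEquiv.subgroupCongr hPH')
      rw [hV₀, ← hW2 _ _ PH.isPGroup' e, Subgroup.map_map, Subgroup.map_map]
      rfl
    have hcard : Nat.card H < n := by
      rw [← hn]
      exact lt_of_le_of_ne (Subgroup.card_le_card_group H) fun e => hHlt
        (Subgroup.eq_top_of_card_eq H e)
    have h9 := ih _ hcard H rfl PH ⟨z, hPH hzP⟩ hcoreH
      (by rw [Sylow.coe_subtype]; exact Subgroup.mem_subgroupOf.2 hzP)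
      (fun y hy => Subtype.ext (hzc y (hPH' ▸ Subgroup.mem_map_of_mem H.subtype hy)))
      (fun y hy => Subtype.ext (hzN y (by
        refine Subgroup.mem_normalizer_iff.2 fun u => ?_
        rw [← hWH]
        constructor
        · rintro ⟨u, hu, rfl⟩
          exact ⟨y * u * y⁻¹, (Subgroup.mem_normalizer_iff.1 hy u).1 hu, rfl⟩
        · rintro ⟨w, hw, hwe⟩
          refine ⟨y⁻¹ * w * y, ?_, ?_⟩
          · have := (Subgroup.mem_normalizer_iff.1 (inv_mem hy) w).1 hw
            simpa using this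
          · show (y : L)⁻¹ * (w : L) * y = u
            rw [show (w : L) = (y : L) * u * (y : L)⁻¹ from hwe]
            group)))
      ⟨t, ht⟩
    exact congrArg Subtype.val h9
  have hle : (⊤ : Subgroup L) ≤ Subgroup.centralizer {z ^ p} := by
    rw [← hsup]
    refine sup_le (fun t ht => ?_) (fun t ht => ?_)
    · rw [Subgroup.mem_centralizer_iff]
      rintro _ rfl
      exact (mul_inv_eq_iff_eq_mul.1 (hHfix t ht)).symm
    · rw [Subgroup.mem_centralizer_iff]
      rintro _ rfl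
      exact Subgroup.mem_centralizer_iff.1 ht _ ⟨z, hzV, rfl⟩
  exact mul_inv_eq_iff_eq_mul.2
    (Subgroup.mem_centralizer_iff.1 (hle (Subgroup.mem_top g)) _ rfl).symm

include hW2 in
/-- The quadratic condition gives the group hypothesis for `p`-th powers. -/
theorem groupControl_of_quadratic (hq : ∀ (G : Type u) [Group G] [Finite G] (P : Sylow p G),
      ¬ (((W ↥(P : Subgroup G)).map (P : Subgroup G).subtype : Subgroup G)).Normal →
      ∃ g : G, g ∈ (P : Subgroup G) ∧ g ∉ Cfsg.pCore p G ∧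
        ⁅⁅Subgroup.center ↥(Cfsg.pCore p G) |>.map (Cfsg.pCore p G).subtype,
          Subgroup.zpowers g⁆, Subgroup.zpowers g⁆ = ⊥) :
    GroupControl p W p :=
  fun L _ _ P z h1 h2 h3 h4 => quadratic_fixes W hW2 hq _ L rfl P z h1 h2 h3 h4

end Cfsg.Lib.Fusion
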