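import Mathlib
import Cfsg.Prelude.Def_FusionSystem
import Cfsg.Agent.Lib.Fusion.GroupSubsystem
import Cfsg.Agent.Lib.Fusion.Realized

/-!
The subsystem given by a normal subgroup of a group realizing a system, and quotients of realizing groups.
-/

set_option autoImplicit false

open scoped Classical Pointwise

namespace Cfsg.Lib.Fusion

open Cfsg Cfsg.FusionSystem

universe u

variable {Ω : Type u} [Group Ω] {S T P : Subgroup Ω} {F : FusionSystem S} {f : Ω → Ω}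
  {L : Type*} [Group L] {ι : S →* L}

/-- Maps between subgroups of `T` induced along `ι` by elements of `N`. -/
def realizedSub (F : FusionSystem S) (ι : S →* L) (N : Subgroup L) (T : Subgroup Ω) (hT : T ≤ S)
    (hTN : ∀ x ∈ T, iotaFun ι x ∈ N) (hι : F.IsRealizedBy ι) : FusionSystem T where
  Hom P := {φ | P ≤ T ∧ (∀ x : P, φ x ∈ T) ∧ ∃ n ∈ N, ∀ x : P, iotaFun ι (φ x) = n * iotaFun ι x * n⁻¹}
  le_of_mem h := ⟨h.1, h.2.1⟩
  injective_of_mem := by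
    rintro P φ ⟨hP, -, n, -, he⟩ a b hab
    have h1 := (he a).symm.trans ((congrArg (iotaFun ι) hab).trans (he b))
    exact Subtype.ext (iotaFun_injOn hι (hT (hP a.2)) (hT (hP b.2)) (mul_left_cancel (mul_right_cancel h1)))
  conj_mem := by
    intro P g hP hg
    exact ⟨hP, fun x => T.mul_mem (T.mul_mem hg (hP x.2)) (T.inv_mem hg), iotaFun ι g, hTN g hg,
      fun x => iotaFun_conj ι (hT hg) (hT (hP x.2))⟩
  comp_mem := by
    rintro P Q φ ψ ⟨hP, -, n, hn, he⟩ ⟨-, hψT, m, hm, he'⟩ h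
    refine ⟨hP, fun x => hψT _, m * n, N.mul_mem hm hn, fun x => ?_⟩
    show iotaFun ι (ψ ⟨φ x, h x⟩) = _
    rw [he']
    show m * iotaFun ι (φ x) * m⁻¹ = _
    rw [he]
    group
  inv_mem := by
    rintro P φ ⟨hP, hφT, n, hn, he⟩
    have hinj : Function.Injective φ := fun a b hab => by
      have h1 := (he a).symm.trans ((congrArg (iotaFun ι) hab).trans (he b))
      exact Subtype.ext (iotaFun_injOn hι (hT (hP a.2)) (hT (hP b.2)) (mul_left_cancel (mul_right_cancel h1)))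
    let e := MonoidHom.ofInjective hinj
    refine ⟨P.subtype.comp e.symm.toMonoidHom, ⟨?_, fun y => hP (e.symm y).2, n⁻¹, N.inv_mem hn, ?_⟩,
      fun x => congrArg Subtype.val (e.symm_apply_apply x)⟩
    · rintro _ ⟨x, rfl⟩
      exact hφT x
    · rintro ⟨_, x, rfl⟩
      show iotaFun ι ((e.symm (e x) : P) : Ω) = n⁻¹ * iotaFun ι (φ x) * n⁻¹⁻¹
      rw [e.symm_apply_apply, he]
      group

theorem mor_realizedSub_iff {N : Subgroup L} {hT : T ≤ S} {hTN : ∀ x ∈ T, iotaFun ι x ∈ N}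
    {hι : F.IsRealizedBy ι} :
    Mor (realizedSub F ι N T hT hTN hι) P f ↔
      P ≤ T ∧ (∀ x ∈ P, f x ∈ T) ∧ ∃ n ∈ N, ∀ x ∈ P, iotaFun ι (f x) = n * iotaFun ι x * n⁻¹ := by
  constructor
  · rintro ⟨φ, ⟨hP, hφT, n, hn, he⟩, hfe⟩
    exact ⟨hP, fun x hx => hfe ⟨x, hx⟩ ▸ hφT ⟨x, hx⟩, n, hn, fun x hx => hfe ⟨x, hx⟩ ▸ he ⟨x, hx⟩⟩
  · rintro ⟨hP, hfT, n, hn, he⟩
    obtain ⟨φ, -, hφe⟩ := (mor_of_conj (F := F) hι (hP.trans hT) (fun x hx => hT (hfT x hx)) n he).exists_hom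
    exact ⟨φ, ⟨hP, fun x => by rw [hφe]; exact hfT x x.2, n, hn, fun x => by rw [hφe]; exact he x x.2⟩, hφe⟩

variable [Finite L] {p : ℕ} [Fact p.Prime]

/-- The subsystem of a normal subgroup of a realizing group is normal. -/
theorem normal_realizedSub [Finite S] (hS : IsPGroup p S) (hF : F.IsSaturated p) (hι : F.IsRealizedBy ι)
    (P₀ : Sylow p L) (hP₀ : (P₀ : Subgroup L) = ι.range) (N : Subgroup L) [hN : N.Normal]
    (hT : T ≤ S) (hTN : ∀ x ∈ T, iotaFun ι x ∈ N) (hTi : iotaImg ι T = (P₀ : Subgroup L) ⊓ N) :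
    (realizedSub F ι N T hT hTN hι).IsNormalIn F p := by
  have := finite_of_le hT
  obtain ⟨⟨-, -, -, -, -, hfr⟩, hext⟩ := normal_of_normal P₀ N
  have hinv : ∀ {A : Subgroup Ω}, A ≤ S → iotaImg ι A ≤ (P₀ : Subgroup L) := fun _ =>
    hP₀ ▸ iotaImg_le_range _
  have hback : ∀ {x : Ω}, x ∈ S → iotaFun ι x ∈ (P₀ : Subgroup L) ⊓ N → x ∈ T := fun {x} hx h =>
    mem_of_iotaFun_mem hι hT hx (hTi ▸ h)
  have hfwd : ∀ {x : Ω}, x ∈ T → iotaFun ι x ∈ (P₀ : Subgroup L) ⊓ N := fun {x} hx =>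
    hTi ▸ iotaFun_mem_iotaImg hT hx
  have hclosed : F.StronglyClosed T := stronglyClosed_iff.2 ⟨hT, fun R f hf x hxR hx => by
    obtain ⟨g, hg⟩ := exists_conj_of_mor hι hf
    refine hback (hf.mem hxR) ⟨hP₀ ▸ iotaFun_mem_range (hf.mem hxR), ?_⟩
    rw [hg x hxR]
    exact hN.conj_mem _ (hTN x hx) g⟩
  have hsat : (realizedSub F ι N T hT hTN hι).IsSaturated p := by
    let ι' : T →* N := (ι.comp (Subgroup.inclusion hT)).codRestrict N fun x => by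
      have := hTN x x.2
      rwa [iotaFun_apply ι (hT x.2)] at this
    have hι' : (realizedSub F ι N T hT hTN hι).IsRealizedBy ι' := by
      refine ⟨fun a b h => Subgroup.inclusion_injective hT (hι.1 (congrArg Subtype.val h)),
        fun P hP φ hφ => ⟨?_, ?_⟩⟩
      · rintro ⟨-, -, n, hn, he⟩
        refine ⟨⟨n, hn⟩, fun x => Subtype.ext ?_⟩
        have h1 := he x
        rw [iotaFun_apply ι (hT (hφ x)), iotaFun_apply ι (hT (hP x.2))] at h1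
        exact h1
      · rintro ⟨⟨n, hn⟩, he⟩
        refine ⟨hP, hφ, n, hn, fun x => ?_⟩
        rw [iotaFun_apply ι (hT (hφ x)), iotaFun_apply ι (hT (hP x.2))]
        exact congrArg Subtype.val (he x)
    obtain ⟨Q, hQ⟩ := Lib.Solv.sylow_inf_subnormal
      (Subgroup.IsSubnormal.step N ⊤ le_top .top (Subgroup.Normal.subgroupOf hN ⊤)) P₀
    refine saturated_of_realized (isPGroup_of_le hS hT) hι' Q ?_
    rw [hQ]
    ext y
    constructor
    · intro hy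
      have h1 : (y : L) ∈ iotaImg ι T := hTi ▸ (⟨hy, y.2⟩ : (y : L) ∈ (P₀ : Subgroup L) ⊓ N)
      obtain ⟨x, hx, hxe⟩ := (mem_iotaImg hT).1 h1
      exact ⟨⟨x, hx⟩, Subtype.ext ((iotaFun_apply ι (hT hx)).symm.trans hxe)⟩
    · rintro ⟨x, rfl⟩
      have := (hfwd x.2).1
      rwa [iotaFun_apply ι (hT x.2)] at this
  refine ⟨⟨hsat, hF, ?_, hclosed, ?_, ?_⟩, ?_⟩
  · rintro P φ ⟨hP, hφT, n, -, he⟩
    exact (mor_of_conj hι (f := extFun φ) (hP.trans hT)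
      (fun x hx => by rw [extFun_apply φ hx]; exact hT (hφT _)) n
      fun x hx => by rw [extFun_apply φ hx]; exact he _).mem_hom fun x => (extFun_coe φ x).symm
  · rintro P hPT φ ⟨-, hφT, n, hn, he⟩ α hα
    obtain ⟨g, hg⟩ := exists_conj_of_mor hι ((mem_autGroup_iff hT).1 hα)
    set P' := (P.subgroupOf T).map (T.subtype.comp α.toMonoidHom)
    have hP'T : P' ≤ T := by rintro _ ⟨y, -, rfl⟩; exact SetLike.coe_mem _
    have hmem : ∀ z ∈ P', g * n * g⁻¹ * iotaFun ι z * (g * n * g⁻¹)⁻¹ ∈ ι.range ∧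
        g * n * g⁻¹ * iotaFun ι z * (g * n * g⁻¹)⁻¹ ∈ (P₀ : Subgroup L) ⊓ N := by
      rintro _ ⟨y, hy, rfl⟩
      have h1 : g * n * g⁻¹ * iotaFun ι (autFun α y) * (g * n * g⁻¹)⁻¹ =
          iotaFun ι (autFun α (φ ⟨y, hy⟩)) := by
        rw [hg _ y.2, hg _ (hφT _), he]
        group
      rw [show (T.subtype.comp α.toMonoidHom) y = autFun α y from (autFun_coe α y).symm, h1]
      exact ⟨iotaFun_mem_range (hT (autFun_mem α (hφT _))), hfwd (autFun_mem α (hφT _))⟩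
    obtain ⟨k, hk, hke⟩ := exists_mor_of_conj_mem hι (hP'T.trans hT) (g * n * g⁻¹) fun z hz => (hmem z hz).1
    have hkT : ∀ z ∈ P', k z ∈ T := fun z hz => hback (hk.mem hz) (hke z hz ▸ (hmem z hz).2)
    obtain ⟨χ, hχ, hχe⟩ := (mor_realizedSub_iff (hT := hT) (hTN := hTN) (hι := hι)).2
      ⟨hP'T, hkT, g * n * g⁻¹, hN.conj_mem n hn g, hke⟩ |>.exists_hom
    refine ⟨χ, hχ, fun x hφx hαx => ?_⟩
    rw [hχe, ← autFun_coe α ⟨φ x, hφx⟩]
    refine iotaFun_injOn hι (hT (hkT _ hαx)) (hT (autFun_mem α hφx)) ?_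
    rw [hke _ hαx, hg _ hφx, he x, ← autFun_coe α ⟨x, hPT x.2⟩, hg _ (hPT x.2)]
    group
  · intro P hPT φ hφ
    have hm := mor_extFun hφ
    obtain ⟨g, hg⟩ := exists_conj_of_mor hι hm
    have hP' : iotaImg ι P ≤ (P₀ : Subgroup L) ⊓ N := hTi ▸ Subgroup.map_mono (Subgroup.comap_mono hPT)
    obtain ⟨φ', hφ', hφ'e⟩ := (mor_group_conj (c := g) (hinv hm.le) fun y hy => by
      obtain ⟨x, hx, rfl⟩ := (mem_iotaImg hm.le).1 hy
      rw [← hg x hx]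
      exact hP₀ ▸ iotaFun_mem_range (hm.mem hx)).exists_hom
    obtain ⟨α', hα', φ₀', hφ₀', he⟩ := hfr _ hP' φ' hφ'
    obtain ⟨-, a, ha⟩ := mor_group_iff.1 ((mem_autGroup_iff inf_le_left).1 hα')
    obtain ⟨-, hφ₀T, n, hn, hne⟩ := hφ₀'
    have hnP : ∀ x ∈ P, n * iotaFun ι x * n⁻¹ ∈ (P₀ : Subgroup L) ⊓ N := fun x hx =>
      hne ⟨_, iotaFun_mem_iotaImg hm.le hx⟩ ▸ hφ₀T _
    obtain ⟨k, hk, hke⟩ := exists_mor_of_conj_mem hι hm.le n fun x hx => hP₀ ▸ (hnP x hx).1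
    have hkT : ∀ x ∈ P, k x ∈ T := fun x hx => hback (hk.mem hx) (hke x hx ▸ hnP x hx)
    obtain ⟨φ₀, hφ₀, hφ₀e⟩ := ((mor_realizedSub_iff (hT := hT) (hTN := hTN) (hι := hι)).2
      ⟨hPT, hkT, n, hn, hke⟩).exists_hom
    have haT : ∀ x ∈ T, a * iotaFun ι x * a⁻¹ ∈ (P₀ : Subgroup L) ⊓ N := fun x hx =>
      (ha _ (hfwd hx)).1 ▸ autFun_mem α' (hfwd hx)
    obtain ⟨l, hl, hle⟩ := exists_mor_of_conj_mem hι hT a fun x hx => hP₀ ▸ (haT x hx).1
    obtain ⟨α, hα, hαe⟩ := hl.exists_aut (hl.img_eq_of_card_le hT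
      (fun x hx => hback (hl.mem hx) (hle x hx ▸ haT x hx)) le_rfl)
    refine ⟨α, hα, φ₀, hφ₀, fun x hx => ?_⟩
    rw [← autFun_coe α ⟨φ₀ x, hx⟩, hαe _ hx, ← extFun_coe φ x]
    refine iotaFun_injOn hι (hm.mem x.2) (hl.mem hx) ?_
    rw [hg x x.2, hle _ hx, hφ₀e, hke x x.2]
    have hy := iotaFun_mem_iotaImg (ι := ι) hm.le x.2
    have h1 := he ⟨_, hy⟩ (hφ₀T _)
    rw [← autFun_apply α' (hφ₀T ⟨_, hy⟩), (ha _ (hφ₀T ⟨_, hy⟩)).1, hne] at h1
    rw [← h1, hφ'e]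
  · intro α hα
    obtain ⟨-, -, n, hn, hne⟩ := mor_realizedSub_iff.1 ((mem_autGroup_iff le_rfl).1 hα)
    set T' := (P₀ : Subgroup L) ⊓ N with hT'
    have hnT : ∀ y ∈ T', n * y * n⁻¹ ∈ T' := fun y hy => by
      rw [← hTi] at hy
      obtain ⟨x, hx, rfl⟩ := (mem_iotaImg hT).1 hy
      rw [← hne x hx]
      exact hfwd (autFun_mem α hx)
    have hm : Mor (fusionSystemOfSubgroup N T' inf_le_right) T' (fun y => n * y * n⁻¹) :=
      mor_sub_iff.2 ⟨le_rfl, hnT, n, hn, fun _ _ => rfl⟩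
    obtain ⟨α', hα', hα'e⟩ := hm.exists_aut (hm.img_eq_of_card_le le_rfl hnT le_rfl)
    set A' := centralizerIn (P₀ : Subgroup L) T' with hA'
    obtain ⟨β', hβ', hβT, hβC⟩ := hext α' hα'
    obtain ⟨-, b, hb⟩ := mor_group_iff.1 ((mem_autGroup_iff (sup_le inf_le_left centralizerIn_le)).1 hβ')
    set A := centralizerIn S T with hA
    have hTA : T ⊔ A ≤ S := sup_le hT centralizerIn_le
    have hAA : ∀ x ∈ A, iotaFun ι x ∈ A' := fun x hx => by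
      refine mem_centralizerIn_iff.2 ⟨hP₀ ▸ iotaFun_mem_range (centralizerIn_le hx), fun y hy => ?_⟩
      rw [← hTi] at hy
      obtain ⟨z, hz, rfl⟩ := (mem_iotaImg hT).1 hy
      rw [← iotaFun_conj ι (centralizerIn_le hx) (hT hz), (mem_centralizerIn_iff.1 hx).2 z hz]
    have hTA' : ∀ x ∈ T ⊔ A, iotaFun ι x ∈ T' ⊔ A' := fun x hx => by
      have h1 : T ⊔ A ≤ ((T' ⊔ A').comap ι).map S.subtype := by
        refine sup_le (fun z hz => ⟨⟨z, hT hz⟩, ?_, rfl⟩) fun z hz => ⟨⟨z, centralizerIn_le hz⟩, ?_, rfl⟩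
        · show ι ⟨z, hT hz⟩ ∈ T' ⊔ A'
          rw [← iotaFun_apply ι (hT hz)]
          exact Subgroup.mem_sup_left (hfwd hz)
        · show ι ⟨z, centralizerIn_le hz⟩ ∈ T' ⊔ A'
          rw [← iotaFun_apply ι (centralizerIn_le hz)]
          exact Subgroup.mem_sup_right (hAA z hz)
      obtain ⟨⟨z, hz⟩, hz', rfl⟩ := h1 hx
      rw [Subgroup.coe_subtype, iotaFun_apply ι hz]
      exact hz'
    obtain ⟨l, hl, hle⟩ := exists_mor_of_conj_mem hι hTA b fun x hx => hP₀ ▸ (hb _ (hTA' x hx)).2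
    have hlT : ∀ x ∈ T, l x = autFun α x := fun x hx => by
      refine iotaFun_injOn hι (hl.mem (Subgroup.mem_sup_left hx)) (hT (autFun_mem α hx)) ?_
      rw [hle x (Subgroup.mem_sup_left hx), hne x hx]
      have h2 := hβT ⟨_, hfwd hx⟩
      rw [← autFun_coe α', ← autFun_coe β', hα'e _ (hfwd hx)] at h2
      rw [Subgroup.coe_inclusion, (hb _ (Subgroup.mem_sup_left (hfwd hx))).1] at h2
      exact h2
    have hlA : ∀ c ∈ A, c⁻¹ * l c ∈ T ⊓ Subgroup.centralizer (T : Set Ω) := fun c hc => by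
      have hcS := centralizerIn_le hc
      have hlS := hl.mem (Subgroup.mem_sup_right hc)
      have hmem : iotaFun ι (c⁻¹ * l c) ∈ T' ⊓ Subgroup.centralizer (T' : Set L) := by
        have h3 := hβC ⟨_, Subgroup.mem_sup_right (hAA c hc)⟩ (hAA c hc)
        rw [← autFun_coe β', (hb _ (Subgroup.mem_sup_right (hAA c hc))).1] at h3
        rw [iotaFun_mul ι (S.inv_mem hcS) hlS, iotaFun_inv ι hcS, hle c (Subgroup.mem_sup_right hc)]
        exact h3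
      refine ⟨hback (S.mul_mem (S.inv_mem hcS) hlS) hmem.1, Subgroup.mem_centralizer_iff.2 fun y hy => ?_⟩
      have hS' := S.mul_mem (S.inv_mem hcS) hlS
      refine iotaFun_injOn hι (S.mul_mem (hT hy) hS') (S.mul_mem hS' (hT hy)) ?_
      rw [iotaFun_mul ι (hT hy) hS', iotaFun_mul ι hS' (hT hy)]
      exact Subgroup.mem_centralizer_iff.1 hmem.2 _ (hfwd hy)
    have hlTA : ∀ x ∈ T ⊔ A, l x ∈ T ⊔ A := by
      have h1 : img (T ⊔ A) l ≤ T ⊔ A := by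
        rw [hl.img_sup le_sup_left le_sup_right]
        refine sup_le (img_le fun x hx => ?_) (img_le fun x hx => ?_)
        · rw [hlT x hx]; exact Subgroup.mem_sup_left (autFun_mem α hx)
        · have := (T ⊔ A).mul_mem (Subgroup.mem_sup_right hx) (Subgroup.mem_sup_left (hlA x hx).1)
          rwa [mul_inv_cancel_left] at this
      exact fun x hx => h1 (mem_img_of_mem hx)
    obtain ⟨β, hβ, hβe⟩ := hl.exists_aut (hl.img_eq_of_card_le hTA hlTA le_rfl)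
    refine ⟨β, hβ, fun x => ?_, fun c hc => ?_⟩
    · rw [← autFun_coe β, ← autFun_coe α, Subgroup.coe_inclusion, hβe _ (Subgroup.mem_sup_left x.2), hlT _ x.2]
    · rw [← autFun_coe β, hβe _ c.2]
      exact hlA _ hc

omit [Finite L] in
/-- Realizations pass to a subgroup with the same fusion, and to quotients by `p'`-subgroups. -/
theorem realized_quotient [Finite L] (hι : F.IsRealizedBy ι) (P₀ : Sylow p L)
    (hP₀ : (P₀ : Subgroup L) = ι.range) (N : Subgroup L) [hN : N.Normal] (hNp : (P₀ : Subgroup L) ⊓ N = ⊥) :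
    F.IsRealizedBy ((QuotientGroup.mk' N).comp ι) := by
  set q := QuotientGroup.mk' N with hq
  refine ⟨fun a b hab => hι.1 ?_, fun P hP φ hφ => ?_⟩
  · have h1 : (ι a)⁻¹ * ι b ∈ (P₀ : Subgroup L) ⊓ N :=
      ⟨hP₀.ge (ι.range.mul_mem (ι.range.inv_mem ⟨a, rfl⟩) ⟨b, rfl⟩), (QuotientGroup.eq).1 hab⟩
    rw [hNp, Subgroup.mem_bot] at h1
    exact inv_mul_eq_one.1 h1
  constructor
  · intro h
    obtain ⟨g, hg⟩ := (hι.2 P hP φ hφ).1 h
    exact ⟨q g, fun x => by simp [MonoidHom.comp_apply, hg x, map_mul]⟩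
  · rintro ⟨c, hc⟩
    obtain ⟨g, rfl⟩ := QuotientGroup.mk'_surjective N c
    -- correct `g` by an element of `N`
    set M := (P₀ : Subgroup L) ⊔ N with hM
    set A := iotaImg ι P with hA
    have hgA : ∀ y ∈ A, g * y * g⁻¹ ∈ M := fun y hy => by
      obtain ⟨⟨x, hx⟩, hxP, rfl⟩ := hy
      have h1 : q (ι ⟨φ ⟨x, hxP⟩, hφ _⟩) = q (g * ι ⟨x, hx⟩ * g⁻¹) := by
        simpa [MonoidHom.comp_apply, hq] using hc ⟨x, hxP⟩
      have h2 := (QuotientGroup.eq).1 h1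
      have h3 := Subgroup.mul_mem_sup (hP₀.ge (⟨⟨φ ⟨x, hxP⟩, hφ _⟩, rfl⟩ : ι ⟨φ ⟨x, hxP⟩, hφ _⟩ ∈ ι.range)) h2
      rwa [mul_inv_cancel_left] at h3
    have hle : A.map (MulAut.conj g).toMonoidHom ≤ M := by
      rintro _ ⟨y, hy, rfl⟩
      exact hgA y hy
    obtain ⟨U, hU⟩ := (((P₀.2.to_le (hP₀ ▸ iotaImg_le_range P)).map _).of_equiv
      (Subgroup.subgroupOfEquivOfLe hle).symm).exists_le_sylow
    obtain ⟨m, hm⟩ := MulAction.exists_smul_eq M U (P₀.subtype (le_sup_left : (P₀ : Subgroup L) ≤ M))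
    obtain ⟨s, hs, h, hh, hsh⟩ : ∃ s ∈ (P₀ : Subgroup L), ∃ h ∈ N, s * h = (m : L) := by
      have h2 : (m : L) ∈ (((P₀ : Subgroup L) ⊔ N : Subgroup L) : Set L) := m.2
      rw [Subgroup.mul_normal] at h2
      exact h2
    refine (hι.2 P hP φ hφ).2 ⟨h * g, fun x => ?_⟩
    have hy : ι ⟨x, hP x.2⟩ ∈ A := ⟨⟨x, hP x.2⟩, x.2, rfl⟩
    have h1 : m * ⟨_, hgA _ hy⟩ * m⁻¹ ∈ ((P₀.subtype (le_sup_left : (P₀ : Subgroup L) ≤ M) : Sylow p M) : Subgroup M) := by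
      rw [← hm, Sylow.coe_subgroup_smul]
      exact ⟨_, hU (Subgroup.mem_subgroupOf.2 ⟨_, hy, rfl⟩), rfl⟩
    rw [Sylow.coe_subtype, Subgroup.mem_subgroupOf] at h1
    have h1' : (m : L) * (g * ι ⟨x, hP x.2⟩ * g⁻¹) * (m : L)⁻¹ ∈ (P₀ : Subgroup L) := h1
    rw [← hsh] at h1'
    have h2 := (P₀ : Subgroup L).mul_mem ((P₀ : Subgroup L).mul_mem ((P₀ : Subgroup L).inv_mem hs) h1') hs
    have h4 : (ι ⟨φ x, hφ x⟩)⁻¹ * (h * g * ι ⟨x, hP x.2⟩ * (h * g)⁻¹) ∈ (P₀ : Subgroup L) ⊓ N := by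
      refine ⟨(P₀ : Subgroup L).mul_mem ((P₀ : Subgroup L).inv_mem (hP₀.ge ⟨_, rfl⟩)) (by simpa [mul_assoc] using h2), ?_⟩
      refine (QuotientGroup.eq).1 ?_
      show q (ι ⟨φ x, hφ x⟩) = q (h * g * ι ⟨x, hP x.2⟩ * (h * g)⁻¹)
      have hh1 : q h = 1 := (QuotientGroup.eq_one_iff h).2 hh
      simp only [map_mul, map_inv, hh1, one_mul]
      exact hc x
    rw [hNp, Subgroup.mem_bot] at h4
    exact inv_mul_eq_one.1 h4

end Cfsg.Lib.Fusion
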