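import Mathlib
import Cfsg.Prelude.Def_PLocal
import Cfsg.Agent.Lib.Solv.Cores

/-!
A subgroup of `GL(2, p)` of order divisible by `p` and with trivial `p`-core contains `SL(2, p)`.
-/

set_option autoImplicit false

namespace Cfsg.Lib.Fusion.SLTwoInGL

open Matrix

variable {p : ℕ} [Fact p.Prime]

local notation "GL2" => (GL (Fin 2) (ZMod p))
local notation "M2" => (Matrix (Fin 2) (Fin 2) (ZMod p))

theorem sq_eq_trace (N : M2) (h : N.det = 0) : N * N = N.trace • N := by
  rw [Matrix.det_fin_two] at h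
  ext i j
  fin_cases i <;> fin_cases j <;> simp [Matrix.mul_apply, Fin.sum_univ_two, Matrix.trace_fin_two]
  · linear_combination -h
  · ring
  · ring
  · linear_combination -h

theorem unipotent {x : GL2} (hx : x ^ p = 1) : (x.1 - 1) * (x.1 - 1) = 0 ∧ x.1.det = 1 := by
  have hdet : x.1.det = 1 := by
    have h := congrArg Matrix.det (congrArg Units.val hx)
    rw [Units.val_pow_eq_pow_val, Matrix.det_pow, ZMod.pow_card, Units.val_one, Matrix.det_one] at h
    exact h
  have hN : (x.1 - 1) ^ p = 0 := by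
    rw [sub_pow_char_of_commute p (Commute.one_right x.1), one_pow,
      ← Units.val_pow_eq_pow_val, hx, Units.val_one, sub_self]
  refine ⟨?_, hdet⟩
  have hd : (x.1 - 1).det = 0 := by
    have h := congrArg Matrix.det hN
    rwa [Matrix.det_pow, ZMod.pow_card, Matrix.det_zero] at h
  set N := x.1 - 1
  have hk : ∀ k : ℕ, N ^ (k + 1) = N.trace ^ k • N := by
    intro k
    induction k with
    | zero => simp
    | succ k ih => rw [pow_succ, ih, Matrix.smul_mul, sq_eq_trace N hd, smul_smul, pow_succ]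
  have h1 := hk (p - 1)
  rw [Nat.sub_add_cancel (Fact.out : p.Prime).one_le, hN] at h1
  rw [sq_eq_trace N hd]
  rcases smul_eq_zero.1 h1.symm with h | h
  · rw [eq_zero_of_pow_eq_zero h, zero_smul]
  · rw [h, smul_zero]

theorem pow_eq_one {g : GL2} {v : Fin 2 → ZMod p} (hv : v ≠ 0) (hg : g.1 *ᵥ v = v) (hd : g.1.det = 1) :
    g ^ p = 1 := by
  set N := g.1 - 1 with hN
  have h0 : N.det = 0 := Matrix.exists_mulVec_eq_zero_iff.1
    ⟨v, hv, by rw [hN, Matrix.sub_mulVec, hg, Matrix.one_mulVec, sub_self]⟩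
  have ht : N.trace = 0 := by
    rw [hN, Matrix.det_fin_two] at h0
    rw [Matrix.det_fin_two] at hd
    rw [hN, Matrix.trace_fin_two]
    simp at h0 ⊢
    linear_combination hd - h0
  have h2 : N * N = 0 := by rw [sq_eq_trace N h0, ht, zero_smul]
  refine Units.ext ?_
  have hp : (g.1 - 1) ^ p = g.1 ^ p - 1 := by
    rw [sub_pow_char_of_commute p (Commute.one_right g.1), one_pow]
  rw [← hN, pow_eq_zero_of_le (Fact.out : p.Prime).two_le (by rw [pow_two, h2])] at hp
  rw [Units.val_pow_eq_pow_val, Units.val_one]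
  exact sub_eq_zero.1 hp.symm

/-- Upper unitriangular. -/
def up (a : ZMod p) : Matrix.SpecialLinearGroup (Fin 2) (ZMod p) := ⟨!![1, a; 0, 1], by simp [Matrix.det_fin_two]⟩

/-- Lower unitriangular. -/
def lo (a : ZMod p) : Matrix.SpecialLinearGroup (Fin 2) (ZMod p) := ⟨!![1, 0; a, 1], by simp [Matrix.det_fin_two]⟩

theorem up_pow (a : ZMod p) (k : ℕ) : up a ^ k = up ((k : ZMod p) * a) := by
  induction k with
  | zero =>
    rw [pow_zero]
    apply Subtype.ext
    ext i j
    fin_cases i <;> fin_cases j <;> simp [up]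
  | succ k ih =>
    rw [pow_succ, ih]
    apply Subtype.ext
    rw [Matrix.SpecialLinearGroup.coe_mul]
    ext i j
    fin_cases i <;> fin_cases j <;> simp [up, Matrix.mul_apply, Fin.sum_univ_two] <;> ring

theorem lo_pow (a : ZMod p) (k : ℕ) : lo a ^ k = lo ((k : ZMod p) * a) := by
  induction k with
  | zero =>
    rw [pow_zero]
    apply Subtype.ext
    ext i j
    fin_cases i <;> fin_cases j <;> simp [lo]
  | succ k ih =>
    rw [pow_succ, ih]
    apply Subtype.ext
    rw [Matrix.SpecialLinearGroup.coe_mul]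
    ext i j
    fin_cases i <;> fin_cases j <;> simp [lo, Matrix.mul_apply, Fin.sum_univ_two] <;> ring

theorem generates (M : Subgroup (Matrix.SpecialLinearGroup (Fin 2) (ZMod p))) {a b : ZMod p} (ha : a ≠ 0)
    (hb : b ≠ 0) (hu : up a ∈ M) (hl : lo b ∈ M) (s : Matrix.SpecialLinearGroup (Fin 2) (ZMod p)) : s ∈ M := by
  have hU : ∀ t, up t ∈ M := fun t => by
    have h := M.pow_mem hu (t * a⁻¹).val
    rwa [up_pow, ZMod.natCast_zmod_val, mul_assoc, inv_mul_cancel₀ ha, mul_one] at h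
  have hL : ∀ t, lo t ∈ M := fun t => by
    have h := M.pow_mem hl (t * b⁻¹).val
    rwa [lo_pow, ZMod.natCast_zmod_val, mul_assoc, inv_mul_cancel₀ hb, mul_one] at h
  have key : ∀ s : Matrix.SpecialLinearGroup (Fin 2) (ZMod p), s.1 1 0 ≠ 0 → s ∈ M := by
    intro s hc
    have e : s = up ((s.1 0 0 - 1) * (s.1 1 0)⁻¹) * lo (s.1 1 0) * up ((s.1 1 1 - 1) * (s.1 1 0)⁻¹) := by
      have hd := s.2
      rw [Matrix.det_fin_two] at hd
      apply Subtype.ext
      rw [Matrix.SpecialLinearGroup.coe_mul, Matrix.SpecialLinearGroup.coe_mul]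
      ext i j
      fin_cases i <;> fin_cases j <;> simp [up, lo, Matrix.mul_apply, Fin.sum_univ_two] <;> field_simp <;>
        first
          | linear_combination hd
          | linear_combination -hd
          | linear_combination (0 : ZMod p) * hd
    rw [e]
    exact M.mul_mem (M.mul_mem (hU _) (hL _)) (hU _)
  by_cases hc : s.1 1 0 = 0
  · have hd : s.1 1 1 ≠ 0 := fun h => by
      have := s.2
      rw [Matrix.det_fin_two, hc, h] at this
      simp at this
    have h1 := key (s * lo 1) (by rw [Matrix.SpecialLinearGroup.coe_mul]; simpa [lo, Matrix.mul_apply, Fin.sum_univ_two, hc] using hd)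
    simpa using M.mul_mem h1 (M.inv_mem (hL 1))
  · exact key s hc

theorem exists_fix {x : GL2} (hx : x ^ p = 1) (h1 : x ≠ 1) :
    ∃ v : Fin 2 → ZMod p, v ≠ 0 ∧ x.1 *ᵥ v = v := by
  obtain ⟨h, -⟩ := unipotent hx
  obtain ⟨e, he⟩ : ∃ e, (x.1 - 1) *ᵥ e ≠ 0 := by
    by_contra! hh
    refine h1 (Units.ext (sub_eq_zero.1 ?_))
    exact Matrix.ext_of_mulVec_single fun i => by rw [Units.val_one, hh, Matrix.zero_mulVec]
  refine ⟨_, he, ?_⟩
  have := congrArg (fun M : M2 => M *ᵥ e) h
  simp only [← Matrix.mulVec_mulVec, Matrix.zero_mulVec] at this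
  rw [Matrix.sub_mulVec, Matrix.one_mulVec, sub_eq_zero] at this
  exact this

theorem sl_le (A : Subgroup GL2) (hA : Cfsg.pCore p A = ⊥) (hp : p ∣ Nat.card A)
    (s : Matrix.SpecialLinearGroup (Fin 2) (ZMod p)) : Matrix.SpecialLinearGroup.toGL s ∈ A := by
  classical
  obtain ⟨x, hx⟩ := exists_prime_orderOf_dvd_card' p hp
  have hxp : (x : GL2) ^ p = 1 := by rw [← Subgroup.coe_pow, orderOf_dvd_iff_pow_eq_one.1 hx.dvd, Subgroup.coe_one]
  have hx1 : (x : GL2) ≠ 1 := fun h => by
    rw [show x = 1 from Subtype.ext h, orderOf_one] at hx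
    exact (Fact.out : p.Prime).ne_one hx.symm
  obtain ⟨v, hv, hxv⟩ := exists_fix hxp hx1
  obtain ⟨y, hyA, hyp, hyv⟩ : ∃ y ∈ A, y ^ p = 1 ∧ y.1 *ᵥ v ≠ v := by
    by_contra! hall
    let U : Subgroup A :=
      { carrier := {g | g.1.1 *ᵥ v = v ∧ g.1.1.det = 1}
        one_mem' := ⟨by rw [Subgroup.coe_one, Units.val_one, Matrix.one_mulVec], by simp⟩
        mul_mem' := fun {a b} ha hb => by
          refine ⟨?_, ?_⟩
          · show (a.1.1 * b.1.1) *ᵥ v = v
            rw [← Matrix.mulVec_mulVec, hb.1, ha.1]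
          · show (a.1.1 * b.1.1).det = 1
            rw [Matrix.det_mul, ha.2, hb.2, one_mul]
        inv_mem' := fun {a} ha => by
          refine ⟨?_, ?_⟩
          · show (a.1⁻¹ : GL2).1 *ᵥ v = v
            conv_lhs => rw [← ha.1]
            rw [Matrix.mulVec_mulVec, Units.inv_mul, Matrix.one_mulVec]
          · show (a.1⁻¹ : GL2).1.det = 1
            have h := congrArg Matrix.det (Units.inv_mul a.1)
            rwa [Matrix.det_mul, ha.2, mul_one, Matrix.det_one] at h }
    have hUp : ∀ g ∈ U, g ^ p = 1 := fun g hg => Subtype.ext (pow_eq_one hv hg.1 hg.2)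
    haveI : U.Normal := ⟨fun g hg k => by
      have h : ((k * g * k⁻¹ : A) : GL2) ^ p = 1 := by
        rw [← Subgroup.coe_pow, conj_pow, hUp g hg, mul_one, mul_inv_cancel, Subgroup.coe_one]
      exact ⟨hall _ (k * g * k⁻¹).2 h, (unipotent h).2⟩⟩
    have hUpg : IsPGroup p U := fun g => ⟨1, Subtype.ext (by rw [pow_one]; exact hUp g g.2)⟩
    have hle := Cfsg.Lib.Solv.le_pCore inferInstance hUpg
    rw [hA] at hle
    have hxU : x ∈ U := ⟨hxv, (unipotent hxp).2⟩
    exact hx1 (congrArg Subtype.val (Subgroup.mem_bot.1 (hle hxU)))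
  have hy1 : y ≠ 1 := fun h => hyv (by rw [h, Units.val_one, Matrix.one_mulVec])
  obtain ⟨w, hw, hyw⟩ := exists_fix hyp hy1
  have hdet : (Matrix.of ![v, w] : M2).transpose.det ≠ 0 := by
    intro h
    rw [Matrix.det_transpose] at h
    obtain ⟨c, hc, hcv⟩ := Matrix.exists_vecMul_eq_zero_iff.2 h
    have hcomb : c 0 • v + c 1 • w = 0 := by
      rw [← hcv]
      ext i; simp [Matrix.vecMul, dotProduct, Fin.sum_univ_two]
    by_cases hc1 : c 0 = 0
    · rw [hc1, zero_smul, zero_add, smul_eq_zero] at hcomb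
      refine hc (funext fun i => ?_)
      fin_cases i
      · exact hc1
      · exact hcomb.resolve_right hw
    · have he : v = -(c 0)⁻¹ • (c 1 • w) := by
        rw [eq_neg_of_add_eq_zero_right hcomb, smul_neg, neg_smul, neg_neg, smul_smul, inv_mul_cancel₀ hc1, one_smul]
      exact hyv (by rw [he, Matrix.mulVec_smul, Matrix.mulVec_smul, hyw])
  let P : GL2 := Matrix.GeneralLinearGroup.mkOfDetNeZero _ hdet
  have hP : ∀ g : GL2, ∀ i : Fin 2, ((P⁻¹ * g * P : GL2) : M2) *ᵥ Pi.single i 1 =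
      ((P⁻¹ : GL2) : M2) *ᵥ (g.1 *ᵥ ![v, w] i) := fun g i => by
    rw [Units.val_mul, Units.val_mul, ← Matrix.mulVec_mulVec, ← Matrix.mulVec_mulVec]
    congr 2
    ext j
    fin_cases i <;> fin_cases j <;> simp [P, Matrix.mulVec_single_one]
  have hPi : ∀ i : Fin 2, ((P⁻¹ : GL2) : M2) *ᵥ ![v, w] i = Pi.single i 1 := fun i => by
    have h : (P : M2) *ᵥ Pi.single i 1 = ![v, w] i := by
      ext j; fin_cases i <;> fin_cases j <;> simp [P, Matrix.mulVec_single_one]
    rw [← h, Matrix.mulVec_mulVec, Units.inv_mul, Matrix.one_mulVec]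
  have hdetc : ∀ g : GL2, g.1.det = 1 → ((P⁻¹ * g * P : GL2) : M2).det = 1 := fun g hg => by
    rw [Units.val_mul, Units.val_mul, Matrix.det_mul, Matrix.det_mul, hg, mul_one, ← Matrix.det_mul,
      Units.inv_mul, Matrix.det_one]
  set X := ((P⁻¹ * x.1 * P : GL2) : M2) with hX
  set Y := ((P⁻¹ * y * P : GL2) : M2) with hY
  have hXe : X *ᵥ Pi.single 0 1 = Pi.single 0 1 := by
    rw [hX, hP]; show _ *ᵥ (x.1.1 *ᵥ v) = _; rw [hxv]; exact hPi 0
  have hYe : Y *ᵥ Pi.single 1 1 = Pi.single 1 1 := by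
    rw [hY, hP]; show _ *ᵥ (y.1 *ᵥ w) = _; rw [hyw]; exact hPi 1
  have hXd := hdetc _ (unipotent hxp).2
  have hYd := hdetc _ (unipotent hyp).2
  have hX00 : X 0 0 = 1 := by simpa [Matrix.mulVec_single_one] using congrFun hXe 0
  have hX10 : X 1 0 = 0 := by simpa [Matrix.mulVec_single_one] using congrFun hXe 1
  have hY01 : Y 0 1 = 0 := by simpa [Matrix.mulVec_single_one] using congrFun hYe 0
  have hY11 : Y 1 1 = 1 := by simpa [Matrix.mulVec_single_one] using congrFun hYe 1
  rw [← hX, Matrix.det_fin_two, hX00, hX10] at hXd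
  rw [← hY, Matrix.det_fin_two, hY01, hY11] at hYd
  have hXu : (P⁻¹ * x.1 * P : GL2) = Matrix.SpecialLinearGroup.toGL (up (X 0 1)) := by
    refine Units.ext ?_
    show X = (up (X 0 1)).1
    ext i j
    fin_cases i <;> fin_cases j <;> simp [up, hX00, hX10]
    linear_combination hXd
  have hYl : (P⁻¹ * y * P : GL2) = Matrix.SpecialLinearGroup.toGL (lo (Y 1 0)) := by
    refine Units.ext ?_
    show Y = (lo (Y 1 0)).1
    ext i j
    fin_cases i <;> fin_cases j <;> simp [lo, hY01, hY11]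
    linear_combination hYd
  let M : Subgroup (Matrix.SpecialLinearGroup (Fin 2) (ZMod p)) :=
    (A.map (MulAut.conj P⁻¹).toMonoidHom).comap Matrix.SpecialLinearGroup.toGL
  have hM : ∀ t, t ∈ M := by
    refine generates M (a := X 0 1) (b := Y 1 0) (fun h => hx1 ?_) (fun h => hy1 ?_) ⟨x.1, x.2, ?_⟩ ⟨y, hyA, ?_⟩
    · rw [h, show up (0 : ZMod p) = 1 from by apply Subtype.ext; ext i j; fin_cases i <;> fin_cases j <;> simp [up],
        map_one] at hXu
      have := congrArg (fun g => P * g * P⁻¹) hXu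
      simpa [mul_assoc] using this
    · rw [h, show lo (0 : ZMod p) = 1 from by apply Subtype.ext; ext i j; fin_cases i <;> fin_cases j <;> simp [lo],
        map_one] at hYl
      have := congrArg (fun g => P * g * P⁻¹) hYl
      simpa [mul_assoc] using this
    · rw [← hXu]; simp [mul_assoc]
    · rw [← hYl]; simp [mul_assoc]
  let s' : Matrix.SpecialLinearGroup (Fin 2) (ZMod p) := ⟨((P⁻¹ * Matrix.SpecialLinearGroup.toGL s * P : GL2) : M2),
    hdetc _ (by simpa using s.2)⟩
  obtain ⟨g, hg, he⟩ := hM s'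
  have : g = Matrix.SpecialLinearGroup.toGL s := by
    refine (MulAut.conj P⁻¹).injective (he.trans (Units.ext ?_))
    rw [MulAut.conj_apply, inv_inv]
    rfl
  exact this ▸ hg

end Cfsg.Lib.Fusion.SLTwoInGL
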