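import Mathlib
import Cfsg.Prelude.Def_FusionReduction
import Cfsg.Agent.Lib.Fusion.Submodel

/-!
# A system is free of sections with a `p`-subgroup not involved in `S`
-/

set_option autoImplicit false

universe u

namespace Cfsg.Lib.Fusion

open Cfsg Cfsg.FusionSystem Subgroup

variable {Ω : Type u} [Group Ω] {S : Subgroup Ω} [Finite S] {p : ℕ} [Fact p.Prime]

theorem isSectionFree_of_not_involved (F : FusionSystem S) (H : Type*) [Group H] [Finite H]
    (Q : Subgroup H) (hQ : IsPGroup p Q) (hfree : ¬ Involves (↥Q) (↥S)) : F.IsSectionFree p H := by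
  intro Q₀ _ _ N _ L _ ι hmod hinv
  obtain ⟨hfin, ⟨hι, -⟩, ⟨T, hT⟩, -⟩ := hmod
  obtain ⟨K, R, hn, ⟨e⟩⟩ := hinv
  haveI := hn
  let f : K →* H := e.toMonoidHom.comp (QuotientGroup.mk' (R.subgroupOf K))
  have hf : Function.Surjective f := e.surjective.comp (QuotientGroup.mk'_surjective _)
  set P := Q.comap f
  let fP : P →* Q := (f.comp P.subtype).codRestrict Q fun x => x.2
  have hfP : Function.Surjective fP := fun a => by
    obtain ⟨k, hk⟩ := hf a
    exact ⟨⟨k, by show f k ∈ Q; rw [hk]; exact a.2⟩, Subtype.ext hk⟩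
  obtain ⟨X⟩ : Nonempty (Sylow p P) := inferInstance
  have htop : (X.mapSurjective hfP : Subgroup Q) = ⊤ :=
    ((X.mapSurjective hfP).is_maximal' (hQ.to_subgroup ⊤) le_top).symm
  rw [Sylow.coe_mapSurjective hfP X] at htop
  set X' := ((X : Subgroup P).map P.subtype).map K.subtype
  obtain ⟨T', hT'⟩ := ((X.isPGroup'.map P.subtype).map K.subtype : IsPGroup p X').exists_le_sylow
  obtain ⟨g, hg⟩ := MulAction.exists_smul_eq L T' T
  have hle : ∀ x : (X : Subgroup P), g * ((x : P) : K).1 * g⁻¹ ∈ ι.range := by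
    intro x
    rw [← hT, ← hg, Sylow.coe_subgroup_smul]
    exact Subgroup.smul_mem_pointwise_smul _ _ _ (hT' ⟨((x : P) : K), ⟨(x : P), x.2, rfl⟩, rfl⟩)
  let j : (X : Subgroup P) →* ↥(normalizerIn S Q₀) :=
    (MonoidHom.ofInjective hι).symm.toMonoidHom.comp
      ((((MulAut.conj g).toMonoidHom.comp (K.subtype.comp (P.subtype.comp (X : Subgroup P).subtype)))).codRestrict
        ι.range hle)
  have hj : Function.Injective j := by
    intro a b hab
    have h := (MonoidHom.ofInjective hι).symm.injective hab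
    have h' := congrArg Subtype.val h
    exact Subtype.ext (Subtype.ext (Subtype.ext ((MulAut.conj g).injective h')))
  refine hfree (involves_of_injective ((Subgroup.inclusion inf_le_left).comp j)
    ((Subgroup.inclusion_injective inf_le_left).comp hj)
    (involves_of_surjective (fP.comp (X : Subgroup P).subtype) (fun a => ?_) ?_))
  · obtain ⟨x, hx, hxe⟩ := htop.ge (mem_top a)
    exact ⟨⟨x, hx⟩, hxe⟩
  · exact ⟨⊤, ⊥, inferInstance, ⟨((QuotientGroup.quotientMulEquivOfEq (Subgroup.bot_subgroupOf _)).trans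
      QuotientGroup.quotientBot).trans Subgroup.topEquiv⟩⟩

end Cfsg.Lib.Fusion
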