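import Mathlib
import Cfsg.Prelude.Def_FusionSystem
import Cfsg.Agent.Lib.Fusion.Alperin
import Cfsg.Agent.Lib.Fusion.ExtSystem
import Cfsg.Agent.Lib.Fusion.LocalSystem
import Cfsg.Agent.Lib.Fusion.Hyperfocal
import Cfsg.Agent.Lib.Fusion.ChainCriterion
import Cfsg.Agent.Lib.Transfer.SmallElements
import Cfsg.Agent.Lib.Transfer.OmegaCentralizerWithin

/-!
A saturated subsystem agreeing on the small abelian subgroups of the hyperfocal subgroup is the
whole system.
-/

set_option autoImplicit false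

open scoped Classical

namespace Cfsg.Lib.Fusion

open Cfsg Cfsg.FusionSystem Cfsg.Lib.Transfer

universe u

variable {Ω : Type u} [Group Ω] {S : Subgroup Ω} {E F : FusionSystem S} {P V : Subgroup Ω} {p : ℕ}

/-- `V` is an abelian subgroup of small exponent inside the hyperfocal subgroup of `F`. -/
def SmallAb (F : FusionSystem S) (p : ℕ) (V : Subgroup Ω) : Prop :=
  V ≤ F.hyperfocalSubgroup p ∧ (∀ x ∈ V, ∀ y ∈ V, x * y = y * x) ∧ ∀ x ∈ V, Small p x

/-- Every map of `F` on such a subgroup is a map of `E`. -/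
def SmallAgrees (E F : FusionSystem S) (p : ℕ) : Prop :=
  ∀ A f, Mor F A f → SmallAb F p A → Mor E A f

theorem small_mul {x y : Ω} (hc : Commute x y) (hx : Small p x) (hy : Small p y) :
    Small p (x * y) := by
  by_cases h2 : p = 2
  · subst h2
    have h4 : ∀ z : Ω, Small 2 z → z ^ 4 = 1 := fun z hz => by
      rcases hz with h | ⟨-, h⟩
      · rw [show (4 : ℕ) = 2 * 2 from rfl, pow_mul, h, one_pow]
      · exact h
    exact Or.inr ⟨rfl, by rw [hc.mul_pow, h4 x hx, h4 y hy, one_mul]⟩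
  · rcases hx with hx | ⟨h, -⟩
    · rcases hy with hy | ⟨h, -⟩
      · exact Or.inl (by rw [hc.mul_pow, hx, hy, one_mul])
      · exact absurd h h2
    · exact absurd h h2

theorem small_iff_pow (x : Ω) :
    Small p x ↔ x ^ p ^ (if p = 2 then 2 else 1) = 1 := by
  by_cases h2 : p = 2
  · subst h2
    rw [if_pos rfl]
    refine ⟨fun h => ?_, fun h => Or.inr ⟨rfl, h⟩⟩
    rcases h with h | ⟨-, h⟩
    · rw [show (2 : ℕ) ^ 2 = 2 * 2 from rfl, pow_mul, h, one_pow]
    · exact h
  · rw [if_neg h2, pow_one]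
    exact ⟨fun h => h.resolve_right fun h' => h2 h'.1, Or.inl⟩

theorem fullyCentralized_of_sub (hsub : E.IsSubsystemOf F) {Q : Subgroup Ω}
    (h : F.IsFullyCentralized Q) : E.IsFullyCentralized Q := by
  refine ⟨h.1, fun R hR => h.2 R ?_⟩
  obtain ⟨f, hf, hi⟩ := isConj_iff.1 hR
  exact isConj_iff.2 ⟨f, hf.of_subsystem hsub, hi⟩

theorem fullyNormalized_of_sub (hsub : E.IsSubsystemOf F) {Q : Subgroup Ω}
    (h : F.IsFullyNormalized Q) : E.IsFullyNormalized Q := by
  refine ⟨h.1, fun R hR => h.2 R ?_⟩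
  obtain ⟨f, hf, hi⟩ := isConj_iff.1 hR
  exact isConj_iff.2 ⟨f, hf.of_subsystem hsub, hi⟩

theorem hyperfocal_mono {T : Subgroup Ω} {D : FusionSystem T} (hT : T ≤ S)
    (hD : D.IsSubsystemOf F) : D.hyperfocalSubgroup p ≤ F.hyperfocalSubgroup p := by
  refine (Subgroup.closure_le _).2 ?_
  rintro _ ⟨P, α, x, hP, hα, rfl⟩
  have hle : D.autGroup P ≤ F.autGroup P := fun a ha =>
    (mem_autGroup_iff (hP.trans hT)).2 (((mem_autGroup_iff hP).1 ha).of_subsystem hD)
  exact mem_hyperfocal_of_residual (hP.trans hT) (α := ⟨α, hle α.2⟩)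
    (Cfsg.Lib.Transfer.map_pResidual_le (Subgroup.inclusion hle) ⟨α, hα, rfl⟩) x

/-- The graphs of the maps of a system. -/
def graphs {T : Subgroup Ω} (D : FusionSystem T) : Set (Set (Ω × Ω)) :=
  {G | ∃ P f, Mor D P f ∧ G = (fun x => (x, f x)) '' (P : Set Ω)}

theorem graphs_finite {T : Subgroup Ω} [Finite T] (D : FusionSystem T) : (graphs D).Finite := by
  have h1 : (T : Set Ω).Finite := Set.toFinite _
  refine (h1.prod h1).powerset.subset ?_
  rintro _ ⟨P, f, hf, rfl⟩ _ ⟨x, hx, rfl⟩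
  exact ⟨hf.le hx, hf.mem hx⟩

/-- The map on the centralizer of a non-central small subgroup lies in `E`. -/
theorem mor_centralizer_part [Finite S] [Fact p.Prime] (hS : IsPGroup p S) (hE : E.IsSaturated p)
    (hsub : E.IsSubsystemOf F) (hag : SmallAgrees E F p)
    {V' : Subgroup Ω} (hV'c : F.IsFullyCentralized V') (hconj : F.IsConj V V')
    (hfix : ∀ Q g, Mor F Q g → Q ≤ centralizerIn S V' → V' ≤ Q → (∀ x ∈ V', g x = x) → Mor E Q g)
    (hP : P ≤ S) (hV : SmallAb F p V) (hVP : V ≤ P)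
    {f : Ω → Ω} (hf : Mor F P f) (hVf : SmallAb F p (img V f)) :
    Mor E (P ⊓ centralizerIn S V) f := by
  obtain ⟨φ, hφ, hφi⟩ := isConj_iff.1 hconj
  have hφE := hag V φ hφ hV
  have hrec := (isReceptive_iff.1
    (fullyCentralized_axiom hS hE (fullyCentralized_of_sub hsub hV'c))).2
  obtain ⟨e1, he1, he1e⟩ := hrec V φ hφE hφi
  obtain ⟨j, hj, hj1, hj2, hji⟩ := (hf.restrict hVP).exists_inv
  have hψ : Mor F (img V f) (fun y => φ (j y)) := hφ.comp hj fun y hy => (hj2 y hy).2
  have hψi : img (img V f) (fun y => φ (j y)) = V' := by rw [hj.img_comp, hji, hφi]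
  obtain ⟨e2, he2, he2e⟩ := hrec _ _ (hag _ _ hψ hVf) hψi
  set C := P ⊓ centralizerIn S V with hCdef
  have hCP : C ≤ P := inf_le_left
  have hVS : V ≤ S := hVP.trans hP
  have hVC : V ≤ C := le_inf hVP fun x hx => mem_centralizerIn_iff.2 ⟨hVS hx, fun y hy => by
    rw [hV.2.1 x hx y hy, mul_inv_cancel_right]⟩
  have hfC : ∀ c ∈ C, f c ∈ centralizerIn S (img V f) := fun c hc =>
    hf.mem_centralizerIn hVP (hCP hc) hc.2
  have hC1 : C ≤ extN S V φ := fun c hc => centralizerIn_le_extN hc.2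
  have he1C := he1.restrict hC1
  have he2C : ∀ c ∈ C, f c ∈ extN S (img V f) (fun y => φ (j y)) := fun c hc =>
    centralizerIn_le_extN (hfC c hc)
  obtain ⟨i1, hi1, hi11, hi12, -⟩ := (he1C.of_subsystem hsub).exists_inv
  have hfi : Mor F (img C e1) (fun y => f (i1 y)) := hf.comp hi1 fun y hy => hCP (hi12 y hy).2
  have hg : Mor F (img C e1) (fun y => e2 (f (i1 y))) :=
    (he2.of_subsystem hsub).comp hfi fun y hy => he2C _ (hi12 y hy).2
  have hVi : img V e1 = V' := (img_congr he1e).trans hφi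
  have hsubC : img C e1 ≤ centralizerIn S V' := img_le fun c hc =>
    hVi ▸ he1.mem_centralizerIn (hVC.trans hC1) (hC1 hc) hc.2
  have hgE : Mor E (img C e1) (fun y => e2 (f (i1 y))) := by
    refine hfix _ _ hg hsubC (hVi ▸ img_mono hVC) fun y hy => ?_
    rw [← hVi] at hy
    obtain ⟨v, hv, rfl⟩ := (he1.restrict (hVC.trans hC1)).mem_img.1 hy
    rw [hi11 v (hVC hv), he2e _ (mem_img_of_mem hv), hj1 v hv, he1e v hv]
  have h1 : Mor E C (fun x => e2 (f x)) := (hgE.comp he1C fun x hx => mem_img_of_mem hx).congr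
    fun x hx => by rw [hi11 x hx]
  obtain ⟨i2, hi2, hi21, -, -⟩ := he2.exists_inv
  exact (hi2.comp h1 fun x hx => mem_img_of_mem (he2C x hx)).congr fun x hx => hi21 _ (he2C x hx)

/-- A noncentral small abelian subgroup normalized by `N_S(P)` puts `Aut_F(P)` into `E`. -/
theorem mor_of_noncentral [Finite S] [Fact p.Prime] (hS : IsPGroup p S) (hF : F.IsSaturated p)
    (hE : E.IsSaturated p) (hsub : E.IsSubsystemOf F) (hag : SmallAgrees E F p)
    (hPn : F.IsFullyNormalized P) (hPc : F.IsCentric P)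
    (ih : ∀ (R : Subgroup Ω) (f : Ω → Ω), Nat.card P < Nat.card R → Mor F R f → Mor E R f)
    (hV : SmallAb F p V) (hVP : V ≤ P) (hVN : normalizerIn S P ≤ normalizerIn S V)
    {V' : Subgroup Ω} (hV'c : F.IsFullyCentralized V') (hconj : F.IsConj V V')
    (hfix : ∀ Q g, Mor F Q g → Q ≤ centralizerIn S V' → V' ≤ Q → (∀ x ∈ V', g x = x) → Mor E Q g)
    {α : MulAut P} (hα : α ∈ F.autGroup P) : α ∈ E.autGroup P := by
  have hP := hPn.1
  have := finite_mulAut_of_le hP
  have hαm := (mem_autGroup_iff hP).1 hα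
  have hle : E.autGroup P ≤ F.autGroup P := fun a ha =>
    (mem_autGroup_iff hP).2 (((mem_autGroup_iff hP).1 ha).of_subsystem hsub)
  obtain ⟨hPfc, hPa⟩ := fullyNormalized_axiom hS hF hPn
  have hrecP := fullyCentralized_axiom hS hF hPfc
  have hVf : SmallAb F p (img V (autFun α)) := by
    have hm := hαm.restrict hVP
    refine ⟨img_le fun x hx => StronglyClosed.mem (stronglyClosed_hyperfocal hS hF) hm hx (hV.1 hx),
      ?_, ?_⟩
    · intro x hx y hy
      obtain ⟨a, ha, rfl⟩ := hm.mem_img.1 hx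
      obtain ⟨b, hb, rfl⟩ := hm.mem_img.1 hy
      rw [← hm.map_mul ha hb, ← hm.map_mul hb ha, hV.2.1 a ha b hb]
    · intro x hx
      obtain ⟨φ, -, hφ⟩ := hm.exists_hom
      obtain ⟨a, ha, rfl⟩ := hm.mem_img.1 hx
      rw [← hφ ⟨a, ha⟩]
      exact small_map φ (small_of_injective V.subtype V.subtype_injective (hV.2.2 a ha))
  set C := P ⊓ centralizerIn S V with hCdef
  have hCP : C ≤ P := inf_le_left
  have hηE : Mor E C (autFun α) :=
    mor_centralizer_part hS hE hsub hag hV'c hconj hfix hP hV hVP hαm hVf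
  -- `C` is normalized by `N_S(P)` and contains its centralizer in `P`
  have hNC : ∀ c ∈ normalizerIn S P, ∀ x ∈ C, c * x * c⁻¹ ∈ C := by
    intro c hc x hx
    have hxC := mem_centralizerIn_iff.1 hx.2
    refine ⟨conj_mem_of_mem_normalizerIn hc (hCP hx), mem_centralizerIn_iff.2
      ⟨S.mul_mem (S.mul_mem (normalizerIn_le hc) hxC.1) (S.inv_mem (normalizerIn_le hc)),
        fun v hv => ?_⟩⟩
    have h1 : c⁻¹ * v * c⁻¹⁻¹ ∈ V :=
      conj_mem_of_mem_normalizerIn ((normalizerIn S V).inv_mem (hVN hc)) hv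
    calc c * x * c⁻¹ * v * (c * x * c⁻¹)⁻¹
        = c * (x * (c⁻¹ * v * c⁻¹⁻¹) * x⁻¹) * c⁻¹ := by group
      _ = v := by rw [hxC.2 _ h1]; group
  have hVC : V ≤ C := le_inf hVP fun x hx => mem_centralizerIn_iff.2 ⟨hP (hVP hx), fun y hy => by
    rw [hV.2.1 x hx y hy, mul_inv_cancel_right]⟩
  have hself : ∀ u ∈ P, (∀ x ∈ C, u * x * u⁻¹ = x) → u ∈ C := fun u hu h =>
    ⟨hu, mem_centralizerIn_iff.2 ⟨hP hu, fun x hx => h x (hVC hx)⟩⟩
  -- the automorphisms fixing `C` pointwise lie in `Aut_S(P)`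
  let K : Subgroup (MulAut P) :=
    { carrier := {a | a ∈ F.autGroup P ∧ ∀ x ∈ C, autFun a x = x}
      one_mem' := ⟨(F.autGroup P).one_mem, fun x hx => by
        rw [autFun_apply (1 : MulAut P) (hCP hx)]; rfl⟩
      mul_mem' := fun {a b} ha hb => ⟨(F.autGroup P).mul_mem ha.1 hb.1, fun x hx => by
        rw [autFun_mul _ _ (hCP hx), hb.2 x hx, ha.2 x hx]⟩
      inv_mem' := fun {a} ha => ⟨(F.autGroup P).inv_mem ha.1, fun x hx => by
        have h1 := autFun_mul a⁻¹ a (hCP hx)
        rw [inv_mul_cancel, ha.2 x hx, autFun_apply (1 : MulAut P) (hCP hx)] at h1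
        exact h1.symm⟩ }
  have hKp : IsPGroup p K := by
    rintro ⟨a, haF, hafix⟩
    set n := (orderOf a).factorization p
    set δ := a ^ p ^ n with hδdef
    have hord : (orderOf δ).Coprime p := by
      rw [hδdef, orderOf_pow, Nat.gcd_eq_right (Nat.ordProj_dvd _ p)]
      exact (Nat.coprime_ordCompl Fact.out (orderOf_pos a).ne').symm
    have hδK : δ ∈ K := K.pow_mem (x := a) ⟨haF, hafix⟩ _
    refine ⟨n, Subtype.ext ?_⟩
    show δ = 1
    refine aut_ext fun x hx => ?_
    rw [autFun_apply (1 : MulAut P) hx]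
    have hu : x⁻¹ * autFun δ x ∈ P := P.mul_mem (P.inv_mem hx) (autFun_mem δ hx)
    have huC : x⁻¹ * autFun δ x ∈ C := hself _ hu fun c hc => by
      have hδm := (mem_autGroup_iff hP).1 hδK.1
      have hxc := hNC x (le_normalizerIn hP hx) c hc
      have h1 := hδm.map_conj hx (hCP hc)
      rw [hδK.2 c hc, hδK.2 _ hxc] at h1
      calc x⁻¹ * autFun δ x * c * (x⁻¹ * autFun δ x)⁻¹
          = x⁻¹ * (autFun δ x * c * (autFun δ x)⁻¹) * x := by group
        _ = c := by rw [← h1]; group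
    exact eq_of_fixed_diff hS hP hord hx hu (hδK.2 _ huC)
  have hKT : K ≤ autInducedBy S P := by
    have hnorm : autInducedBy S P ≤ Subgroup.normalizer (K : Set (MulAut P)) := by
      intro t ht
      have key : ∀ t ∈ autInducedBy S P, ∀ a ∈ K, t * a * t⁻¹ ∈ K := by
        intro t ht a ha
        refine ⟨(F.autGroup P).mul_mem ((F.autGroup P).mul_mem (autInducedBy_le_autGroup hP ht) ha.1)
          ((F.autGroup P).inv_mem (autInducedBy_le_autGroup hP ht)), fun x hx => ?_⟩
        rw [← range_conjAut] at ht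
        obtain ⟨c, rfl⟩ := ht
        rw [autFun_mul _ _ (hCP hx), autFun_mul _ _ (autFun_mem _ (hCP hx)), ← map_inv,
          autFun_conjAut _ (hCP hx)]
        have h1 := hNC _ ((normalizerIn S P).inv_mem c.2) x hx
        have h2 : ((c⁻¹ : normalizerIn S P) : Ω) = (c : Ω)⁻¹ := rfl
        rw [h2, ha.2 _ h1, autFun_conjAut _ (hCP h1)]
        group
      refine Subgroup.mem_normalizer_iff.2 fun a => ⟨fun ha => key t ht a ha, fun ha => ?_⟩
      have h1 := key t⁻¹ ((autInducedBy S P).inv_mem ht) _ ha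
      simpa [mul_assoc] using h1
    have hp' : IsPGroup p ↥(autInducedBy S P ⊔ K) :=
      (isPGroup_autInducedBy hS).to_sup_of_normal_right' hKp hnorm
    obtain ⟨γ, -, hγA⟩ := exists_conj_le_autInducedBy hPa
      (sup_le (autInducedBy_le_autGroup hP) (fun a (ha : a ∈ K) => ha.1)) hp'
    have hcard : Nat.card ↥(autInducedBy S P ⊔ K) ≤ Nat.card (autInducedBy S P) :=
      Nat.card_le_card_of_injective (fun a => (⟨γ * a * γ⁻¹, hγA a a.2⟩ : autInducedBy S P))
        fun a b h => Subtype.ext (mul_left_cancel (mul_right_cancel (congrArg Subtype.val h)))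
    rw [eq_of_le_of_card_le (le_sup_left : autInducedBy S P ≤ _) hcard]
    exact le_sup_right
  have hTE : autInducedBy S P ≤ E.autGroup P := autInducedBy_le_autGroup hP
  -- the image of `C` moved to a fully normalized subgroup
  set C2 := img C (autFun α) with hC2
  have hC2P : C2 ≤ P := img_le fun x hx => autFun_mem α (hCP hx)
  have hC2n : ∀ c ∈ P, ∀ y ∈ C2, c * y * c⁻¹ ∈ C2 := by
    intro c hc y hy
    obtain ⟨x, hx, rfl⟩ := (hαm.restrict hCP).mem_img.1 hy
    have h1 := autFun_mul α α⁻¹ hc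
    rw [mul_inv_cancel, autFun_apply (1 : MulAut P) hc] at h1
    have hd := autFun_mem α⁻¹ hc
    have h2 := hαm.map_conj hd (hCP hx)
    rw [← h1] at h2
    exact h2.symm ▸ mem_img_of_mem (hNC _ (le_normalizerIn hP hd) x hx)
  obtain ⟨C'', hC''c, hC''n⟩ := exists_fullyNormalized E (hCP.trans hP)
  obtain ⟨k, hk, -, hki⟩ := exists_normalizerIn_map_of_fullyNormalized hS hE hC''n hC''c
  have hPN : P ≤ normalizerIn S C := fun c hc =>
    mem_normalizerIn_of_conj (hCP.trans hP) (hP hc) (hNC c (le_normalizerIn hP hc))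
  have hkP := hk.restrict hPN
  obtain ⟨j, hj, hj1, hj2, hji⟩ := (hαm.restrict hCP).exists_inv
  have hηinv : Mor E C2 j := by
    obtain ⟨j', hj', hj'1, -, -⟩ := hηE.exists_inv
    refine hj'.congr fun y hy => ?_
    obtain ⟨x, hx, rfl⟩ := (hαm.restrict hCP).mem_img.1 hy
    rw [hj'1 x hx, hj1 x hx]
  have hη2 : Mor E C2 (fun y => k (j y)) :=
    (hkP.restrict hCP).comp hηinv fun y hy => (hj2 y hy).2
  have hη2i : img C2 (fun y => k (j y)) = C'' := by rw [hj.img_comp, hji, hki]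
  obtain ⟨η, hη, hηe⟩ :=
    (isReceptive_iff.1 (receptive_of_fullyNormalized hS hE hC''n)).2 _ _ hη2 hη2i
  have hinvP : ∀ {x : Ω}, x ∈ P → autFun α (autFun α⁻¹ x) = x := fun {x} hx => by
    rw [← autFun_mul α α⁻¹ hx, mul_inv_cancel, autFun_apply (1 : MulAut P) hx]
    rfl
  have hjα : ∀ x ∈ C2, autFun α⁻¹ x = j x := fun x hx => by
    refine hαm.eq_of_eq (autFun_mem _ (hC2P hx)) (hCP (hj2 x hx).2) ?_
    rw [hinvP (hC2P hx), (hj2 x hx).1]
  have hN : P ≤ extN S C2 (fun y => k (j y)) := fun c hc => by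
    refine ⟨mem_normalizerIn_of_conj (hC2P.trans hP) (hP hc) (hC2n c hc), k (autFun α⁻¹ c),
      hkP.mem (autFun_mem _ hc), fun y hy => ?_⟩
    show k (j (c * y * c⁻¹)) = _
    rw [← hkP.map_conj (autFun_mem _ hc) (hCP (hj2 y hy).2)]
    congr 1
    refine hαm.eq_of_eq (hCP (hj2 _ (hC2n c hc y hy)).2)
      (P.mul_mem (P.mul_mem (autFun_mem _ hc) (hCP (hj2 y hy).2)) (P.inv_mem (autFun_mem _ hc))) ?_
    rw [(hj2 _ (hC2n c hc y hy)).1, hαm.map_conj (autFun_mem _ hc) (hCP (hj2 y hy).2), hinvP hc,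
      (hj2 y hy).1]
  have hηP := hη.restrict hN
  set Q := img P η with hQ
  have hC''Q : ∀ z ∈ C'', ∃ y ∈ C2, η y = z := by
    intro z hz
    rw [← hη2i] at hz
    obtain ⟨y, hy, rfl⟩ := hη2.mem_img.1 hz
    exact ⟨y, hy, hηe y hy⟩
  obtain ⟨iQ, hiQ, hiQ1, hiQ2, hiQi⟩ := (hηP.of_subsystem hsub).exists_inv
  by_cases hC0 : centralizerIn S C'' ≤ Q
  · -- `k` and `η` have the same image
    have hle' : img P k ≤ Q := img_le fun c hc => by
      set b := autFun α c with hb
      have hbP : b ∈ P := autFun_mem α hc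
      have hz : (k c)⁻¹ * η b ∈ centralizerIn S C'' := by
        refine mem_centralizerIn_iff.2 ⟨S.mul_mem (S.inv_mem (hkP.mem hc)) (hηP.mem hbP),
          fun z hz => ?_⟩
        obtain ⟨y, hy, rfl⟩ := hC''Q z hz
        have e1 := hηP.map_conj hbP (hC2P hy)
        rw [hηe _ (hC2n b hbP y hy), hηe y hy] at e1
        have e2 := hkP.map_conj hc (hCP (hj2 y hy).2)
        have e3 : j (b * y * b⁻¹) = c * j y * c⁻¹ := by
          refine hαm.eq_of_eq (hCP (hj2 _ (hC2n b hbP y hy)).2)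
            (P.mul_mem (P.mul_mem hc (hCP (hj2 y hy).2)) (P.inv_mem hc)) ?_
          rw [(hj2 _ (hC2n b hbP y hy)).1, hαm.map_conj hc (hCP (hj2 y hy).2), (hj2 y hy).1]
        rw [e3, e2] at e1
        rw [hηe y hy]
        calc (k c)⁻¹ * η b * k (j y) * ((k c)⁻¹ * η b)⁻¹
            = (k c)⁻¹ * (η b * k (j y) * (η b)⁻¹) * k c := by group
          _ = k (j y) := by rw [← e1]; group
      have h1 := Q.mul_mem (mem_img_of_mem (f := η) hbP) (Q.inv_mem (hC0 hz))
      simpa [mul_assoc] using h1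
    have := finite_of_le hηP.img_le_top
    have heq : img P k = Q := eq_of_le_of_card_le hle' (by rw [hkP.card_img, hηP.card_img])
    obtain ⟨i, hi, hi1, -, hii⟩ := hkP.exists_inv
    have hμ : Mor E P (fun x => i (η x)) := hi.comp hηP fun x hx => heq ▸ mem_img_of_mem hx
    have hμi : img P (fun x => i (η x)) = P := by
      rw [hηP.img_comp, ← hQ, ← heq, hii]
    obtain ⟨μ, hμE, hμe⟩ := hμ.exists_aut hμi
    have hκ : μ * α ∈ E.autGroup P := hTE (hKT ⟨(F.autGroup P).mul_mem (hle hμE) hα, fun x hx => by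
      have hy : autFun α x ∈ C2 := mem_img_of_mem hx
      rw [autFun_mul _ _ (hCP hx), hμe _ (hC2P hy), hηe _ hy, hj1 x hx, hi1 x (hCP hx)]⟩)
    have h1 := (E.autGroup P).mul_mem ((E.autGroup P).inv_mem hμE) hκ
    rwa [inv_mul_cancel_left] at h1
  · -- an element centralizing `C''` and normalizing `Q` properly
    have hQS : Q ≤ S := hηP.img_le_top
    have hQn : Q ≤ Subgroup.normalizer (centralizerIn S C'' : Set Ω) := by
      have hC''Qle : C'' ≤ Q := fun z hz => by
        obtain ⟨y, hy, rfl⟩ := hC''Q z hz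
        exact mem_img_of_mem (hC2P hy)
      have key : ∀ q ∈ Q, ∀ c ∈ centralizerIn S C'', q * c * q⁻¹ ∈ centralizerIn S C'' := by
        intro q hq c hc
        obtain ⟨hcS, hcC⟩ := mem_centralizerIn_iff.1 hc
        refine mem_centralizerIn_iff.2
          ⟨S.mul_mem (S.mul_mem (hQS hq) hcS) (S.inv_mem (hQS hq)), fun z hz => ?_⟩
        have h1 : q⁻¹ * z * q⁻¹⁻¹ ∈ C'' := by
          obtain ⟨y, hy, rfl⟩ := hC''Q z hz
          obtain ⟨b, hb, hbe⟩ := hηP.mem_img.1 (Q.inv_mem hq)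
          rw [← hbe, ← hηP.map_conj hb (hC2P hy), hηe _ (hC2n b hb y hy), ← hη2i]
          exact mem_img_of_mem (hC2n b hb y hy)
        calc q * c * q⁻¹ * z * (q * c * q⁻¹)⁻¹
            = q * (c * (q⁻¹ * z * q⁻¹⁻¹) * c⁻¹) * q⁻¹ := by group
          _ = z := by rw [hcC _ h1]; group
      intro q hq
      refine Subgroup.mem_normalizer_iff.2 fun c => ⟨key q hq c, fun hc => ?_⟩
      have h1 := key q⁻¹ (Q.inv_mem hq) _ hc
      simpa [mul_assoc] using h1
    have hlt : Q < Q ⊔ centralizerIn S C'' :=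
      lt_of_le_of_ne le_sup_left fun e => hC0 (le_sup_right.trans_eq e.symm)
    obtain ⟨-, e, he, heQ⟩ := SetLike.lt_iff_le_and_exists.1
      (normalizer_growth hS (sup_le hQS centralizerIn_le) hlt)
    obtain ⟨heX, -⟩ := mem_normalizerIn_iff.1 he
    rw [← SetLike.mem_coe, Subgroup.coe_mul_of_left_le_normalizer_right _ _ hQn] at heX
    obtain ⟨q, hq, c, hc, rfl⟩ := heX
    have hcQ : c ∉ Q := fun h => heQ (Q.mul_mem hq h)
    have hcN : c ∈ normalizerIn S Q := by
      have h1 := (normalizerIn S Q).mul_mem ((normalizerIn S Q).inv_mem (le_normalizerIn hQS hq))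
        ((inf_le_inf_right _ (sup_le hQS centralizerIn_le) :
          normalizerIn (Q ⊔ centralizerIn S C'') Q ≤ normalizerIn S Q) he)
      simpa [mul_assoc] using h1
    obtain ⟨hcS, hcC⟩ := mem_centralizerIn_iff.1 hc
    have hconjQ : F.IsConj Q P := isConj_iff.2 ⟨iQ, hiQ, hiQi⟩
    obtain ⟨r, hr, -, hri⟩ := exists_normalizerIn_map_of_fullyNormalized hS hF hPn hconjQ
    have hQlt : Q < normalizerIn S Q := lt_of_le_of_ne (le_normalizerIn hQS) fun e =>
      hcQ (e.symm ▸ hcN)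
    have hrE : Mor E (normalizerIn S Q) r :=
      ih _ r (by rw [← hηP.card_img]; exact card_lt_of_lt normalizerIn_le hQlt) hr
    have hrQ := hrE.restrict (le_normalizerIn hQS)
    obtain ⟨l, hlE, hle'⟩ := (hrQ.comp hηP fun x hx => mem_img_of_mem hx).exists_aut
      (by rw [hηP.img_comp, ← hQ, hri])
    -- conjugation by `c`, seen on `P`
    have hθ0 : Mor F P (fun x => iQ (c * η x * c⁻¹)) :=
      hiQ.comp ((mor_conj hQS hcS).comp (hηP.of_subsystem hsub) fun x hx => mem_img_of_mem hx)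
        fun x hx => conj_mem_of_mem_normalizerIn hcN (mem_img_of_mem hx)
    obtain ⟨θ, hθF, hθe⟩ := hθ0.exists_aut (hθ0.img_eq_of_card_le hP (fun x hx =>
      (hiQ2 _ (conj_mem_of_mem_normalizerIn hcN (mem_img_of_mem hx))).2) le_rfl)
    have ht : α⁻¹ * θ * α ∈ autInducedBy S P := hKT ⟨(F.autGroup P).mul_mem
      ((F.autGroup P).mul_mem ((F.autGroup P).inv_mem hα) hθF) hα, fun x hx => by
        have hy : autFun α x ∈ C2 := mem_img_of_mem hx
        have h1 : η (autFun α x) ∈ C'' := by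
          rw [hηe _ hy, ← hη2i]
          exact mem_img_of_mem hy
        rw [autFun_mul _ _ (hCP hx), autFun_mul _ _ (hC2P hy), hθe _ (hC2P hy), hcC _ h1,
          hiQ1 _ (hC2P hy), ← autFun_mul α⁻¹ α (hCP hx), inv_mul_cancel,
          autFun_apply (1 : MulAut P) (hCP hx)]
        rfl⟩
    have hrc : r c ∈ S := hr.mem hcN
    have ht' : ∀ x ∈ P, autFun (l * θ * l⁻¹) x = r c * x * (r c)⁻¹ := by
      intro x hx
      set y := autFun l⁻¹ x with hy
      have hyP : y ∈ P := autFun_mem _ hx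
      have h1 : η y ∈ Q := mem_img_of_mem hyP
      have h2 := conj_mem_of_mem_normalizerIn hcN h1
      rw [autFun_mul _ _ hx, autFun_mul _ _ hyP, hle' _ (autFun_mem _ hyP), hθe y hyP,
        (hiQ2 _ h2).1, hr.map_conj hcN (le_normalizerIn hQS h1), ← hle' y hyP, hy,
        ← autFun_mul l l⁻¹ hx, mul_inv_cancel, autFun_apply (1 : MulAut P) hx]
      rfl
    set β := l * α with hβdef
    have hβF : β ∈ F.autGroup P := (F.autGroup P).mul_mem (hle hlE) hα
    have hβt : β * (α⁻¹ * θ * α) * β⁻¹ = l * θ * l⁻¹ := by rw [hβdef]; group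
    obtain ⟨d, hd, hde⟩ := mem_autInducedBy_iff.1 ht
    rw [← range_conjAut] at ht
    obtain ⟨d', hd'⟩ := ht
    have hext : (d' : Ω) ∈ extN S P (autFun β) :=
      mem_extN_of_conj_mem (hc := d'.2) (by
        rw [hd', hβt]
        exact mem_autInducedBy_iff.2 ⟨r c, hrc, ht'⟩)
    have hdP : (d' : Ω) ∉ P := by
      intro h
      have hin : α⁻¹ * θ * α ∈ Inn P := by
        rw [inn_eq_autInducedBy, mem_autInducedBy_iff]
        exact ⟨d', h, fun x hx => by rw [← hd', autFun_conjAut _ hx]⟩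
      have h2 : l * θ * l⁻¹ ∈ Inn P := hβt ▸ conj_mem_inn hin
      rw [inn_eq_autInducedBy, mem_autInducedBy_iff] at h2
      obtain ⟨z, hz, hze⟩ := h2
      have h3 : z⁻¹ * r c ∈ centralizerIn S P := by
        refine mem_centralizerIn_iff.2 ⟨S.mul_mem (S.inv_mem (hP hz)) hrc, fun x hx => ?_⟩
        calc z⁻¹ * r c * x * (z⁻¹ * r c)⁻¹ = z⁻¹ * (r c * x * (r c)⁻¹) * z := by group
          _ = x := by rw [← ht' x hx, hze x hx]; group
      have h4 : r c ∈ P := by
        have := P.mul_mem hz (hPc.2 P (isConj_refl hP) h3)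
        rwa [mul_inv_cancel_left] at this
      rw [← hri] at h4
      obtain ⟨w, hw, hwe⟩ := (hr.restrict (le_normalizerIn hQS)).mem_img.1 h4
      exact hcQ (hr.eq_of_eq (le_normalizerIn hQS hw) hcN hwe ▸ hw)
    have hβm := (mem_autGroup_iff hP).1 hβF
    have hβE : β ∈ E.autGroup P := (mem_autGroup_iff hP).2 (mor_autFun_of_extN hrecP hβF
      (lt_of_le_of_ne hβm.le_extN fun e => hdP (e.ge hext)) ih)
    have h1 := (E.autGroup P).mul_mem ((E.autGroup P).inv_mem hlE) hβE
    rwa [hβdef, inv_mul_cancel_left] at h1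

/-- The maps fixing a fully centralized non-central subgroup, by induction. -/
theorem mor_fix_of_centralizer [Finite S] (hag : SmallAgrees E F p) {V' : Subgroup Ω}
    (hV'S : V' ≤ S) (hV' : SmallAb F p V') :
    SmallAgrees (centralizerExt E V' (centralizerIn S V') hV'S le_rfl)
      (centralizerExt F V' (centralizerIn S V') hV'S le_rfl) p := by
  intro A f hf hA
  obtain ⟨hAT, hfT, k, hk, hke, hkV⟩ :=
    (mor_of_isCentralizerSystem (isCentralizerSystem_centralizerExt hV'S) hV'S A f).1 hf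
  have hsub' : (centralizerExt F V' (centralizerIn S V') hV'S le_rfl).IsSubsystemOf F := by
    rintro R φ ⟨-, -, m, hm, hme, -⟩
    exact (hm.restrict le_sup_left).mem_hom hme
  have hAh : A ≤ F.hyperfocalSubgroup p :=
    hA.1.trans (hyperfocal_mono centralizerIn_le hsub')
  have hcomm : ∀ a ∈ A, ∀ v ∈ V', a * v = v * a := fun a ha v hv =>
    mul_inv_eq_iff_eq_mul.1 ((mem_centralizerIn_iff.1 (hAT ha)).2 v hv)
  let Z : Subgroup Ω :=
    { carrier := {x | ∃ a ∈ A, ∃ v ∈ V', x = a * v}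
      one_mem' := ⟨1, A.one_mem, 1, V'.one_mem, by simp⟩
      mul_mem' := by
        rintro _ _ ⟨a, ha, v, hv, rfl⟩ ⟨b, hb, w, hw, rfl⟩
        refine ⟨a * b, A.mul_mem ha hb, v * w, V'.mul_mem hv hw, ?_⟩
        rw [mul_assoc a v, ← mul_assoc v b w, ← hcomm b hb v hv]
        simp only [mul_assoc]
      inv_mem' := by
        rintro _ ⟨a, ha, v, hv, rfl⟩
        refine ⟨a⁻¹, A.inv_mem ha, v⁻¹, V'.inv_mem hv, ?_⟩
        rw [mul_inv_rev, hcomm a⁻¹ (A.inv_mem ha) v⁻¹ (V'.inv_mem hv)] }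
  have hle : A ⊔ V' ≤ Z :=
    sup_le (fun a ha => ⟨a, ha, 1, V'.one_mem, (mul_one a).symm⟩)
      fun v hv => ⟨1, A.one_mem, v, hv, (one_mul v).symm⟩
  have hsm : SmallAb F p (A ⊔ V') := by
    refine ⟨sup_le hAh hV'.1, fun x hx y hy => ?_, fun x hx => ?_⟩
    · obtain ⟨a, ha, v, hv, rfl⟩ := hle hx
      obtain ⟨b, hb, w, hw, rfl⟩ := hle hy
      have c1 : Commute a b := hA.2.1 a ha b hb
      have c2 : Commute v w := hV'.2.1 v hv w hw
      have c3 : Commute a w := hcomm a ha w hw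
      have c4 : Commute v b := (hcomm b hb v hv).symm
      exact (c1.mul_right c3).mul_left (c4.mul_right c2)
    · obtain ⟨a, ha, v, hv, rfl⟩ := hle hx
      exact small_mul (hcomm a ha v hv) (hA.2.2 a ha) (hV'.2.2 v hv)
  exact (mor_of_isCentralizerSystem (isCentralizerSystem_centralizerExt hV'S) hV'S A f).2
    ⟨hAT, hfT, k, hag _ _ hk hsm, hke, hkV⟩

/-- A saturated subsystem agreeing on small abelian subgroups of the hyperfocal subgroup is
everything. -/
theorem mor_of_smallAgrees [Fact p.Prime] : ∀ (n : ℕ) {S : Subgroup Ω} [Finite S] (E F : FusionSystem S),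
    (graphs F).ncard = n → IsPGroup p S → E.IsSaturated p → F.IsSaturated p → E.IsSubsystemOf F →
    SmallAgrees E F p → ∀ P f, Mor F P f → Mor E P f := by
  intro n
  induction n using Nat.strong_induction_on with
  | _ n ih =>
  intro S _ E F hn hS hE hF hsub hag
  -- maps fixing a fully centralized, non-central small subgroup
  have hfix : ∀ V' : Subgroup Ω, F.IsFullyCentralized V' → SmallAb F p V' → ¬ F.IsCentral V' →
      ∀ Q g, Mor F Q g → Q ≤ centralizerIn S V' → V' ≤ Q → (∀ x ∈ V', g x = x) → Mor E Q g := by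
    intro V' hV'c hV' hnc Q g hg hQT hV'Q hgfix
    have hV'S := hV'c.1
    have := finite_of_le (centralizerIn_le (S := S) (P := V'))
    set F' := centralizerExt F V' (centralizerIn S V') hV'S le_rfl with hF'
    set E' := centralizerExt E V' (centralizerIn S V') hV'S le_rfl with hE'
    have hFm := mor_of_isCentralizerSystem (isCentralizerSystem_centralizerExt (F := F) hV'S) hV'S
    have hEm := mor_of_isCentralizerSystem (isCentralizerSystem_centralizerExt (F := E) hV'S) hV'S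
    have hlt : (graphs F').ncard < n := by
      rw [← hn]
      refine Set.ncard_lt_ncard ?_ (graphs_finite F)
      rw [Set.ssubset_iff_subset_ne]
      refine ⟨?_, fun heq => hnc (isCentral_iff.2 ⟨hV'S, fun R f hf => ?_⟩)⟩
      · rintro _ ⟨R, f, hf, rfl⟩
        obtain ⟨-, -, k, hk, hke, -⟩ := (hFm R f).1 hf
        exact ⟨R, f, (hk.restrict le_sup_left).congr hke, rfl⟩
      · have hmem : (fun x => (x, f x)) '' (R : Set Ω) ∈ graphs F' := heq ▸ ⟨R, f, hf, rfl⟩
        obtain ⟨R', f', hf', he⟩ := hmem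
        have hR : R = R' := by
          ext x
          constructor <;> intro hx
          · obtain ⟨y, hy, hye⟩ := (Set.ext_iff.1 he _).1 ⟨x, hx, rfl⟩
            obtain rfl : y = x := congrArg Prod.fst hye
            exact hy
          · obtain ⟨y, hy, hye⟩ := (Set.ext_iff.1 he _).2 ⟨x, hx, rfl⟩
            obtain rfl : y = x := congrArg Prod.fst hye
            exact hy
        subst hR
        obtain ⟨-, -, k, hk, hke, hkV⟩ := (hFm R f').1 hf'
        refine ⟨k, hk, fun x hx => (hke x hx).trans ?_, hkV⟩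
        obtain ⟨y, hy, hye⟩ := (Set.ext_iff.1 he _).2 ⟨x, hx, rfl⟩
        obtain rfl : y = x := congrArg Prod.fst hye
        exact (congrArg Prod.snd hye).symm
    have hsub' : E'.IsSubsystemOf F' := by
      rintro R φ ⟨h1, h2, k, hk, h3, h4⟩
      exact ⟨h1, h2, k, hk.of_subsystem hsub, h3, h4⟩
    have key := ih _ hlt E' F' rfl (isPGroup_of_le hS centralizerIn_le)
      (saturated_centralizerSystem hS hE (fullyCentralized_of_sub hsub hV'c)
        (isCentralizerSystem_centralizerExt hV'S))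
      (saturated_centralizerSystem hS hF hV'c (isCentralizerSystem_centralizerExt hV'S))
      hsub' (mor_fix_of_centralizer hag hV'S hV') Q g
      ((hFm Q g).2 ⟨hQT, fun x hx => mem_centralizerIn_iff.2 ⟨hg.mem hx, fun v hv => by
          have hc := (mem_centralizerIn_iff.1 (hQT hx)).2 v hv
          have h1 := hg.map_conj hx (hV'Q hv)
          rw [hc, hgfix v hv] at h1
          exact h1.symm⟩,
        g, hg.source_congr (sup_eq_left.2 hV'Q).symm, fun x _ => rfl, hgfix⟩)
    obtain ⟨-, -, k, hk, hke, -⟩ := (hEm Q g).1 key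
    exact (hk.restrict le_sup_left).congr hke
  refine mor_le_of_centric_radical_ih hS hF fun P hPn hPc _ ihP α hα => ?_
  have hP := hPn.1
  refine (mem_autGroup_iff hP).1 ?_
  by_cases hex : ∃ V, SmallAb F p V ∧ V ≤ P ∧ normalizerIn S P ≤ normalizerIn S V ∧ ¬ F.IsCentral V
  · obtain ⟨V, hV, hVP, hVN, hnc⟩ := hex
    obtain ⟨V', hconj, hV'c⟩ := exists_fullyCentralized F (hVP.trans hP)
    obtain ⟨φ, hφ, hφi⟩ := isConj_iff.1 hconj
    have hV' : SmallAb F p V' := by
      subst hφi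
      refine ⟨img_le fun x hx => StronglyClosed.mem (stronglyClosed_hyperfocal hS hF) hφ hx (hV.1 hx),
        ?_, ?_⟩
      · intro x hx y hy
        obtain ⟨a, ha, rfl⟩ := hφ.mem_img.1 hx
        obtain ⟨b, hb, rfl⟩ := hφ.mem_img.1 hy
        rw [← hφ.map_mul ha hb, ← hφ.map_mul hb ha, hV.2.1 a ha b hb]
      · intro x hx
        obtain ⟨ψ, -, hψ⟩ := hφ.exists_hom
        obtain ⟨a, ha, rfl⟩ := hφ.mem_img.1 hx
        rw [← hψ ⟨a, ha⟩]
        exact small_map ψ (small_of_injective V.subtype V.subtype_injective (hV.2.2 a ha))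
    have hnc' : ¬ F.IsCentral V' := by
      intro h
      obtain ⟨j, hj, -, -, hji⟩ := hφ.exists_inv
      rw [hφi] at hj hji
      obtain ⟨k, -, hke, hkV⟩ := (isCentral_iff.1 h).2 V' j hj
      have hVV : V' = V := by
        rw [← hji, img_congr (f := j) (g := fun x => x) fun x hx => ?_, img_id]
        rw [← hke x hx]
        exact hkV x hx
      exact hnc (hVV ▸ h)
    exact mor_of_noncentral hS hF hE hsub hag hPn hPc ihP hV hVP hVN hV'c hconj
      (hfix V' hV'c hV' hnc') hα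
  push Not at hex
  -- `Aut_F(P)` is a `p`-group
  have := finite_mulAut_of_le hP
  have := finite_of_le hP
  have hpA : IsPGroup p (F.autGroup P) := by
    rintro ⟨a, ha⟩
    set k := (orderOf a).factorization p
    set δ := a ^ p ^ k with hδdef
    have hord : (orderOf δ).Coprime p := by
      rw [hδdef, orderOf_pow, Nat.gcd_eq_right (Nat.ordProj_dvd _ p)]
      exact (Nat.coprime_ordCompl Fact.out (orderOf_pos a).ne').symm
    have hδ : δ ∈ F.autGroup P := pow_mem ha _
    refine ⟨k, Subtype.ext ?_⟩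
    show δ = 1
    set N := normalizerIn S P with hNdef
    have hNS : N ≤ S := normalizerIn_le
    have := finite_of_le hNS
    set X := P ⊓ F.hyperfocalSubgroup p with hXdef
    have hXN : X ≤ N := inf_le_left.trans (le_normalizerIn hP)
    haveI : (X.subgroupOf N).Normal := ⟨fun x hx c => Subgroup.mem_subgroupOf.2
      ⟨conj_mem_of_mem_normalizerIn c.2 hx.1, hyperfocal_conj_mem (hNS c.2) hx.2⟩⟩
    set e := if p = 2 then 2 else 1 with hedef
    have he2 : p ^ e ≠ 2 := by
      rcases eq_or_ne p 2 with h | h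
      · subst h; simp [hedef]
      · rw [hedef, if_neg h, pow_one]; exact h
    let good : Set (Subgroup N) := {B | B.Normal ∧ IsMulCommutative B ∧
      (∀ b ∈ B, b ^ p ^ e = 1) ∧ B ≤ X.subgroupOf N}
    have hbot : (⊥ : Subgroup N) ∈ good := by
      refine ⟨inferInstance, ⟨⟨fun a b => Subsingleton.elim _ _⟩⟩, fun b hb => ?_, bot_le⟩
      rw [Subgroup.mem_bot] at hb
      rw [hb, one_pow]
    obtain ⟨A, hA, hAmax⟩ := (Set.toFinite good).exists_maximalFor id good ⟨_, hbot⟩
    obtain ⟨hAn, hAc, hAe, hAX⟩ := hA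
    haveI := hAn
    haveI := hAc
    set V := A.map N.subtype with hVdef
    have hVsm : SmallAb F p V := by
      refine ⟨?_, ?_, ?_⟩
      · rintro _ ⟨x, hx, rfl⟩
        exact (hAX hx).2
      · rintro _ ⟨x, hx, rfl⟩ _ ⟨y, hy, rfl⟩
        exact congrArg Subtype.val (show x * y = y * x from
          congrArg Subtype.val (hAc.is_comm.comm ⟨x, hx⟩ ⟨y, hy⟩))
      · rintro _ ⟨x, hx, rfl⟩
        exact (small_iff_pow _).2 (congrArg Subtype.val (hAe x hx))
    have hVP : V ≤ P := by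
      rintro _ ⟨x, hx, rfl⟩
      exact (hAX hx).1
    have hVN : N ≤ normalizerIn S V := fun c hc =>
      mem_normalizerIn_of_conj (hVP.trans hP) (hNS hc) (by
        rintro _ ⟨x, hx, rfl⟩
        exact ⟨⟨c, hc⟩ * x * ⟨c, hc⟩⁻¹, hAn.conj_mem x hx _, rfl⟩)
    have hcen := isCentral_iff.1 (hex V hVsm hVP hVN)
    have hfixV : ∀ R g, Mor F R g → ∀ v ∈ V, v ∈ R → g v = v := by
      intro R g hg v hv hvR
      obtain ⟨m, -, hme, hmV⟩ := hcen.2 R g hg
      rw [← hme v hvR]
      exact hmV v hv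
    have hsmallV : ∀ x ∈ X, Small p x → x ∈ V := by
      intro x hx hsx
      refine ⟨⟨x, hXN hx⟩, Cfsg.Lib.Transfer.mem_of_maximal_normal_abelian_exponent_within
        (isPGroup_of_le hS hNS) e he2 A hAc hAe (X.subgroupOf N) hAX
        (fun B h1 h2 h3 h4 h5 => le_antisymm (hAmax ⟨h1, h2, h3, h4⟩ h5) h5) ⟨x, hXN hx⟩ ?_
        (Subtype.ext ((small_iff_pow x).1 hsx)) hx, rfl⟩
      refine Subgroup.mem_centralizer_iff.2 fun a ha => Subtype.ext ?_
      have h1 := hfixV (P) (fun z => x * z * x⁻¹) (mor_conj hP (hP hx.1)) _ ⟨a, ha, rfl⟩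
        (hVP ⟨a, ha, rfl⟩)
      show (a : Ω) * x = x * a
      exact (mul_inv_eq_iff_eq_mul.1 h1).symm
    have hδm := (mem_autGroup_iff hP).1 hδ
    have hXS : X ≤ S := inf_le_left.trans hP
    obtain ⟨f', hf'⟩ : ∃ e : X ≃* X, ∀ x : X, (e x : Ω) = autFun δ x :=
      (hδm.restrict inf_le_left).exists_equiv ((hδm.restrict inf_le_left).img_eq_of_card_le hXS
        (fun x hx => ⟨autFun_mem δ hx.1,
          StronglyClosed.mem (stronglyClosed_hyperfocal hS hF) hδm hx.1 hx.2⟩) le_rfl)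
    have := finite_of_le hXS
    have hit : ∀ (m : ℕ) (x : X), ((f'^[m] x : X) : Ω) = autFun (δ ^ m) x := by
      intro m
      induction m with
      | zero => intro x; rw [pow_zero, autFun_apply (1 : MulAut P) x.2.1]; rfl
      | succ m ihm =>
        intro x
        rw [Function.iterate_succ_apply', hf', ihm, pow_succ', autFun_mul _ _ x.2.1]
    have hXfix : ∀ x : X, f' x = x :=
      fixed_of_fix_small (Nat.card X) X rfl (isPGroup_of_le hS hXS) f' (orderOf δ) hord
        (fun x => Subtype.ext (by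
          rw [hit, pow_orderOf_eq_one, autFun_apply (1 : MulAut P) x.2.1]; rfl))
        fun x hx => Subtype.ext (by
          rw [hf']
          exact hfixV P _ hδm _ (hsmallV x x.2 (small_map X.subtype hx)) x.2.1)
    refine aut_ext fun x hx => ?_
    rw [autFun_apply (1 : MulAut P) hx]
    have hu : x⁻¹ * autFun δ x ∈ X := by
      refine ⟨P.mul_mem (P.inv_mem hx) (autFun_mem δ hx), ?_⟩
      rw [autFun_apply δ hx]
      exact mem_hyperfocal_of_residual (α := ⟨δ, hδ⟩) hP
        (Subgroup.subset_closure (show (orderOf (⟨δ, hδ⟩ : F.autGroup P)).Coprime p by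
          rwa [Subgroup.orderOf_mk])) ⟨x, hx⟩
    exact eq_of_fixed_diff hS hP hord hx hu.1
      ((hf' ⟨_, hu⟩).symm.trans (congrArg Subtype.val (hXfix _)))
  have hT : autInducedBy S P = F.autGroup P := by
    refine eq_of_le_of_card_le (autInducedBy_le_autGroup hP) ?_
    rw [(fullyAutomized_iff hS hP).1 (fullyNormalized_axiom hS hF hPn).2]
    obtain ⟨m, hm⟩ := IsPGroup.iff_card.1 hpA
    rw [hm, Nat.Prime.factorization_pow Fact.out, Finsupp.single_eq_same]
  rw [← hT] at hα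
  exact autInducedBy_le_autGroup hP hα

/-- The statement in the form of the homomorphism sets. -/
theorem hom_eq_of_hyperfocal_small [Finite S] [Fact p.Prime] (hS : IsPGroup p S)
    (hE : E.IsSaturated p) (hF : F.IsSaturated p) (hEF : E.IsSubsystemOf F)
    (hodd : p ≠ 2 → ∀ A B : Subgroup Ω, A ≤ F.hyperfocalSubgroup p → B ≤ F.hyperfocalSubgroup p →
      IsElementaryAbelian p A → IsElementaryAbelian p B → E.homSet A B = F.homSet A B)
    (htwo : p = 2 → ∀ A B : Subgroup Ω, A ≤ F.hyperfocalSubgroup p → B ≤ F.hyperfocalSubgroup p →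
      IsMulCommutative A → IsMulCommutative B → (∀ a ∈ A, a ^ 4 = 1) → (∀ b ∈ B, b ^ 4 = 1) →
        E.homSet A B = F.homSet A B) : ∀ P : Subgroup Ω, E.Hom P = F.Hom P := by
  have hag : SmallAgrees E F p := by
    intro A f hf hA
    obtain ⟨φ, hφ, hφe⟩ := hf.exists_hom
    set B := img A f with hB
    have hBh : B ≤ F.hyperfocalSubgroup p :=
      img_le fun x hx => StronglyClosed.mem (stronglyClosed_hyperfocal hS hF) hf hx (hA.1 hx)
    have hAc : IsMulCommutative A := ⟨⟨fun a b => Subtype.ext (hA.2.1 a a.2 b b.2)⟩⟩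
    have hBc : IsMulCommutative B := ⟨⟨fun a b => Subtype.ext (by
      obtain ⟨x, hx, hxe⟩ := hf.mem_img.1 a.2
      obtain ⟨y, hy, hye⟩ := hf.mem_img.1 b.2
      show (a : Ω) * b = b * a
      rw [← hxe, ← hye, ← hf.map_mul hx hy, ← hf.map_mul hy hx, hA.2.1 x hx y hy])⟩⟩
    have hmem : φ ∈ F.homSet A B := ⟨hφ, fun x => by rw [hφe]; exact mem_img_of_mem x.2⟩
    have hpow : ∀ m : ℕ, (∀ a ∈ A, a ^ m = 1) → ∀ b ∈ B, b ^ m = 1 := fun m h b hb => by
      obtain ⟨x, hx, rfl⟩ := hf.mem_img.1 hb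
      rw [← hφe ⟨x, hx⟩, ← map_pow, show (⟨x, hx⟩ : A) ^ m = 1 from Subtype.ext (h x hx), map_one]
    have heq : E.homSet A B = F.homSet A B := by
      by_cases h2 : p = 2
      · have h4 : ∀ a ∈ A, a ^ 4 = 1 := fun a ha => by
          have := (small_iff_pow (p := p) a).1 (hA.2.2 a ha)
          rw [if_pos h2, h2] at this
          exact this
        exact htwo h2 A B hA.1 hBh hAc hBc h4 (hpow 4 h4)
      · have h1 : ∀ a ∈ A, a ^ p = 1 := fun a ha =>
          (hA.2.2 a ha).resolve_right fun h => h2 h.1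
        exact hodd h2 A B hA.1 hBh ⟨hAc, h1⟩ ⟨hBc, hpow p h1⟩
    rw [← heq] at hmem
    exact ⟨φ, hmem.1, hφe⟩
  intro P
  refine hom_eq_iff.2 fun f => ⟨fun h => h.of_subsystem hEF,
    mor_of_smallAgrees (p := p) _ E F rfl hS hE hF hEF hag P f⟩

end Cfsg.Lib.Fusion
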