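import Mathlib
import Cfsg.Prelude.Def_FusionSystem
import Cfsg.Agent.Lib.Fusion.Hyperfocal
import Cfsg.Agent.Lib.Fusion.InnerCriteria
import Cfsg.Agent.Lib.Fusion.ChainCriterion
import Cfsg.Agent.Lib.Transfer.SmallElements

/-!
The small elements of the hyperfocal subgroup control fusion.
-/

set_option autoImplicit false

open scoped Classical

namespace Cfsg.Lib.Fusion

open Cfsg Cfsg.FusionSystem Cfsg.Lib.Transfer

universe u

variable {Ω : Type u} [Group Ω] {S R : Subgroup Ω} {F : FusionSystem S} {p : ℕ} [Fact p.Prime]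
  [Finite S]

/-- Small elements of `R ∩ hyp` detecting `p'`-automorphisms of `R` in the system. -/
theorem exists_detector (hS : IsPGroup p S) (hF : F.IsSaturated p) (hR : R ≤ S) :
    ∃ D : Subgroup Ω, D ≤ R ∧ (∀ x ∈ D, x ∈ F.hyperfocalSubgroup p ∧ Small p x) ∧
      (∀ γ ∈ F.autGroup R, ∀ x ∈ D, autFun γ x ∈ D) ∧
      ∀ δ ∈ F.autGroup R, (orderOf δ).Coprime p → (∀ x ∈ D, autFun δ x = x) → δ = 1 := by
  have := finite_mulAut_of_le hR
  have := finite_of_le hR
  set X := R ⊓ F.hyperfocalSubgroup p with hX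
  have hXR : X ≤ R := inf_le_left
  have := finite_of_le (hXR.trans hR)
  obtain ⟨D, hDc, hDs, hDdet⟩ :=
    exists_small_detector (P := X) (p := p) (isPGroup_of_le hS (hXR.trans hR))
  have hres : ∀ γ ∈ F.autGroup R, ∃ e : X ≃* X, ∀ x : X, (e x : Ω) = autFun γ x := fun γ hγ => by
    have hm := (mem_autGroup_iff hR).1 hγ
    exact (hm.restrict hXR).exists_equiv ((hm.restrict hXR).img_eq_of_card_le (hXR.trans hR)
      (fun x hx => ⟨autFun_mem γ hx.1,
        StronglyClosed.mem (stronglyClosed_hyperfocal hS hF) hm hx.1 hx.2⟩) le_rfl)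
  refine ⟨D.map X.subtype, (Subgroup.map_subtype_le D).trans hXR, ?_, ?_, ?_⟩
  · rintro _ ⟨x, hx, rfl⟩
    exact ⟨x.2.2, small_map X.subtype (hDs x hx)⟩
  · rintro γ hγ _ ⟨x, hx, rfl⟩
    obtain ⟨e, he⟩ := hres γ hγ
    exact ⟨e x, map_mem_of_characteristic e hx, he x⟩
  intro δ hδ hord hfix
  obtain ⟨e, he⟩ := hres δ hδ
  have hit : ∀ (k : ℕ) (x : X), ((e^[k] x : X) : Ω) = autFun (δ ^ k) x := by
    intro k
    induction k with
    | zero => intro x; rw [pow_zero, autFun_apply (1 : MulAut R) (hXR x.2)]; rfl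
    | succ k ih =>
      intro x
      rw [Function.iterate_succ_apply', he, ih, pow_succ', autFun_mul _ _ (hXR x.2)]
  have hX' : ∀ x : X, e x = x := hDdet e (orderOf δ) hord
    (fun x => Subtype.ext (by rw [hit, pow_orderOf_eq_one, autFun_apply (1 : MulAut R) (hXR x.2)]; rfl))
    fun x hx => Subtype.ext (by rw [he]; exact hfix _ ⟨x, hx, rfl⟩)
  have hXfix : ∀ x ∈ X, autFun δ x = x := fun x hx => (he ⟨x, hx⟩).symm.trans (congrArg Subtype.val (hX' _))
  refine aut_ext fun x hx => ?_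
  have hu : x⁻¹ * autFun δ x ∈ X := by
    refine ⟨R.mul_mem (R.inv_mem hx) (autFun_mem δ hx), ?_⟩
    rw [autFun_apply δ hx]
    exact mem_hyperfocal_of_residual (α := ⟨δ, hδ⟩) hR
      (Subgroup.subset_closure (show (orderOf (⟨δ, hδ⟩ : F.autGroup R)).Coprime p by
        rwa [Subgroup.orderOf_mk])) ⟨x, hx⟩
  rw [eq_of_fixed_diff hS hR hord hx hu.1 (hXfix _ hu), autFun_apply (1 : MulAut R) hx]
  rfl

/-- The cyclic group of a nontrivial small element has order `p` or `4`. -/
theorem card_zpowers_small {x : Ω} (h : Small p x) (h1 : x ≠ 1) :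
    Nat.card (Subgroup.zpowers x) = p ∨ Nat.card (Subgroup.zpowers x) = 4 := by
  rw [Nat.card_zpowers]
  by_cases hp1 : x ^ p = 1
  · exact Or.inl (orderOf_eq_prime hp1 h1)
  rcases h with h | ⟨h2, h4⟩
  · exact absurd h hp1
  · subst h2
    exact Or.inr (orderOf_eq_prime_pow (p := 2) (n := 1) (by simpa using hp1) h4)

theorem lowerCentral_step {x c : Ω} {j : ℕ} (hx : x ∈ S.lowerCentralSeries j) (hc : c ∈ S) :
    x⁻¹ * (c * x * c⁻¹) ∈ S.lowerCentralSeries (j + 1) := by
  have h1 := Subgroup.commutator_mem_commutator ((S.lowerCentralSeries j).inv_mem hx) hc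
  rw [Subgroup.lowerCentralSeries_succ]
  simpa [commutatorElement_def, mul_assoc] using h1

/-- A `p'`-automorphism acting on small elements as conjugation does is trivial. -/
theorem eq_one_of_series (hS : IsPGroup p S) (hR : R ≤ S) {δ : MulAut R} (hord : (orderOf δ).Coprime p)
    {D : Subgroup Ω} (hDR : D ≤ R) (hinv : ∀ x ∈ D, autFun δ x ∈ D)
    (h : ∀ j, ∀ x ∈ D, x ∈ S.lowerCentralSeries j → x⁻¹ * autFun δ x ∈ S.lowerCentralSeries (j + 1)) :
    ∀ x ∈ D, autFun δ x = x := by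
  obtain ⟨n, hn⟩ := exists_lowerCentralSeries_eq_bot hS (le_refl S)
  suffices key : ∀ i, i ≤ n → ∀ x ∈ D, x ∈ S.lowerCentralSeries (n - i) → autFun δ x = x by
    intro x hx
    exact key n le_rfl x hx (by rw [Nat.sub_self, Subgroup.lowerCentralSeries_zero]; exact hR (hDR hx))
  intro i
  induction i with
  | zero =>
    intro _ x hx hxn
    rw [Nat.sub_zero, hn, Subgroup.mem_bot] at hxn
    subst hxn
    rw [autFun_apply _ (hDR hx)]
    exact congrArg Subtype.val (map_one δ)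
  | succ i ih =>
    intro hi x hx hxn
    have hu := h _ x hx hxn
    rw [show n - (i + 1) + 1 = n - i by omega] at hu
    have huD : x⁻¹ * autFun δ x ∈ D := D.mul_mem (D.inv_mem hx) (hinv x hx)
    exact eq_of_fixed_diff hS hR hord (hDR hx) (hDR huD) (ih (by omega) _ huD hu)

/-- If small elements of the hyperfocal subgroup are conjugate only as in `S`, the system is inner. -/
theorem autP_of_small (hS : IsPGroup p S) (hF : F.IsSaturated p)
    (h : ∀ P f x, Mor F P f → x ∈ P → x ∈ F.hyperfocalSubgroup p → Small p x → ∃ c ∈ S, f x = c * x * c⁻¹) :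
    AutP F p := by
  intro R f hf hfi
  obtain ⟨α, hα, hαe⟩ := hf.exists_aut hfi
  have hR := hf.le
  have := finite_mulAut_of_le hR
  obtain ⟨D, hDR, hDs, hDinv, hdet⟩ := exists_detector hS hF hR
  set k := (orderOf α).factorization p
  set δ := α ^ p ^ k with hδdef
  have hδ : δ ∈ F.autGroup R := pow_mem hα _
  have hord : (orderOf δ).Coprime p := by
    rw [hδdef, orderOf_pow, Nat.gcd_eq_right (Nat.ordProj_dvd _ p)]
    exact (Nat.coprime_ordCompl Fact.out (orderOf_pos α).ne').symm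
  have h1 : δ = 1 := hdet δ hδ hord <| eq_one_of_series hS hR hord hDR (hDinv δ hδ) fun j x hx hxj => by
    obtain ⟨c, hc, he⟩ := h R _ x ((mem_autGroup_iff hR).1 hδ) (hDR hx) (hDs x hx).1 (hDs x hx).2
    rw [he]
    exact lowerCentral_step hxj hc
  refine ⟨k, fun x hx => ?_⟩
  have hit : ∀ m, ∀ y ∈ R, f^[m] y = (autFun α)^[m] y := fun m => by
    induction m with
    | zero => intro y _; rfl
    | succ m ih =>
      intro y hy
      rw [Function.iterate_succ_apply, Function.iterate_succ_apply,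
        ih _ (hfi ▸ mem_img_of_mem hy), hαe y hy]
  rw [hit _ x hx, iterate_autFun α _ x hx, ← hδdef, h1, autFun_apply (1 : MulAut R) hx]
  rfl

/-- `S` is normal when its action on small elements is preserved by the automorphism groups. -/
theorem isNormal_top_of_pairs (hS : IsPGroup p S) (hF : F.IsSaturated p)
    (h : ∀ R, F.IsCentric R → F.IsRadical p R → ∀ D : Subgroup Ω, D ≤ R →
      (∀ x ∈ D, x ∈ F.hyperfocalSubgroup p ∧ Small p x) → (∀ γ ∈ F.autGroup R, ∀ x ∈ D, autFun γ x ∈ D) →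
      ∃ (n : ℕ) (V : ℕ → Subgroup Ω), (∀ x ∈ D, x ∈ V 0) ∧ (∀ x ∈ D, x ∈ V n → x = 1) ∧
        (∀ γ ∈ F.autGroup R, ∀ j, ∀ x ∈ D, x ∈ V j → autFun γ x ∈ V j) ∧
        ∀ j < n, ∀ c ∈ S, ∀ x ∈ D, x ∈ V j → x⁻¹ * (c * x * c⁻¹) ∈ V (j + 1)) : F.IsNormal S := by
  refine isNormal_of_le_centricRadical hS hF
    (stronglyClosed_iff.2 ⟨le_rfl, fun R f hf x hx _ => hf.mem hx⟩) fun R _ hc hr => ?_
  obtain ⟨D, hDR, hDs, hDinv, hdet⟩ := exists_detector hS hF hc.1
  obtain ⟨n, V, hV0, hVn, hVinv, hVst⟩ := h R hc hr D hDR hDs hDinv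
  refine le_of_normalizing_le hS le_rfl hc.1 Subgroup.le_normalizer fun c hcS hcN => ?_
  refine mem_of_pairs hc hr (fun j : Fin n => D ⊓ V (j + 1)) (fun j : Fin n => D ⊓ V j) ?_ ?_ ?_ hcN ?_
  · exact fun γ hγ j x _ hx => ⟨hDinv γ hγ x hx.1, hVinv γ hγ _ x hx.1 hx.2⟩
  · exact fun γ hγ j x _ hx => ⟨hDinv γ hγ x hx.1, hVinv γ hγ _ x hx.1 hx.2⟩
  · intro L hL hstab
    have := finite_mulAut_of_le hc.1
    rintro ⟨γ, hγ⟩
    set k := (orderOf γ).factorization p
    set δ := γ ^ p ^ k with hδdef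
    have hord : (orderOf δ).Coprime p := by
      rw [hδdef, orderOf_pow, Nat.gcd_eq_right (Nat.ordProj_dvd _ p)]
      exact (Nat.coprime_ordCompl Fact.out (orderOf_pos γ).ne').symm
    have hδL : δ ∈ L := L.pow_mem hγ _
    have key : ∀ i, i ≤ n → ∀ x ∈ D, x ∈ V (n - i) → autFun δ x = x := by
      intro i
      induction i with
      | zero =>
        intro _ x hx hxn
        rw [Nat.sub_zero] at hxn
        obtain rfl := hVn x hx hxn
        rw [autFun_apply _ (hDR hx)]
        exact congrArg Subtype.val (map_one δ)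
      | succ i ih =>
        intro hi x hx hxn
        have hu := hstab δ hδL ⟨n - (i + 1), by omega⟩ x (hDR hx) ⟨hx, hxn⟩
        have hu2 : x⁻¹ * autFun δ x ∈ V (n - (i + 1) + 1) := hu.2
        rw [show n - (i + 1) + 1 = n - i by omega] at hu2
        exact eq_of_fixed_diff hS hc.1 hord (hDR hx) (hDR hu.1) (ih (by omega) _ hu.1 hu2)
    refine ⟨k, Subtype.ext ?_⟩
    show δ = 1
    exact hdet δ (hL hδL) hord fun x hx => key n le_rfl x hx (by rw [Nat.sub_self]; exact hV0 x hx)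
  · intro j x hxR hx
    refine ⟨D.mul_mem (D.inv_mem hx.1) ?_, hVst j j.2 c hcS x hx.1 hx.2⟩
    have hcG : conjAut S R ⟨c, hcN⟩ ∈ F.autGroup R :=
      autInducedBy_le_autGroup hc.1 ((range_conjAut S R).le ⟨_, rfl⟩)
    have := hDinv _ hcG x hx.1
    rwa [autFun_conjAut _ hxR] at this

/-- Small elements of the hyperfocal subgroup fused only by automorphisms of `S`. -/
theorem isNormal_top_of_small (hS : IsPGroup p S) (hF : F.IsSaturated p)
    (h : ∀ P f x, Mor F P f → x ∈ P → x ∈ F.hyperfocalSubgroup p → Small p x →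
      ∃ β ∈ F.autGroup S, f x = autFun β x) : F.IsNormal S := by
  refine isNormal_top_of_pairs hS hF fun R hc _ D hDR hDs _ => ?_
  obtain ⟨n, hn⟩ := exists_lowerCentralSeries_eq_bot hS (le_refl S)
  refine ⟨n, S.lowerCentralSeries, fun x hx => ?_, fun x _ hx => ?_, fun γ hγ j x hx hxj => ?_,
    fun j _ c hc' x _ hxj => lowerCentral_step hxj hc'⟩
  · rw [Subgroup.lowerCentralSeries_zero]
    exact hc.1 (hDR hx)
  · rwa [hn, Subgroup.mem_bot] at hx
  · obtain ⟨β, -, hβe⟩ := h R _ x ((mem_autGroup_iff hc.1).1 hγ) (hDR hx) (hDs x hx).1 (hDs x hx).2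
    have hxS := hc.1 (hDR hx)
    rw [hβe, autFun_apply β hxS]
    have hchar : ((S.lowerCentralSeries j).subgroupOf S).Characteristic := by
      rw [lowerCentralSeries_subgroupOf]
      infer_instance
    exact map_mem_of_characteristic (H := (S.lowerCentralSeries j).subgroupOf S) β
      (x := ⟨x, hxS⟩) hxj

end Cfsg.Lib.Fusion
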