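import Mathlib
import Cfsg.Prelude.Def_FusionSystem
import Cfsg.Prelude.Def_LocalEven
import Cfsg.Agent.Lib.Fusion.GroupSystem
import Cfsg.Agent.Lib.PStable.DStarFusion

/-!
`p`-stable groups have `p`-stable fusion systems.
-/

set_option autoImplicit false
set_option linter.style.haveILetI false

open scoped commutatorElement

namespace Cfsg.Lib.Fusion.StableSystem

open Cfsg Cfsg.FusionSystem Cfsg.Lib.Fusion

variable {G : Type*} [Group G] [Finite G] {p : ℕ} [Fact p.Prime]

/-- The system of a normalizer-`p`-stable group is `p`-stable. -/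
theorem system_of_stable (S : Sylow p G) (hst : IsNormalizerPStable p G) (Q : Subgroup G)
    (hQ : (groupFusionSystem (S : Subgroup G)).IsFullyNormalized Q) (χ : MulAut ↥Q)
    (hχ : χ ∈ (groupFusionSystem (S : Subgroup G)).autGroup Q)
    (hq : ∀ a : ↥Q, (χ a⁻¹) * a * (χ a⁻¹) * (χ (χ a)) = 1) :
    χ ∈ ((pCore p ↥((groupFusionSystem (S : Subgroup G)).autGroup Q)).map
      ((groupFusionSystem (S : Subgroup G)).autGroup Q).subtype : Subgroup (MulAut ↥Q)) := by
  set A := (groupFusionSystem (S : Subgroup G)).autGroup Q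
  have hQS := hQ.1
  have hQp : IsPGroup p Q := isPGroup_of_le S.2 hQS
  have hχ' : χ ∈ (groupFusionSystem (S : Subgroup G)).autGroup Q := hχ
  rw [autGroup_group S hQS, mem_autInducedBy_iff] at hχ'
  obtain ⟨d, -, hd⟩ := hχ'
  have hval : ∀ x : Q, ((χ x : Q) : G) = d * x * d⁻¹ := fun x => by rw [← hd _ x.2, autFun_coe]
  have hdN : d ∈ Subgroup.normalizer (Q : Set G) :=
    Subgroup.mem_normalizer_fintype fun x hx => hval ⟨x, hx⟩ ▸ (χ ⟨x, hx⟩).2
  set C := Subgroup.centralizer ({d} : Set G)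
  have hfix : ∀ a : Q, χ (a * (χ a)⁻¹) = a * (χ a)⁻¹ := fun a => by
    have h := hq a
    rw [map_inv, mul_eq_one_iff_eq_inv'] at h
    rw [map_mul, map_inv, h, mul_inv_rev, mul_inv_rev, inv_inv, inv_inv, ← mul_assoc, ← mul_assoc,
      mul_inv_cancel, one_mul]
  have hcom : ∀ (n : ℕ) (a : Q), (a : G) * (d ^ n * (a : G) * (d ^ n)⁻¹)⁻¹ ∈ C := by
    intro n
    induction n with
    | zero => intro a; simp [one_mem]
    | succ n ih =>
      intro a
      have h1 : (a : G) * (d * a * d⁻¹)⁻¹ ∈ C := by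
        refine Subgroup.mem_centralizer_singleton_iff.2 ?_
        have h := congrArg Subtype.val (hfix a)
        rw [hval, Subgroup.coe_mul, Subgroup.coe_inv, hval, mul_inv_eq_iff_eq_mul] at h
        exact h.symm
      have h2 := C.mul_mem h1 (ih (χ a))
      rw [hval] at h2
      rw [pow_succ]
      convert h2 using 1
      group
  have hquad : ⁅⁅Q, Subgroup.zpowers d⁆, Subgroup.zpowers d⁆ = ⊥ := by
    have hle : ⁅Q, Subgroup.zpowers d⁆ ≤ C := Subgroup.commutator_le.2 fun a ha b hb => by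
      obtain ⟨n, rfl⟩ := Submonoid.mem_powers_iff _ _ |>.1 (mem_powers_iff_mem_zpowers.2 hb)
      have := hcom n ⟨a, ha⟩
      rw [commutatorElement_def]
      convert this using 1
      group
    rw [Subgroup.commutator_eq_bot_iff_le_centralizer]
    refine hle.trans fun x hx => Subgroup.mem_centralizer_iff.2 ?_
    rintro _ ⟨i, rfl⟩
    exact (Commute.zpow_left (Subgroup.mem_centralizer_singleton_iff.1 hx).symm i).eq
  have hmem := hst Q hQp d hdN hquad
  set N := Subgroup.normalizer (Q : Set G)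
  have hφA : ∀ n : N, Subgroup.normalizerMonoidHom Q n ∈ A := fun n => by
    show _ ∈ (groupFusionSystem (S : Subgroup G)).autGroup Q
    rw [autGroup_group S hQS, mem_autInducedBy_iff]
    exact ⟨n, Subgroup.mem_top _, fun x hx => by rw [autFun_apply _ hx]; rfl⟩
  let ψ : N →* A := (Subgroup.normalizerMonoidHom Q).codRestrict A hφA
  set K := (Subgroup.centralizer (Q : Set G)).subgroupOf N
  have hK : K ≤ ψ.ker := fun n hn => by
    refine MonoidHom.mem_ker.2 (Subtype.ext (MulEquiv.ext fun x => Subtype.ext ?_))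
    show (n : G) * x * (n : G)⁻¹ = x
    have h : (x : G) * (n : G) = (n : G) * x := Subgroup.mem_centralizer_iff.1 hn x x.2
    rw [← h, mul_inv_cancel_right]
  let f : N ⧸ K →* A := QuotientGroup.lift K ψ hK
  have hf : Function.Surjective f := by
    rintro ⟨α, hα⟩
    have hα' : α ∈ (groupFusionSystem (S : Subgroup G)).autGroup Q := hα
    rw [autGroup_group S hQS, mem_autInducedBy_iff] at hα'
    obtain ⟨c, -, hc⟩ := hα'
    have hcN : c ∈ N := Subgroup.mem_normalizer_fintype fun x hx => hc x hx ▸ autFun_mem α hx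
    refine ⟨QuotientGroup.mk ⟨c, hcN⟩, Subtype.ext (MulEquiv.ext fun x => Subtype.ext ?_)⟩
    show c * (x : G) * c⁻¹ = (α x : Q)
    rw [← hc x x.2, autFun_coe]
  have hle : (pCore p (N ⧸ K)).map f ≤ pCore p A :=
    Cfsg.Lib.Solv.le_pCore (Subgroup.Normal.map (Cfsg.Lib.Transfer.pCore_normal p) f hf)
      ((Cfsg.Lib.Transfer.pCore_isPGroup p).map f)
  refine ⟨⟨χ, hχ⟩, ?_, rfl⟩
  have heq : f (QuotientGroup.mk ⟨d, hdN⟩) = ⟨χ, hχ⟩ := Subtype.ext (MulEquiv.ext fun x => Subtype.ext (hval x).symm)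
  exact heq ▸ hle ⟨_, hmem, rfl⟩

end Cfsg.Lib.Fusion.StableSystem
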