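import Mathlib
import Cfsg.Prelude.Def_FusionSystem
import Cfsg.Agent.Lib.Fusion.FusionTransfer
import Cfsg.Agent.Lib.Fusion.Saturation
import Cfsg.Agent.Lib.Fusion.Hyperfocal

/-!
The Thompson transfer lemma for saturated fusion systems.
-/

set_option autoImplicit false
set_option linter.style.haveILetI false

open scoped Classical

namespace Cfsg.Lib.Fusion.ThompsonTransfer

open Cfsg Cfsg.FusionSystem Cfsg.Lib.Fusion

universe u

variable {Ω : Type u} [Group Ω] {S : Subgroup Ω} {F : FusionSystem S}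

/-- The image of a cyclic group under a map. -/
theorem img_zpowers {j : Ω} {f : Ω → Ω} (hf : Mor F (Subgroup.zpowers j) f) :
    img (Subgroup.zpowers j) f = Subgroup.zpowers (f j) := by
  obtain ⟨φ, -, he⟩ := hf.exists_hom
  have hz : ∀ n : ℤ, f (j ^ n) = f j ^ n := fun n => by
    have h1 := map_zpow φ ⟨j, Subgroup.mem_zpowers j⟩ n
    rwa [he, he] at h1
  refine le_antisymm (img_le ?_) (Subgroup.zpowers_le.2 (mem_img_of_mem (Subgroup.mem_zpowers j)))
  rintro _ ⟨n, rfl⟩
  show f (j ^ n) ∈ _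
  rw [hz]
  exact Subgroup.zpow_mem _ (Subgroup.mem_zpowers _) n

/-- The transfer value at a fully normalized involution all of whose good conjugates avoid `T`. -/
theorem transfer_eq_neg_one [Finite S] (hS : IsPGroup 2 ↥S) {H : Subgroup (↥S × ↥S)} (hH : Graph F H)
    (ψ : ↥S →* ℤˣ) (j : ↥S) (hj : j ^ 2 = 1) (hjn : F.IsFullyNormalized (Subgroup.zpowers (j : Ω)))
    (hgood : ∀ y : ↥S, F.IsConjElt (j : Ω) (y : Ω) → F.IsFullyNormalized (Subgroup.zpowers (y : Ω)) → ψ y = -1)
    [Fintype (Quotient (MulAction.orbitRel (Subgroup.zpowers j) (↥S ⧸ fstP H)))]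
    (val : Quotient (MulAction.orbitRel (Subgroup.zpowers j) (↥S ⧸ fstP H)) → ℤˣ)
    (hval : ∀ o, val o = ψ (graphHom hH ⟨o.out.out⁻¹ * j ^ Function.minimalPeriod (j • ·) o.out * o.out.out,
      QuotientGroup.out_conj_pow_minimalPeriod_mem _ j o.out⟩)) :
    ∏ o, val o = (-1) ^ (fstP H).index := by
  let P := fstP H
  let g := graphHom hH
  letI := Fintype.ofFinite (↥S ⧸ P)
  have hp2 : Fact (Nat.Prime 2) := ⟨Nat.prime_two⟩
  let v : ↥S ⧸ P → ℤˣ := fun q =>
    if h : q.out⁻¹ * j * q.out ∈ P then ψ (g ⟨_, h⟩) else 1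
  have hvnf : ∀ q, ¬ j • q = q → v q = 1 := fun q hq => dif_neg fun h => hq (fixed_iff.2 h)
  -- orbits
  have hper : ∀ q : ↥S ⧸ P, Function.minimalPeriod (j • ·) q ∣ 2 := fun q => by
    rw [← MulAction.pow_smul_eq_iff_minimalPeriod_dvd, hj, one_smul]
  have hvo : ∀ o : Quotient (MulAction.orbitRel (Subgroup.zpowers j) (↥S ⧸ P)), val o = v o.out := by
    intro o
    rw [hval]
    rcases (Nat.dvd_prime Nat.prime_two).1 (hper o.out) with h | h
    · have hfix : j • o.out = o.out := by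
        have := MulAction.pow_smul_eq_iff_minimalPeriod_dvd.2 (h.symm ▸ dvd_refl 1 : Function.minimalPeriod (j • ·) o.out ∣ 1)
        rwa [pow_one] at this
      simp only [v, dif_pos (fixed_iff.1 hfix)]
      congr 2
      refine Subtype.ext ?_
      show o.out.out⁻¹ * j ^ _ * o.out.out = o.out.out⁻¹ * j * o.out.out
      rw [show Function.minimalPeriod (j • ·) o.out = 1 from h, pow_one]
    · have hnf : ¬ j • o.out = o.out := fun hfix => by
        have : Function.minimalPeriod (j • ·) o.out ∣ 1 :=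
          MulAction.pow_smul_eq_iff_minimalPeriod_dvd.1 (by rw [pow_one]; exact hfix)
        rw [h] at this
        omega
      rw [hvnf _ hnf]
      have e : (⟨o.out.out⁻¹ * j ^ Function.minimalPeriod (j • ·) o.out * o.out.out,
          QuotientGroup.out_conj_pow_minimalPeriod_mem _ j o.out⟩ : P) = 1 :=
        Subtype.ext (by simp [h, hj])
      rw [e, map_one, map_one]
  have hprod : ∏ o, val o = ∏ q, v q := by
    rw [Finset.prod_congr rfl fun o _ => hvo o,
      ← Finset.prod_image (f := v) (g := fun o : Quotient (MulAction.orbitRel (Subgroup.zpowers j) (↥S ⧸ P)) => o.out)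
        (fun a _ b _ hab => by
          rw [← Quotient.out_eq' a, ← Quotient.out_eq' b]
          exact congrArg Quotient.mk'' hab)]
    refine Finset.prod_subset (Finset.subset_univ _) fun q _ hq => ?_
    refine hvnf q fun hfix => hq (Finset.mem_image.2 ⟨Quotient.mk'' q, Finset.mem_univ _, ?_⟩)
    obtain ⟨⟨z, hz⟩, hzq⟩ : (Quotient.mk'' q : Quotient (MulAction.orbitRel (Subgroup.zpowers j) (↥S ⧸ P))).out ∈
        MulAction.orbit (Subgroup.zpowers j) q := by
      rw [← MulAction.orbitRel_apply, ← Quotient.eq'']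
      exact Quotient.out_eq' _
    rw [← hzq]
    obtain ⟨n, rfl⟩ := Subgroup.mem_zpowers_iff.1 hz
    show j ^ n • q = q
    exact MulAction.mem_stabilizer_iff.1 (Subgroup.zpow_mem _ (show j ∈ MulAction.stabilizer _ q from hfix) n)
  -- the bad fixed cosets have even number
  set C := Subgroup.centralizer ({j} : Set ↥S) with hC
  let A : SubMulAction C (↥S ⧸ P) :=
    { carrier := {q | ∃ t : ↥S, q = QuotientGroup.mk t ∧ ∃ h : t⁻¹ * j * t ∈ P, ψ (g ⟨_, h⟩) = 1}
      smul_mem' := by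
        rintro ⟨s, hs⟩ q ⟨t, rfl, h, he⟩
        have hsj : j * s = s * j := (Subgroup.mem_centralizer_singleton_iff.1 hs).symm
        have e : (s * t)⁻¹ * j * (s * t) = t⁻¹ * j * t := by
          rw [mul_inv_rev]
          calc t⁻¹ * s⁻¹ * j * (s * t) = t⁻¹ * s⁻¹ * (j * s) * t := by group
            _ = t⁻¹ * j * t := by rw [hsj]; group
        refine ⟨s * t, rfl, e ▸ h, ?_⟩
        rw [show (⟨(s * t)⁻¹ * j * (s * t), e ▸ h⟩ : P) = ⟨_, h⟩ from Subtype.ext e]
        exact he }
  have hAiff : ∀ q, q ∈ A ↔ (j • q = q ∧ v q = 1) := by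
    intro q
    constructor
    · rintro ⟨t, rfl, h, he⟩
      have hfix : j • (QuotientGroup.mk t : ↥S ⧸ P) = QuotientGroup.mk t :=
        (Stable.smul_mk_iff (K := (⊤ : Subgroup ↥S))).2 h
      refine ⟨hfix, ?_⟩
      simp only [v, dif_pos (fixed_iff.1 hfix)]
      obtain ⟨u, hu⟩ := QuotientGroup.mk_out_eq_mul P t
      rw [show (⟨_, fixed_iff.1 hfix⟩ : P) = u⁻¹ * ⟨_, h⟩ * u from Subtype.ext (by
          simp only [Subgroup.coe_mul, Subgroup.coe_inv, hu, mul_inv_rev]
          group)]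
      simp only [map_mul, map_inv]
      rw [show ψ (g ⟨_, h⟩) = 1 from he, mul_one, inv_mul_cancel]
    · rintro ⟨hfix, hv⟩
      refine ⟨q.out, (QuotientGroup.out_eq' q).symm, fixed_iff.1 hfix, ?_⟩
      simpa only [v, dif_pos (fixed_iff.1 hfix)] using hv
  have hAeven : 2 ∣ Nat.card A := by
    have hCp : IsPGroup 2 C := hS.to_subgroup C
    have hmod := hCp.card_modEq_card_fixedPoints A
    have h0 : Nat.card (MulAction.fixedPoints C A) = 0 := by
      rw [Nat.card_eq_zero]
      refine Or.inl ⟨fun ⟨⟨q, hq⟩, hqf⟩ => ?_⟩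
      obtain ⟨t, rfl, h, he⟩ := hq
      have hall : ∀ s ∈ C, t⁻¹ * s * t ∈ P := fun s hs => by
        have h1 := congrArg Subtype.val (hqf ⟨s, hs⟩)
        exact (Stable.smul_mk_iff (K := (⊤ : Subgroup ↥S))).1 h1
      let y : ↥S := g ⟨_, h⟩
      let φ : C →* ↥S := g.comp
        (((MulAut.conj t⁻¹).toMonoidHom.comp C.subtype).codRestrict P fun s => by
          show t⁻¹ * (s : ↥S) * t⁻¹⁻¹ ∈ P
          rw [inv_inv]
          exact hall s s.2)
      obtain ⟨f, hf, hfe⟩ := hH
      have hgf : ∀ u : P, ((g u : ↥S) : Ω) = f ((u : ↥S) : Ω) := fun u =>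
        (hfe _ (graphHom_mem ⟨f, hf, hfe⟩ u)).symm
      have hmemproj : ∀ u : P, ((u : ↥S) : Ω) ∈ proj H := fun u =>
        mem_proj (graphHom_mem ⟨f, hf, hfe⟩ u)
      have hjz : (j : Ω) ∈ S := j.2
      have hm1 : Mor F (Subgroup.zpowers (j : Ω)) (fun x => f ((t : Ω)⁻¹ * x * (t : Ω)⁻¹⁻¹)) := by
        refine hf.comp (mor_conj (Subgroup.zpowers_le.2 hjz) (S.inv_mem t.2)) ?_
        rintro _ ⟨n, rfl⟩
        have hn := hmemproj ⟨_, hall (j ^ n) (Subgroup.zpow_mem _ (Subgroup.mem_centralizer_singleton_iff.2 rfl) n)⟩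
        simpa using hn
      have hy : (y : Ω) = f ((t : Ω)⁻¹ * (j : Ω) * (t : Ω)⁻¹⁻¹) := by
        rw [hgf, inv_inv]
        rfl
      have hyc : F.IsConjElt (j : Ω) (y : Ω) := by
        obtain ⟨φ', hφ', hφe⟩ := hm1.exists_hom
        exact ⟨φ', hφ', (hφe _).trans hy.symm⟩
      have hconj : F.IsConj (Subgroup.zpowers (j : Ω)) (Subgroup.zpowers (y : Ω)) := by
        refine isConj_iff.2 ⟨_, hm1, ?_⟩
        rw [img_zpowers hm1, hy]
      have hyn : F.IsFullyNormalized (Subgroup.zpowers (y : Ω)) := by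
        refine ⟨Subgroup.zpowers_le.2 y.2, fun Q hQ => ?_⟩
        refine (hjn.2 Q (isConj_trans hconj hQ)).trans ?_
        have hnj : ∀ c : Ω, c ∈ normalizerIn S (Subgroup.zpowers (j : Ω)) → ∃ hc : c ∈ S, (⟨c, hc⟩ : ↥S) ∈ C := by
          intro c hc
          have hcS := normalizerIn_le hc
          refine ⟨hcS, Subgroup.mem_centralizer_singleton_iff.2 ?_⟩
          obtain ⟨n, hn⟩ := conj_mem_of_mem_normalizerIn hc (Subgroup.mem_zpowers (j : Ω))
          have hn' : (j : Ω) ^ n = c * j * c⁻¹ := hn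
          have hj2 : (j : Ω) ^ (2 : ℤ) = 1 := by
            rw [zpow_ofNat]; exact congrArg Subtype.val hj
          rcases Int.emod_two_eq_zero_or_one n with h2 | h2
          · rw [← Int.emod_add_mul_ediv n 2, h2, zero_add, zpow_mul, hj2, one_zpow, eq_comm,
              conj_eq_one_iff] at hn'
            refine Subtype.ext ?_
            show c * (j : Ω) = j * c
            rw [hn', mul_one, one_mul]
          · rw [← Int.emod_add_mul_ediv n 2, h2, zpow_add, zpow_mul, hj2, one_zpow, mul_one, zpow_one,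
              eq_mul_inv_iff_mul_eq] at hn'
            exact Subtype.ext hn'.symm
        haveI : Finite ↥(normalizerIn S (Subgroup.zpowers (y : Ω))) := finite_of_le normalizerIn_le
        refine Nat.card_le_card_of_injective
          (fun c => (⟨((φ ⟨⟨c.1, (hnj c.1 c.2).1⟩, (hnj c.1 c.2).2⟩ : ↥S) : Ω), ?_⟩ :
            normalizerIn S (Subgroup.zpowers (y : Ω)))) ?_
        · refine mem_normalizerIn_of_conj (Subgroup.zpowers_le.2 y.2) (SetLike.coe_mem _) ?_
          rintro _ ⟨n, rfl⟩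
          set c' : C := ⟨⟨c.1, (hnj c.1 c.2).1⟩, (hnj c.1 c.2).2⟩
          have hjC : j ∈ C := Subgroup.mem_centralizer_singleton_iff.2 rfl
          have hφj : φ ⟨j, hjC⟩ = y := by
            show g _ = g _
            congr 1
            exact Subtype.ext (by show t⁻¹ * j * t⁻¹⁻¹ = t⁻¹ * j * t; rw [inv_inv])
          have hcomm : Commute (φ c') (y ^ n) := by
            rw [← hφj]
            refine (Commute.map (?_ : Commute c' ⟨j, hjC⟩) φ).zpow_right n
            exact Subtype.ext (Subgroup.mem_centralizer_singleton_iff.1 c'.2)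
          refine ⟨n, ?_⟩
          have h1 := congrArg Subtype.val (show φ c' * y ^ n * (φ c')⁻¹ = y ^ n by
            rw [hcomm.eq, mul_inv_cancel_right])
          exact h1.symm
        · intro a b hab
          have h1 : φ ⟨⟨a.1, (hnj a.1 a.2).1⟩, (hnj a.1 a.2).2⟩ = φ ⟨⟨b.1, (hnj b.1 b.2).1⟩, (hnj b.1 b.2).2⟩ :=
            Subtype.ext (congrArg (fun z : normalizerIn S (Subgroup.zpowers (y : Ω)) => (z : Ω)) hab)
          have hinj : ∀ u w : P, g u = g w → u = w := fun u w e => by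
            refine Subtype.ext (Subtype.ext ?_)
            refine hf.injOn (hmemproj u) (hmemproj w) ?_
            rw [← hgf, ← hgf, e]
          have h2 := congrArg Subtype.val (hinj _ _ h1)
          have h3 := congrArg Subtype.val ((MulAut.conj t⁻¹).injective h2)
          exact Subtype.ext h3
      have := hgood y hyc hyn
      rw [show ψ y = 1 from he] at this
      exact absurd this (by decide)
    rw [h0] at hmod
    exact (Nat.modEq_zero_iff_dvd).1 hmod
  -- fixed points
  have hZp : IsPGroup 2 (Subgroup.zpowers j) := hS.to_subgroup _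
  have hmodZ := hZp.card_modEq_card_fixedPoints (↥S ⧸ P)
  have hfixset : Nat.card (MulAction.fixedPoints (Subgroup.zpowers j) (↥S ⧸ P)) =
      (Finset.univ.filter fun q : ↥S ⧸ P => j • q = q).card := by
    rw [← Fintype.card_subtype, ← Nat.card_eq_fintype_card]
    refine Nat.card_congr (Equiv.subtypeEquivRight fun q => ⟨fun h => h ⟨j, Subgroup.mem_zpowers j⟩, fun h z => ?_⟩)
    exact MulAction.mem_stabilizer_iff.1 ((Subgroup.zpowers_le.2 (show j ∈ MulAction.stabilizer _ q from h)) z.2)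
  have hpm : ∀ z : ℤˣ, z = 1 ∨ z = -1 := fun z => Int.units_eq_one_or z
  rw [hprod, ← Finset.prod_filter_mul_prod_filter_not Finset.univ (fun q : ↥S ⧸ P => j • q = q),
    Finset.prod_eq_one (s := Finset.univ.filter fun q : ↥S ⧸ P => ¬ j • q = q)
      (fun q hq => hvnf q (Finset.mem_filter.1 hq).2), mul_one,
    ← Finset.prod_filter_mul_prod_filter_not (Finset.univ.filter fun q : ↥S ⧸ P => j • q = q) (fun q => v q = 1),
    Finset.prod_eq_one (fun q hq => (Finset.mem_filter.1 hq).2), one_mul,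
    Finset.prod_congr rfl (fun q hq => (hpm (v q)).resolve_left (Finset.mem_filter.1 hq).2),
    Finset.prod_const, Int.units_pow_eq_pow_mod_two, Int.units_pow_eq_pow_mod_two (-1) (fstP H).index]
  congr 1
  have hAcard : Nat.card A = ((Finset.univ.filter fun q : ↥S ⧸ P => j • q = q).filter fun q => v q = 1).card := by
    rw [Finset.filter_filter, ← Fintype.card_subtype, ← Nat.card_eq_fintype_card]
    exact Nat.card_congr (Equiv.subtypeEquivRight fun q => hAiff q)
  have htot := Finset.card_filter_add_card_filter_not (s := Finset.univ.filter fun q : ↥S ⧸ P => j • q = q)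
    (p := fun q => v q = 1)
  rw [Subgroup.index_eq_card]
  have hmod2 : Nat.card (↥S ⧸ P) % 2 = (Finset.univ.filter fun q : ↥S ⧸ P => j • q = q).card % 2 :=
    hfixset ▸ hmodZ
  rw [hmod2, ← htot, ← hAcard]
  obtain ⟨m, hm⟩ := hAeven
  omega

/-- The main theorem. -/
theorem main [Finite S] (hS : IsPGroup 2 ↥S) (hF : F.IsSaturated 2)
    {T : Subgroup Ω} (hTS : T ≤ S) (hT : T.relIndex S = 2)
    {i : Ω} (hi : i ∈ S) (hi2 : orderOf i = 2)
    (h : ∀ j : Ω, F.IsConjElt i j → F.IsFullyNormalized (Subgroup.zpowers j) → j ∉ T) :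
    i ∉ F.hyperfocalSubgroup 2 := by
  have hp2 : Fact (Nat.Prime 2) := ⟨Nat.prime_two⟩
  intro hih
  set T' := T.subgroupOf S
  have hidx : T'.index = 2 := hT
  let ψ : ↥S →* ℤˣ := MonoidHom.mk' (fun s => if s ∈ T' then 1 else -1) fun a b => by
    have := Subgroup.mul_mem_iff_of_index_two hidx (a := a) (b := b)
    by_cases ha : a ∈ T' <;> by_cases hb : b ∈ T' <;> simp_all
  have hψ : ∀ s : ↥S, (s : Ω) ∉ T → ψ s = -1 := fun s hs => if_neg fun h => hs h
  letI := Fintype.ofFinite {H : Subgroup (↥S × ↥S) // Graph F H}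
  obtain ⟨c, hc, hst, hn⟩ := exists_weighting hS hF
  -- a fully normalized conjugate
  obtain ⟨Q, hQ, hQn⟩ := exists_fullyNormalized F (Subgroup.zpowers_le.2 hi)
  obtain ⟨f, hf, rfl⟩ := isConj_iff.1 hQ
  rw [img_zpowers hf] at hQn
  set j : ↥S := ⟨f i, hf.mem (Subgroup.mem_zpowers i)⟩
  have hj : j ^ 2 = 1 := by
    refine Subtype.ext ?_
    show f i ^ 2 = 1
    obtain ⟨φ, -, he⟩ := hf.exists_hom
    rw [← he ⟨i, Subgroup.mem_zpowers i⟩, ← map_pow,
      show (⟨i, Subgroup.mem_zpowers i⟩ : Subgroup.zpowers i) ^ 2 = 1 from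
        Subtype.ext (by show i ^ 2 = 1; rw [← hi2, pow_orderOf_eq_one]), map_one]
  let τ : ↥S →* ℤˣ := (Abelianization.lift ψ).comp (biTransfer c F)
  have hτj : τ j = -1 := by
    letI := Fintype.ofFinite (OrbIdx F j)
    letI : ∀ H : {H : Subgroup (↥S × ↥S) // Graph F H},
      Fintype (Quotient (MulAction.orbitRel (Subgroup.zpowers j)
        (↥S ⧸ fstP (H : Subgroup (↥S × ↥S))))) := fun _ => Fintype.ofFinite _
    show Abelianization.lift ψ (biTransfer c F j) = -1
    rw [biTransfer_eq c j, map_prod, prod_orbIdx,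
      Finset.prod_congr rfl (fun (H : {H : Subgroup (↥S × ↥S) // Graph F H}) _ => show
        ∏ o, Abelianization.lift ψ (orbVal (⟨H, o⟩ : OrbIdx F j) ^ c H) =
          (-1 : ℤˣ) ^ (c H * (fstP (H : Subgroup (↥S × ↥S))).index) from ?_),
      Finset.prod_pow_eq_pow_sum]
    · exact Odd.neg_one_pow (Nat.not_even_iff_odd.1 fun he => hn (even_iff_two_dvd.1 he))
    · simp only [map_pow, Finset.prod_pow]
      rw [transfer_eq_neg_one hS H.2 ψ j hj hQn ?_ (fun o => Abelianization.lift ψ (orbVal (⟨H, o⟩ : OrbIdx F j)))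
        (fun o => Abelianization.lift_apply_of _ _), ← pow_mul, mul_comm]
      intro y hy hyn
      refine hψ y (h y ?_ hyn)
      obtain ⟨φ, hφ, hφe⟩ := hy
      have hm := hf.comp (mor_id hf.le) (fun x hx => hx)
      have hzj : ∀ x ∈ Subgroup.zpowers i, f x ∈ Subgroup.zpowers (f i) := fun x hx =>
        img_zpowers hf ▸ mem_img_of_mem hx
      obtain ⟨χ, hχ, hχe⟩ := ((mor_extFun hφ).comp hf hzj).exists_hom
      refine ⟨χ, hχ, ?_⟩
      rw [hχe, ← hφe]
      exact extFun_coe φ ⟨_, Subgroup.mem_zpowers _⟩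
  have hτi : τ ⟨i, hi⟩ = τ j :=
    (congrArg (Abelianization.lift ψ) (biTransfer_mor hc hst hf (Subgroup.mem_zpowers i))).symm
  have hker : F.hyperfocalSubgroup 2 ≤ τ.ker.map S.subtype := by
    refine (Subgroup.closure_le _).2 ?_
    rintro _ ⟨P, α, x, hP, -, rfl⟩
    have hm := (mem_autGroup_iff hP).1 α.2
    refine ⟨⟨x, hP x.2⟩⁻¹ * ⟨autFun (α : MulAut P) x, hm.mem x.2⟩, ?_, ?_⟩
    · rw [SetLike.mem_coe, MonoidHom.mem_ker, map_mul, map_inv, inv_mul_eq_one]
      exact (congrArg (Abelianization.lift ψ) (biTransfer_mor hc hst hm x.2)).symm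
    · show (x : Ω)⁻¹ * autFun (α : MulAut P) x = _
      rw [autFun_coe]
  obtain ⟨w, hw, hwi⟩ := hker hih
  obtain rfl : w = ⟨i, hi⟩ := Subtype.ext hwi
  have hw1 : τ ⟨i, hi⟩ = 1 := hw
  rw [hτi, hτj] at hw1
  exact absurd hw1 (by decide)

end Cfsg.Lib.Fusion.ThompsonTransfer
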