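import Mathlib
import Cfsg.Agent.Lib.Fusion.TateFusion
import Cfsg.Agent.Lib.Fusion.LocalSystem
import Cfsg.Agent.Lib.Fusion.ExtSystem
import Cfsg.Agent.Lib.Yoshida.Wreath

/-!
Yoshida's theorem for saturated fusion systems.
-/

set_option autoImplicit false
set_option linter.style.haveILetI false

open scoped Classical commutatorElement

namespace Cfsg.Lib.Fusion

open Cfsg Cfsg.FusionSystem

universe u

variable {Ω : Type u} [Group Ω] {S : Subgroup Ω} {F : FusionSystem S} {p : ℕ}

theorem exists_wreath_of_focal_ne [Finite S] [Fact p.Prime] (hS : IsPGroup p S)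
    (hF : F.IsSaturated p) (N : FusionSystem (normalizerIn S S))
    (hN : F.IsNormalizerSystem S N) (hne : N.focalSubgroup ≠ F.focalSubgroup) :
    ∃ (W : Sylow p (Equiv.Perm (Fin (p ^ 2))))
      (f : ↥S →* ↥(W : Subgroup (Equiv.Perm (Fin (p ^ 2))))), Function.Surjective f := by
  set H := normalizerExt F S S le_rfl normalizerIn_self.ge
  have hmor : ∀ P f, Mor N P f ↔ Mor H P f := fun P f => by
    rw [mor_of_isNormalizerSystem hN le_rfl, mor_normalizerExt_iff, normalizerIn_self]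
  have hHF : ∀ P f, Mor H P f → Mor F P f := fun P f hf => by
    obtain ⟨-, -, k, hk, hke, -⟩ := mor_normalizerExt_iff.1 hf
    exact (hk.restrict le_sup_left).congr hke
  have hfocN : N.focalSubgroup = H.focalSubgroup := le_antisymm
    (focal_le_iff.2 fun P f hf x hx => mem_focal ((hmor P f).1 hf) hx)
    (focal_le_iff.2 fun P f hf x hx => mem_focal ((hmor P f).2 hf) hx)
  have hHle : H.focalSubgroup ≤ F.focalSubgroup := focal_le_iff.2 fun P f hf x hx =>
    mem_focal (hHF P f hf) hx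
  have hfocS : F.focalSubgroup ≤ S := focal_le_iff.2 fun P f hf x hx =>
    S.mul_mem (S.inv_mem (hf.le hx)) (hf.mem hx)
  -- a homomorphism killing the focal subgroup of the normalizer only
  obtain ⟨y, hy, hyL⟩ : ∃ y ∈ F.focalSubgroup,
      y ∉ (frattini ↥S).map S.subtype ⊔ H.focalSubgroup := by
    by_contra hc
    push Not at hc
    exact hne (hfocN.trans (le_antisymm hHle (focal_le_of_le_sup_frattini hS hF hHF hc)))
  set L := frattini ↥S ⊔ H.focalSubgroup.subgroupOf S with hL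
  have hcL : commutator ↥S ≤ L :=
    (Cfsg.Lib.Solv.commutator_le_frattini hS).trans le_sup_left
  haveI : L.Normal := Subgroup.Normal.of_commutator_le ↥S hcL
  have hyL' : (⟨y, hfocS hy⟩ : ↥S) ∉ L := fun h => hyL (by
    have h1 : y ∈ L.map S.subtype := ⟨_, h, rfl⟩
    rwa [hL, Subgroup.map_sup, Subgroup.map_subgroupOf_eq_of_le (hHle.trans hfocS)] at h1)
  have hQ : frattini (↥S ⧸ L) = ⊥ := le_bot_iff.1
    (Cfsg.Lib.Solv.frattini_le_of_elementary_quotient (p := p) ⊥
      (by
        rw [commutator_def, ← Subgroup.map_top_of_surjective (QuotientGroup.mk' L)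
          (QuotientGroup.mk'_surjective L), ← Subgroup.map_commutator, ← commutator_def,
          le_bot_iff, Subgroup.map_eq_bot_iff, QuotientGroup.ker_mk']
        exact hcL)
      (fun z => by
        obtain ⟨z, rfl⟩ := QuotientGroup.mk'_surjective L z
        rw [Subgroup.mem_bot, ← map_pow]
        exact (QuotientGroup.eq_one_iff _).2
          (Subgroup.mem_sup_left (Cfsg.Lib.Solv.pow_mem_frattini hS z))))
  obtain ⟨M, hM, hyM⟩ : ∃ M : Subgroup (↥S ⧸ L), IsCoatom M ∧
      ((⟨y, hfocS hy⟩ : ↥S) : ↥S ⧸ L) ∉ M := by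
    by_contra hc
    push Not at hc
    have h1 := Cfsg.Lib.Solv.mem_frattini_iff.2 fun M hM => hc M hM
    rw [hQ, Subgroup.mem_bot, QuotientGroup.eq_one_iff] at h1
    exact hyL' h1
  have hQp := hS.to_quotient L
  haveI : Group.IsNilpotent (↥S ⧸ L) := hQp.isNilpotent
  haveI : M.Normal := Cfsg.Lib.Solv.coatom_normal_of_nilpotent hM
  have hMc : Nat.card ((↥S ⧸ L) ⧸ M) = p := by
    rw [← Subgroup.index_eq_card]
    exact Cfsg.Lib.Solv.coatom_index_eq_prime hQp hM
  haveI : IsCyclic ((↥S ⧸ L) ⧸ M) := isCyclic_of_prime_card hMc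
  let e : (↥S ⧸ L) ⧸ M ≃* Multiplicative (ZMod p) :=
    (zmodCyclicMulEquiv ‹_›).symm.trans
      (AddEquiv.toMultiplicative (ZMod.ringEquivCongr hMc).toAddEquiv)
  let β : ↥S →* Multiplicative (ZMod p) :=
    e.toMonoidHom.comp ((QuotientGroup.mk' M).comp (QuotientGroup.mk' L))
  have hβH : ∀ z : ↥S, (z : Ω) ∈ H.focalSubgroup → β z = 1 := fun z hz => by
    show e ((QuotientGroup.mk' M) ((QuotientGroup.mk' L) z)) = 1
    rw [show (QuotientGroup.mk' L) z = 1 from
      (QuotientGroup.eq_one_iff z).2 (Subgroup.mem_sup_right hz), map_one, map_one]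
  have hβy : β ⟨y, hfocS hy⟩ ≠ 1 := fun h =>
    hyM ((QuotientGroup.eq_one_iff _).1 (e.injective (h.trans (map_one e).symm)))
  -- an element of smallest order
  obtain ⟨x, ⟨hxf, hxβ⟩, hxmin⟩ := (Set.toFinite {z : ↥S | (z : Ω) ∈ F.focalSubgroup ∧ β z ≠ 1})
    |>.exists_minimalFor (fun z : ↥S => orderOf z) _ ⟨⟨y, hfocS hy⟩, hy, hβy⟩
  have hsmall : ∀ z : ↥S, (z : Ω) ∈ F.focalSubgroup → orderOf z < orderOf x → β z = 1 :=
    fun z hz hlt => of_not_not fun hne => (hxmin ⟨hz, hne⟩ hlt.le).not_gt hlt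
  letI := Fintype.ofFinite {K : Subgroup (↥S × ↥S) // Graph F K}
  obtain ⟨c, hc, hst, hn⟩ := exists_weighting hS hF
  let γ : ∀ K : {K : Subgroup (↥S × ↥S) // Graph F K},
      fstP (K : Subgroup (↥S × ↥S)) →* Multiplicative (ZMod p) := fun K => β.comp (graphHom K.2)
  let T : ↥S →* Multiplicative (ZMod p) := ∏ K, (MonoidHom.transfer (γ K)) ^ c K.1
  have hT : ∀ z, T z = vTransfer β c F z := by
    intro z
    letI := Fintype.ofFinite (OrbIdx F z)
    letI : ∀ K : {K : Subgroup (↥S × ↥S) // Graph F K}, Fintype (Quotient (MulAction.orbitRel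
      (Subgroup.zpowers z) (↥S ⧸ fstP (K : Subgroup (↥S × ↥S))))) := fun _ => Fintype.ofFinite _
    show (∏ K, (MonoidHom.transfer (γ K)) ^ c K.1) z = _
    rw [MonoidHom.finsetProd_apply, vTransfer_eq, prod_orbIdx]
    refine Finset.prod_congr rfl fun K _ => ?_
    rw [MonoidHom.pow_apply, MonoidHom.transfer_eq_prod_quotient_orbitRel_zpowers_quot,
      ← Finset.prod_pow]
    rfl
  have hTx : T x = 1 := by
    have hker : F.focalSubgroup ≤ T.ker.map S.subtype := focal_le_iff.2 fun P f hf w hw =>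
      ⟨⟨w, hf.le hw⟩⁻¹ * ⟨f w, hf.mem hw⟩, by
        rw [SetLike.mem_coe, MonoidHom.mem_ker, map_mul, map_inv, hT, hT,
          vTransfer_mor (D := ⊤) (fun s z => by rw [map_mul, map_mul, map_inv, mul_inv_cancel_comm])
            hc hst (fun z _ k => map_pow β z k) (fun _ _ _ _ _ _ => Subgroup.mem_top _) hf hw
            (Subgroup.mem_top _) (Subgroup.mem_top _), inv_mul_cancel], rfl⟩
    obtain ⟨w, hw, hwx⟩ := hker hxf
    rw [← Subtype.ext (a1 := w) (a2 := x) hwx]
    exact hw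
  have van : ∀ (K : {K : Subgroup (↥S × ↥S) // Graph F K}) (k : ℕ) (a : ↥S)
      (h : a⁻¹ * x ^ k * a ∈ fstP (K : Subgroup (↥S × ↥S))), p ∣ k → γ K ⟨_, h⟩ = 1 := by
    intro K k a h hk
    obtain ⟨f, hf, he⟩ := id K.2
    set w : fstP (K : Subgroup (↥S × ↥S)) := ⟨_, h⟩
    have hm := graphHom_mem K.2 w
    have hwF : (((w : ↥S)) : Ω) ∈ F.focalSubgroup := by
      have h1 : ((x ^ k : ↥S) : Ω) ∈ F.focalSubgroup := by
        rw [SubgroupClass.coe_pow]
        exact pow_mem hxf k
      have h2 := mem_focal (F := F) (mor_conj (P := S) le_rfl (S.inv_mem a.2)) (x ^ k).2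
      have h3 := mul_mem h1 h2
      rw [mul_inv_cancel_left, inv_inv] at h3
      show _ ∈ _
      simpa [w] using h3
    have hgF : ((graphHom K.2 w : ↥S) : Ω) ∈ F.focalSubgroup := by
      have h2 := mul_mem hwF (mem_focal hf (mem_proj hm))
      rw [mul_inv_cancel_left, he _ hm] at h2
      exact h2
    show β (graphHom K.2 w) = 1
    refine hsmall _ hgF (lt_of_le_of_lt (b := orderOf (x ^ k)) ?_ ?_)
    · refine (Nat.le_of_dvd (orderOf_pos _) (orderOf_map_dvd (graphHom K.2) w)).trans (le_of_eq ?_)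
      rw [← orderOf_injective _ (fstP (K : Subgroup (↥S × ↥S))).subtype_injective w]
      show orderOf (a⁻¹ * x ^ k * a) = _
      rw [← orderOf_injective (MulAut.conj a⁻¹).toMonoidHom (MulAut.conj a⁻¹).injective (x ^ k)]
      simp
    · refine lt_of_le_of_ne (Nat.le_of_dvd (orderOf_pos x) (orderOf_pow_dvd k)) fun e => ?_
      obtain ⟨j, hj⟩ := hS x
      obtain ⟨i, -, hi⟩ := (Nat.dvd_prime_pow (Fact.out : p.Prime)).1 (orderOf_dvd_of_pow_eq_one hj)
      have hi0 : i ≠ 0 := fun e0 => hxβ (by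
        rw [e0, pow_zero, orderOf_eq_one_iff] at hi
        rw [hi, map_one])
      have hdiv : p ∣ Nat.gcd (orderOf x) k :=
        Nat.dvd_gcd (hi.symm ▸ dvd_pow_self p hi0) hk
      rw [orderOf_pow] at e
      have h5 : orderOf x / Nat.gcd (orderOf x) k < orderOf x := Nat.div_lt_self (orderOf_pos x)
        (lt_of_lt_of_le (Fact.out : p.Prime).one_lt
          (Nat.le_of_dvd (Nat.gcd_pos_of_pos_left _ (orderOf_pos x)) hdiv))
      exact absurd e h5.ne
  by_contra hno
  have hall : ∀ K : {K : Subgroup (↥S × ↥S) // Graph F K},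
      MonoidHom.transfer (γ K) x = β x ^ (fstP (K : Subgroup (↥S × ↥S))).index := by
    intro K
    by_cases htop : fstP (K : Subgroup (↥S × ↥S)) = ⊤
    · have hxP : x ∈ fstP (K : Subgroup (↥S × ↥S)) := htop ▸ Subgroup.mem_top x
      rw [show (fstP (K : Subgroup (↥S × ↥S))).index = 1 from Subgroup.index_eq_one.2 htop,
        pow_one]
      letI := Fintype.ofFinite (↥S ⧸ fstP (K : Subgroup (↥S × ↥S)))
      haveI : Subsingleton (↥S ⧸ fstP (K : Subgroup (↥S × ↥S))) :=
        QuotientGroup.subsingleton_iff.2 htop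
      rw [Cfsg.Lib.Yoshida.transfer_eq_prod_fixed hS (γ K) x ?_,
        Fintype.prod_subsingleton _ ((1 : ↥S) : ↥S ⧸ fstP (K : Subgroup (↥S × ↥S))),
        Cfsg.Lib.Yoshida.fixedVal_mk, dif_pos (by simpa using hxP)]
      · obtain ⟨f, hf, he⟩ := id K.2
        have hproj : proj (K : Subgroup (↥S × ↥S)) = S := le_antisymm (proj_le _) fun z hz => by
          have hzP : (⟨z, hz⟩ : ↥S) ∈ fstP (K : Subgroup (↥S × ↥S)) :=
            htop ▸ Subgroup.mem_top _
          exact mem_proj (graphHom_mem K.2 ⟨_, hzP⟩)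
        have hfS : Mor F S f := hf.source_congr hproj
        have hfi : img S f = S :=
          hfS.img_eq_of_card_le le_rfl (fun z hz => hfS.mem hz) le_rfl
        have hfH : Mor H S f := mor_normalizerExt_iff.2 ⟨le_rfl, fun z hz => hfS.mem hz, f,
          hfS.source_congr (sup_idem S).symm, fun _ _ => rfl, hfi⟩
        set w : fstP (K : Subgroup (↥S × ↥S)) := ⟨(1 : ↥S)⁻¹ * x * 1, by simpa using hxP⟩
        have h1 : (x : Ω)⁻¹ * ((graphHom K.2 w : ↥S) : Ω) ∈ H.focalSubgroup := by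
          rw [← he _ (graphHom_mem K.2 w), show (((w : ↥S)) : Ω) = x by simp [w]]
          exact mem_focal hfH x.2
        have h2 := hβH (x⁻¹ * graphHom K.2 w) h1
        rw [map_mul, map_inv, inv_mul_eq_one] at h2
        exact h2.symm
      · intro k a h hk
        exact van K k a h hk
    · have hd : p ∣ (fstP (K : Subgroup (↥S × ↥S))).index := by
        obtain ⟨j, hj⟩ := hS.index (fstP (K : Subgroup (↥S × ↥S)))
        rw [hj]
        exact dvd_pow_self p fun e => htop (Subgroup.index_eq_one.1 (by rw [hj, e, pow_zero]))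
      obtain ⟨q, hq⟩ := hd
      rw [show β x ^ (fstP (K : Subgroup (↥S × ↥S))).index = 1 by
        rw [hq, pow_mul, ← toAdd_eq_zero, toAdd_pow, toAdd_pow, smul_comm, ← Nat.cast_smul_eq_nsmul
          (ZMod p) p, ZMod.natCast_self, zero_smul]]
      by_contra hne
      exact hno (Cfsg.Lib.Yoshida.exists_surjective_sylow_perm hS htop (γ K) x
        (fun k a h hk => van K k a h hk) hne)
  refine hxβ ?_
  have h1 : T x = β x ^ (∑ K : {K : Subgroup (↥S × ↥S) // Graph F K},
      c K * (fstP (K : Subgroup (↥S × ↥S))).index) := by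
    show (∏ K, (MonoidHom.transfer (γ K)) ^ c K.1) x = _
    rw [MonoidHom.finsetProd_apply, ← Finset.prod_pow_eq_pow_sum]
    refine Finset.prod_congr rfl fun K _ => ?_
    rw [MonoidHom.pow_apply, hall, ← pow_mul, mul_comm]
  rw [hTx] at h1
  refine eq_one_of_pow_coprime (p := p) ?_ ((Fact.out : p.Prime).coprime_iff_not_dvd.2 hn).symm h1.symm
  exact IsPGroup.of_card (n := 1) (by simp)

end Cfsg.Lib.Fusion
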